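import Cfsg.Agent.Lib.Helper28.Fi24x306936.ChkAll

set_option autoImplicit false

namespace Cfsg.Agent.Lib.Helper28.Fi24x306936

open Cfsg.Spor.Fi24 (Gen)
open Cfsg.Spor
open Cfsg.Agent.Lib.Helper28.TC
open Cfsg.Agent.Lib.Helper28.TC2

/-- the relators of the presentation -/
abbrev rels : Set (FreeGroup Gen) := coxRelators Fi24.edges ∪ {r | r ∈ Fi24.extra}

/-- the subgroup generators -/
abbrev subS : Set (FreeGroup Gen) :=
  {Fi24.a, Fi24.b, Fi24.c, Fi24.d, Fi24.e, Fi24.f, Fi24.g, Fi24.h, Fi24.i, Fi24.j, Fi24.l}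

theorem nn_pos : 0 < nn := by decide

theorem mem_letters (y : Ltr) : y ∈ letters := by
  cases y <;> decide

theorem binv_binv (y : Ltr) : binv (binv y) = y := by
  rfl

theorem hcover (y : Ltr) : ∃ a, y = emb a ∨ y = binv (emb a) := by
  exact ⟨y, Or.inl rfl⟩

theorem permP_spec (i : ℕ) (hi : i < nn) :
    (∀ x, tf x i < nn ∧ tf (binv x) (tf x i) = i) ∧ coxRowOK tf coxPairs i = true ∧
      powRowsOK tf tau powItems i = true ∧ ∀ w ∈ plainWords, act tf w i = i := by
  have h := permP_all i hi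
  unfold permP at h
  rw [band_eq_true, band_eq_true, band_eq_true] at h
  exact ⟨permRowOK2_spec tf binv nn letters mem_letters i h.1, h.2.1, h.2.2.1,
    relRowOK_spec tf plainWords i h.2.2.2⟩

/-- the permutation table -/
noncomputable def T : PermTable2 Ltr binv nn where
  tf := tf
  bound x i hi := ((permP_spec i hi).1 x).1
  invl x i hi := ((permP_spec i hi).1 x).2
  binv_binv := binv_binv

theorem cox_items_ok : ∀ it ∈ coxItems, binv (emb it.1) = emb it.1 ∧ binv (emb it.2.1) = emb it.2.1 ∧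
    it.1 ∈ coxNodes Fi24.edges ∧ it.2.1 ∈ coxNodes Fi24.edges ∧
    it.2.2 = coxLabel Fi24.edges it.1 it.2.1 := by decide +kernel

theorem coxPairs_eq : coxPairs = coxItems.map (fun it =>
    (emb it.1, emb it.2.1, (List.replicate it.2.2 [emb it.1, emb it.2.1]).flatten)) := by
  decide +kernel

theorem cox_item_perm : ∀ it ∈ coxItems,
    (T.perm (emb it.1) * T.perm (emb it.2.1)) ^ it.2.2 = 1 := by
  intro it hit
  obtain ⟨hx, hy, _⟩ := cox_items_ok it hit
  refine cox_pair_perm T _ _ _ hx hy (fun i hi => ?_)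
  have hp : (emb it.1, emb it.2.1, (List.replicate it.2.2 [emb it.1, emb it.2.1]).flatten) ∈
      coxPairs := by
    rw [coxPairs_eq]
    exact List.mem_map.2 ⟨it, hit, rfl⟩
  exact coxRowOK_spec tf coxPairs i (permP_spec i hi).2.1 _ hp

theorem cox_cover : ∀ x ∈ coxNodes Fi24.edges, ∀ y ∈ coxNodes Fi24.edges,
    x = y ∨ (x, y, coxLabel Fi24.edges x y) ∈ coxItems ∨
      (y, x, coxLabel Fi24.edges x y) ∈ coxItems := by decide +kernel

theorem node_invol : ∀ x ∈ coxNodes Fi24.edges, binv (emb x) = emb x := by decide +kernel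

theorem cox_rel_perm (x y : Gen) (hx : x ∈ coxNodes Fi24.edges) (hy : y ∈ coxNodes Fi24.edges) :
    (T.perm (emb x) * T.perm (emb y)) ^ coxLabel Fi24.edges x y = 1 := by
  rcases cox_cover x hx y hy with h | h | h
  · subst h
    have h1 : coxLabel Fi24.edges x x = 1 := by simp [coxLabel]
    rw [h1, pow_one]
    have := T.perm_binv (emb x)
    rw [node_invol x hx] at this
    nth_rewrite 1 [this]
    exact inv_mul_cancel _
  · have h2 := cox_item_perm (x, y, coxLabel Fi24.edges x y) h
    exact h2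
  · have h2 := cox_item_perm (y, x, coxLabel Fi24.edges x y) h
    exact pow_swap_eq_one _ _ _ h2

theorem extra_eq : Fi24.extra = extraE.map WE.evalF := rfl

theorem extra_words : ∀ e ∈ extraE, evalW2 emb binv e ∈ plainWords ∨
    ∃ it ∈ powItems, evalW2 emb binv e = powWord it := by decide +kernel

theorem hrel : ∀ r ∈ rels, FreeGroup.lift (fun a => T.perm (emb a)) r = 1 := by
  intro r hr
  rcases hr with h | h
  · obtain ⟨x, hx, y, hy, rfl⟩ := h
    rw [map_pow, map_mul, FreeGroup.lift_apply_of, FreeGroup.lift_apply_of]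
    exact cox_rel_perm x y hx hy
  · have h' : r ∈ Fi24.extra := h
    rw [extra_eq, List.mem_map] at h'
    obtain ⟨e, he, rfl⟩ := h'
    refine T.lift_eq_one emb e (fun i hi => ?_)
    rcases extra_words e he with hw | ⟨it, hit, hw⟩
    · exact (permP_spec i hi).2.2.2 _ hw
    · rw [hw]
      exact powRowsOK_sound T tau powItems (fun i hi => (permP_spec i hi).2.2.1) it hit i hi

theorem subS_iff (s : FreeGroup Gen) : s ∈ subS ↔ ∃ e ∈ subE, s = e.evalF := by
  simp only [subS, subE, Set.mem_insert_iff, Set.mem_singleton_iff, List.mem_cons,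
    List.not_mem_nil, or_false, exists_eq_or_imp, exists_eq_left]
  rfl

theorem hsub : ∀ s ∈ subS, FreeGroup.lift (fun a => T.perm (emb a)) s ⟨0, nn_pos⟩ = ⟨0, nn_pos⟩ := by
  intro s hs
  obtain ⟨e, he, rfl⟩ := (subS_iff s).1 hs
  exact T.lift_fix emb nn_pos e (subFix e he)

theorem node_inv (x : Gen) (hx : x ∈ coxNodes Fi24.edges) :
    (PresentedGroup.of x : PresentedGroup rels)⁻¹ = PresentedGroup.of x := by
  have h : (FreeGroup.of x * FreeGroup.of x) ^ coxLabel Fi24.edges x x ∈ rels :=
    Or.inl ⟨x, hx, x, hx, rfl⟩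
  have h2 := PresentedGroup.one_of_mem h
  have h3 : (PresentedGroup.of x : PresentedGroup rels) * PresentedGroup.of x = 1 := by
    simpa [coxLabel, PresentedGroup.of] using h2
  exact inv_eq_of_mul_eq_one_left h3

/-- the values of the letters in the presented group -/
noncomputable def val (y : Ltr) : PresentedGroup rels := PresentedGroup.of y

theorem hval (a : Gen) : val (emb a) = PresentedGroup.of a := rfl

theorem hbv (y : Ltr) : val (binv y) = (val y)⁻¹ := by
  have hy : y ∈ coxNodes Fi24.edges := by cases y <;> decide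
  exact (node_inv y hy).symm

theorem relE_mem : ∀ e ∈ relE, e.evalF ∈ rels := by
  intro e he
  rcases List.mem_append.1 he with h | h
  · obtain ⟨it, hit, rfl⟩ := List.mem_map.1 h
    obtain ⟨_, _, hx, hy, hm⟩ := cox_items_ok it hit
    refine Or.inl ⟨it.1, hx, it.2.1, hy, ?_⟩
    show (FreeGroup.of it.1 * FreeGroup.of it.2.1) ^ it.2.2 = _
    rw [hm]
  · refine Or.inr ?_
    show e.evalF ∈ Fi24.extra
    rw [extra_eq]
    exact List.mem_map_of_mem h

theorem cyc_ok_lt : ∀ ci, ci < ncyc → (cycAt ci).2.1 = (cycAt ci).1.reverse ∧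
    (cycAt ci).2.2.2 = (cycAt ci).1.length ∧ (cycAt ci).2.2.1 = (cycAt ci).1.map binv := by
  decide +kernel

theorem cycAt_of_le (ci : ℕ) (h : ncyc ≤ ci) : cycAt ci = ([], [], [], 0) := by
  unfold cycAt
  have : nlt ci ncyc = false := by
    cases hb : nlt ci ncyc with
    | false => rfl
    | true => exact absurd (nlt_eq_true.1 hb) (Nat.not_lt.2 h)
  rw [this]

theorem cyc_ok : CycOK2 C binv cycI := by
  intro ci
  by_cases h : ci < ncyc
  · exact cyc_ok_lt ci h
  · show (cycAt ci).2.1 = (cycAt ci).1.reverse ∧ (cycAt ci).2.2.2 = (cycAt ci).1.length ∧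
      (cycAt ci).2.2.1 = (cycAt ci).1.map binv
    rw [cycAt_of_le ci (Nat.not_lt.1 h)]
    exact ⟨rfl, rfl, rfl⟩

theorem cycs_rel : ∀ ci, ci < nRel → ∃ e ∈ relE, evalW2 emb binv e = (cycAt ci).1 := by
  decide +kernel

theorem cycs_sub : ∀ ci, ci < ncyc → nRel ≤ ci → ∃ e ∈ subE, evalW2 emb binv e = (cycAt ci).1 := by
  decide +kernel

theorem hcycR : ∀ ci, C.cycA ci = false → wval val (C.cycW ci) = 1 := by
  intro ci h
  have hlt : ci < nRel := by
    have h' : Nat.ble nRel ci = false := h
    by_contra hge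
    rw [Nat.ble_eq_true_of_le (Nat.not_lt.1 hge)] at h'
    cases h'
  obtain ⟨e, he, hew⟩ := cycs_rel ci hlt
  show wval val (cycAt ci).1 = 1
  rw [← hew]
  exact wval_eq_one_of_rel emb binv val hval hbv e (relE_mem e he)

theorem hcycS : ∀ ci, C.cycA ci = true → wval val (C.cycW ci) ∈ subH rels subS := by
  intro ci h
  have hge : nRel ≤ ci := Nat.le_of_ble_eq_true h
  show wval val (cycAt ci).1 ∈ subH rels subS
  by_cases hlt : ci < ncyc
  · obtain ⟨e, he, hew⟩ := cycs_sub ci hlt hge
    rw [← hew]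
    exact wval_mem_of_gen emb binv val hval hbv e ((subS_iff _).2 ⟨e, he, rfl⟩)
  · rw [cycAt_of_le ci (Nat.not_lt.1 hlt)]
    exact (subH rels subS).one_mem

theorem NN_le : NN ≤ NNpad := by decide

theorem ent_zero (x : Ltr) (u : ℕ) (hu : NNpad ≤ u) : C.ent x u = 0 :=
  below_of_le NN u _ (le_trans NN_le hu)

theorem al_zero (k : ℕ) (hk : NNpad ≤ k) : C.al k = 0 :=
  below_of_le NN k _ (le_trans NN_le hk)

theorem hE : ∀ x u, checkE2 C binv cycI x u = true := by
  intro x u
  by_cases hu : u < NNpad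
  · have h := factP_all u hu
    unfold factP at h
    rw [band_eq_true] at h
    exact allList_spec _ letters h.1 x (mem_letters x)
  · unfold checkE2
    rw [ent_zero x u (Nat.not_lt.1 hu)]
    rfl

theorem hA : ∀ k, checkA' C binv cycI k = true := by
  intro k
  by_cases hk : k < NNpad
  · have h := factP_all k hk
    unfold factP at h
    rw [band_eq_true, band_eq_true] at h
    exact h.2.1
  · unfold checkA'
    rw [al_zero k (Nat.not_lt.1 hk)]
    rfl

theorem htree : ∀ k, 0 < k → k < NN → C.par k < k ∧ T.tf (C.gn k) (fin (C.par k)) = fin k := by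
  intro k hk hlt
  have h := factP_all k (lt_of_lt_of_le hlt NN_le)
  unfold factP at h
  rw [band_eq_true, band_eq_true] at h
  exact treeRowOK_spec C tf fin k (guard_spec NN _ k h.2.2 hlt) hk

theorem hclosed : ∀ i, i < nn → ∀ x, rowOf i < NN ∧ fin (rowOf i) = i ∧ C.ent x (rowOf i) ≠ 0 ∧
    norm C RR (C.ent x (rowOf i) - 1) = rowOf (T.tf x i) := by
  intro i hi x
  exact closedRowOK_spec C tf fin rowOf NN RR letters mem_letters i (closedP_all i hi) x

theorem fin_zero : fin 0 = 0 := by decide +kernel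

theorem rowOf_zero : rowOf 0 = 0 := by decide +kernel

/-- The coset enumeration: an equivariant bijection between the cosets and `Fin nn`. -/
theorem cosetEquiv :
    ∃ e : (PresentedGroup rels ⧸ subH rels subS) ≃ Fin nn,
      e ((1 : PresentedGroup rels) : PresentedGroup rels ⧸ subH rels subS) = ⟨0, nn_pos⟩ ∧
      ∀ (g : PresentedGroup rels) (q : PresentedGroup rels ⧸ subH rels subS),
        e (g • q) = (PresentedGroup.toGroup hrel g) (e q) :=
  cosetEquiv_of_cert2 emb binv hcover nn_pos T hrel hsub val hval hbv C cycI cyc_ok hcycR hcycS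
    hE hA NN fin fin_zero htree RR rowOf rowOf_zero hclosed

end Cfsg.Agent.Lib.Helper28.Fi24x306936
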