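import Cfsg.Agent.Lib.Helper28.Fi24x306936.Defs

set_option autoImplicit false
set_option linter.unusedVariables false
set_option Elab.async false

namespace Cfsg.Agent.Lib.Helper28.Fi24x306936

open Cfsg.Spor.Fi24 (Gen)
open Cfsg.Agent.Lib.Helper28.TC
open Cfsg.Agent.Lib.Helper28.TC2

theorem closedP_blk512 : allRange (guard nn closedP) 8 (512 * 2 ^ 8) = true := by decide +kernel
theorem closedP_blk513 : allRange (guard nn closedP) 8 (513 * 2 ^ 8) = true := by decide +kernel
theorem closedP_blk514 : allRange (guard nn closedP) 8 (514 * 2 ^ 8) = true := by decide +kernel
theorem closedP_blk515 : allRange (guard nn closedP) 8 (515 * 2 ^ 8) = true := by decide +kernel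
theorem closedP_blk516 : allRange (guard nn closedP) 8 (516 * 2 ^ 8) = true := by decide +kernel
theorem closedP_blk517 : allRange (guard nn closedP) 8 (517 * 2 ^ 8) = true := by decide +kernel
theorem closedP_blk518 : allRange (guard nn closedP) 8 (518 * 2 ^ 8) = true := by decide +kernel
theorem closedP_blk519 : allRange (guard nn closedP) 8 (519 * 2 ^ 8) = true := by decide +kernel
theorem closedP_blk520 : allRange (guard nn closedP) 8 (520 * 2 ^ 8) = true := by decide +kernel
theorem closedP_blk521 : allRange (guard nn closedP) 8 (521 * 2 ^ 8) = true := by decide +kernel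
theorem closedP_blk522 : allRange (guard nn closedP) 8 (522 * 2 ^ 8) = true := by decide +kernel
theorem closedP_blk523 : allRange (guard nn closedP) 8 (523 * 2 ^ 8) = true := by decide +kernel
theorem closedP_blk524 : allRange (guard nn closedP) 8 (524 * 2 ^ 8) = true := by decide +kernel
theorem closedP_blk525 : allRange (guard nn closedP) 8 (525 * 2 ^ 8) = true := by decide +kernel
theorem closedP_blk526 : allRange (guard nn closedP) 8 (526 * 2 ^ 8) = true := by decide +kernel
theorem closedP_blk527 : allRange (guard nn closedP) 8 (527 * 2 ^ 8) = true := by decide +kernel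
theorem closedP_blk528 : allRange (guard nn closedP) 8 (528 * 2 ^ 8) = true := by decide +kernel
theorem closedP_blk529 : allRange (guard nn closedP) 8 (529 * 2 ^ 8) = true := by decide +kernel
theorem closedP_blk530 : allRange (guard nn closedP) 8 (530 * 2 ^ 8) = true := by decide +kernel
theorem closedP_blk531 : allRange (guard nn closedP) 8 (531 * 2 ^ 8) = true := by decide +kernel
theorem closedP_blk532 : allRange (guard nn closedP) 8 (532 * 2 ^ 8) = true := by decide +kernel
theorem closedP_blk533 : allRange (guard nn closedP) 8 (533 * 2 ^ 8) = true := by decide +kernel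
theorem closedP_blk534 : allRange (guard nn closedP) 8 (534 * 2 ^ 8) = true := by decide +kernel
theorem closedP_blk535 : allRange (guard nn closedP) 8 (535 * 2 ^ 8) = true := by decide +kernel
theorem closedP_blk536 : allRange (guard nn closedP) 8 (536 * 2 ^ 8) = true := by decide +kernel
theorem closedP_blk537 : allRange (guard nn closedP) 8 (537 * 2 ^ 8) = true := by decide +kernel
theorem closedP_blk538 : allRange (guard nn closedP) 8 (538 * 2 ^ 8) = true := by decide +kernel
theorem closedP_blk539 : allRange (guard nn closedP) 8 (539 * 2 ^ 8) = true := by decide +kernel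
theorem closedP_blk540 : allRange (guard nn closedP) 8 (540 * 2 ^ 8) = true := by decide +kernel
theorem closedP_blk541 : allRange (guard nn closedP) 8 (541 * 2 ^ 8) = true := by decide +kernel
theorem closedP_blk542 : allRange (guard nn closedP) 8 (542 * 2 ^ 8) = true := by decide +kernel
theorem closedP_blk543 : allRange (guard nn closedP) 8 (543 * 2 ^ 8) = true := by decide +kernel
theorem closedP_blk544 : allRange (guard nn closedP) 8 (544 * 2 ^ 8) = true := by decide +kernel
theorem closedP_blk545 : allRange (guard nn closedP) 8 (545 * 2 ^ 8) = true := by decide +kernel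
theorem closedP_blk546 : allRange (guard nn closedP) 8 (546 * 2 ^ 8) = true := by decide +kernel
theorem closedP_blk547 : allRange (guard nn closedP) 8 (547 * 2 ^ 8) = true := by decide +kernel
theorem closedP_blk548 : allRange (guard nn closedP) 8 (548 * 2 ^ 8) = true := by decide +kernel
theorem closedP_blk549 : allRange (guard nn closedP) 8 (549 * 2 ^ 8) = true := by decide +kernel
theorem closedP_blk550 : allRange (guard nn closedP) 8 (550 * 2 ^ 8) = true := by decide +kernel
theorem closedP_blk551 : allRange (guard nn closedP) 8 (551 * 2 ^ 8) = true := by decide +kernel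
theorem closedP_blk552 : allRange (guard nn closedP) 8 (552 * 2 ^ 8) = true := by decide +kernel
theorem closedP_blk553 : allRange (guard nn closedP) 8 (553 * 2 ^ 8) = true := by decide +kernel
theorem closedP_blk554 : allRange (guard nn closedP) 8 (554 * 2 ^ 8) = true := by decide +kernel
theorem closedP_blk555 : allRange (guard nn closedP) 8 (555 * 2 ^ 8) = true := by decide +kernel
theorem closedP_blk556 : allRange (guard nn closedP) 8 (556 * 2 ^ 8) = true := by decide +kernel
theorem closedP_blk557 : allRange (guard nn closedP) 8 (557 * 2 ^ 8) = true := by decide +kernel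
theorem closedP_blk558 : allRange (guard nn closedP) 8 (558 * 2 ^ 8) = true := by decide +kernel
theorem closedP_blk559 : allRange (guard nn closedP) 8 (559 * 2 ^ 8) = true := by decide +kernel
theorem closedP_blk560 : allRange (guard nn closedP) 8 (560 * 2 ^ 8) = true := by decide +kernel
theorem closedP_blk561 : allRange (guard nn closedP) 8 (561 * 2 ^ 8) = true := by decide +kernel
theorem closedP_blk562 : allRange (guard nn closedP) 8 (562 * 2 ^ 8) = true := by decide +kernel
theorem closedP_blk563 : allRange (guard nn closedP) 8 (563 * 2 ^ 8) = true := by decide +kernel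
theorem closedP_blk564 : allRange (guard nn closedP) 8 (564 * 2 ^ 8) = true := by decide +kernel
theorem closedP_blk565 : allRange (guard nn closedP) 8 (565 * 2 ^ 8) = true := by decide +kernel
theorem closedP_blk566 : allRange (guard nn closedP) 8 (566 * 2 ^ 8) = true := by decide +kernel
theorem closedP_blk567 : allRange (guard nn closedP) 8 (567 * 2 ^ 8) = true := by decide +kernel
theorem closedP_blk568 : allRange (guard nn closedP) 8 (568 * 2 ^ 8) = true := by decide +kernel
theorem closedP_blk569 : allRange (guard nn closedP) 8 (569 * 2 ^ 8) = true := by decide +kernel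
theorem closedP_blk570 : allRange (guard nn closedP) 8 (570 * 2 ^ 8) = true := by decide +kernel
theorem closedP_blk571 : allRange (guard nn closedP) 8 (571 * 2 ^ 8) = true := by decide +kernel
theorem closedP_blk572 : allRange (guard nn closedP) 8 (572 * 2 ^ 8) = true := by decide +kernel
theorem closedP_blk573 : allRange (guard nn closedP) 8 (573 * 2 ^ 8) = true := by decide +kernel
theorem closedP_blk574 : allRange (guard nn closedP) 8 (574 * 2 ^ 8) = true := by decide +kernel
theorem closedP_blk575 : allRange (guard nn closedP) 8 (575 * 2 ^ 8) = true := by decide +kernel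
theorem closedP_blk576 : allRange (guard nn closedP) 8 (576 * 2 ^ 8) = true := by decide +kernel
theorem closedP_blk577 : allRange (guard nn closedP) 8 (577 * 2 ^ 8) = true := by decide +kernel
theorem closedP_blk578 : allRange (guard nn closedP) 8 (578 * 2 ^ 8) = true := by decide +kernel
theorem closedP_blk579 : allRange (guard nn closedP) 8 (579 * 2 ^ 8) = true := by decide +kernel
theorem closedP_blk580 : allRange (guard nn closedP) 8 (580 * 2 ^ 8) = true := by decide +kernel
theorem closedP_blk581 : allRange (guard nn closedP) 8 (581 * 2 ^ 8) = true := by decide +kernel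
theorem closedP_blk582 : allRange (guard nn closedP) 8 (582 * 2 ^ 8) = true := by decide +kernel
theorem closedP_blk583 : allRange (guard nn closedP) 8 (583 * 2 ^ 8) = true := by decide +kernel
theorem closedP_blk584 : allRange (guard nn closedP) 8 (584 * 2 ^ 8) = true := by decide +kernel
theorem closedP_blk585 : allRange (guard nn closedP) 8 (585 * 2 ^ 8) = true := by decide +kernel
theorem closedP_blk586 : allRange (guard nn closedP) 8 (586 * 2 ^ 8) = true := by decide +kernel
theorem closedP_blk587 : allRange (guard nn closedP) 8 (587 * 2 ^ 8) = true := by decide +kernel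
theorem closedP_blk588 : allRange (guard nn closedP) 8 (588 * 2 ^ 8) = true := by decide +kernel
theorem closedP_blk589 : allRange (guard nn closedP) 8 (589 * 2 ^ 8) = true := by decide +kernel
theorem closedP_blk590 : allRange (guard nn closedP) 8 (590 * 2 ^ 8) = true := by decide +kernel
theorem closedP_blk591 : allRange (guard nn closedP) 8 (591 * 2 ^ 8) = true := by decide +kernel
theorem closedP_blk592 : allRange (guard nn closedP) 8 (592 * 2 ^ 8) = true := by decide +kernel
theorem closedP_blk593 : allRange (guard nn closedP) 8 (593 * 2 ^ 8) = true := by decide +kernel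
theorem closedP_blk594 : allRange (guard nn closedP) 8 (594 * 2 ^ 8) = true := by decide +kernel
theorem closedP_blk595 : allRange (guard nn closedP) 8 (595 * 2 ^ 8) = true := by decide +kernel
theorem closedP_blk596 : allRange (guard nn closedP) 8 (596 * 2 ^ 8) = true := by decide +kernel
theorem closedP_blk597 : allRange (guard nn closedP) 8 (597 * 2 ^ 8) = true := by decide +kernel
theorem closedP_blk598 : allRange (guard nn closedP) 8 (598 * 2 ^ 8) = true := by decide +kernel
theorem closedP_blk599 : allRange (guard nn closedP) 8 (599 * 2 ^ 8) = true := by decide +kernel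
theorem closedP_blk600 : allRange (guard nn closedP) 8 (600 * 2 ^ 8) = true := by decide +kernel
theorem closedP_blk601 : allRange (guard nn closedP) 8 (601 * 2 ^ 8) = true := by decide +kernel
theorem closedP_blk602 : allRange (guard nn closedP) 8 (602 * 2 ^ 8) = true := by decide +kernel
theorem closedP_blk603 : allRange (guard nn closedP) 8 (603 * 2 ^ 8) = true := by decide +kernel
theorem closedP_blk604 : allRange (guard nn closedP) 8 (604 * 2 ^ 8) = true := by decide +kernel
theorem closedP_blk605 : allRange (guard nn closedP) 8 (605 * 2 ^ 8) = true := by decide +kernel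
theorem closedP_blk606 : allRange (guard nn closedP) 8 (606 * 2 ^ 8) = true := by decide +kernel
theorem closedP_blk607 : allRange (guard nn closedP) 8 (607 * 2 ^ 8) = true := by decide +kernel
theorem closedP_blk608 : allRange (guard nn closedP) 8 (608 * 2 ^ 8) = true := by decide +kernel
theorem closedP_blk609 : allRange (guard nn closedP) 8 (609 * 2 ^ 8) = true := by decide +kernel
theorem closedP_blk610 : allRange (guard nn closedP) 8 (610 * 2 ^ 8) = true := by decide +kernel
theorem closedP_blk611 : allRange (guard nn closedP) 8 (611 * 2 ^ 8) = true := by decide +kernel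
theorem closedP_blk612 : allRange (guard nn closedP) 8 (612 * 2 ^ 8) = true := by decide +kernel
theorem closedP_blk613 : allRange (guard nn closedP) 8 (613 * 2 ^ 8) = true := by decide +kernel
theorem closedP_blk614 : allRange (guard nn closedP) 8 (614 * 2 ^ 8) = true := by decide +kernel
theorem closedP_blk615 : allRange (guard nn closedP) 8 (615 * 2 ^ 8) = true := by decide +kernel
theorem closedP_blk616 : allRange (guard nn closedP) 8 (616 * 2 ^ 8) = true := by decide +kernel
theorem closedP_blk617 : allRange (guard nn closedP) 8 (617 * 2 ^ 8) = true := by decide +kernel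
theorem closedP_blk618 : allRange (guard nn closedP) 8 (618 * 2 ^ 8) = true := by decide +kernel
theorem closedP_blk619 : allRange (guard nn closedP) 8 (619 * 2 ^ 8) = true := by decide +kernel
theorem closedP_blk620 : allRange (guard nn closedP) 8 (620 * 2 ^ 8) = true := by decide +kernel
theorem closedP_blk621 : allRange (guard nn closedP) 8 (621 * 2 ^ 8) = true := by decide +kernel
theorem closedP_blk622 : allRange (guard nn closedP) 8 (622 * 2 ^ 8) = true := by decide +kernel
theorem closedP_blk623 : allRange (guard nn closedP) 8 (623 * 2 ^ 8) = true := by decide +kernel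
theorem closedP_blk624 : allRange (guard nn closedP) 8 (624 * 2 ^ 8) = true := by decide +kernel
theorem closedP_blk625 : allRange (guard nn closedP) 8 (625 * 2 ^ 8) = true := by decide +kernel
theorem closedP_blk626 : allRange (guard nn closedP) 8 (626 * 2 ^ 8) = true := by decide +kernel
theorem closedP_blk627 : allRange (guard nn closedP) 8 (627 * 2 ^ 8) = true := by decide +kernel
theorem closedP_blk628 : allRange (guard nn closedP) 8 (628 * 2 ^ 8) = true := by decide +kernel
theorem closedP_blk629 : allRange (guard nn closedP) 8 (629 * 2 ^ 8) = true := by decide +kernel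
theorem closedP_blk630 : allRange (guard nn closedP) 8 (630 * 2 ^ 8) = true := by decide +kernel
theorem closedP_blk631 : allRange (guard nn closedP) 8 (631 * 2 ^ 8) = true := by decide +kernel
theorem closedP_blk632 : allRange (guard nn closedP) 8 (632 * 2 ^ 8) = true := by decide +kernel
theorem closedP_blk633 : allRange (guard nn closedP) 8 (633 * 2 ^ 8) = true := by decide +kernel
theorem closedP_blk634 : allRange (guard nn closedP) 8 (634 * 2 ^ 8) = true := by decide +kernel
theorem closedP_blk635 : allRange (guard nn closedP) 8 (635 * 2 ^ 8) = true := by decide +kernel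
theorem closedP_blk636 : allRange (guard nn closedP) 8 (636 * 2 ^ 8) = true := by decide +kernel
theorem closedP_blk637 : allRange (guard nn closedP) 8 (637 * 2 ^ 8) = true := by decide +kernel
theorem closedP_blk638 : allRange (guard nn closedP) 8 (638 * 2 ^ 8) = true := by decide +kernel
theorem closedP_blk639 : allRange (guard nn closedP) 8 (639 * 2 ^ 8) = true := by decide +kernel
theorem closedP_f4 : ∀ k, 512 ≤ k → k < 640 → allRange (guard nn closedP) 8 (k * 2 ^ 8) = true := by
  intro k h1 h2
  interval_cases k
  · exact closedP_blk512
  · exact closedP_blk513
  · exact closedP_blk514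
  · exact closedP_blk515
  · exact closedP_blk516
  · exact closedP_blk517
  · exact closedP_blk518
  · exact closedP_blk519
  · exact closedP_blk520
  · exact closedP_blk521
  · exact closedP_blk522
  · exact closedP_blk523
  · exact closedP_blk524
  · exact closedP_blk525
  · exact closedP_blk526
  · exact closedP_blk527
  · exact closedP_blk528
  · exact closedP_blk529
  · exact closedP_blk530
  · exact closedP_blk531
  · exact closedP_blk532
  · exact closedP_blk533
  · exact closedP_blk534
  · exact closedP_blk535
  · exact closedP_blk536
  · exact closedP_blk537
  · exact closedP_blk538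
  · exact closedP_blk539
  · exact closedP_blk540
  · exact closedP_blk541
  · exact closedP_blk542
  · exact closedP_blk543
  · exact closedP_blk544
  · exact closedP_blk545
  · exact closedP_blk546
  · exact closedP_blk547
  · exact closedP_blk548
  · exact closedP_blk549
  · exact closedP_blk550
  · exact closedP_blk551
  · exact closedP_blk552
  · exact closedP_blk553
  · exact closedP_blk554
  · exact closedP_blk555
  · exact closedP_blk556
  · exact closedP_blk557
  · exact closedP_blk558
  · exact closedP_blk559
  · exact closedP_blk560
  · exact closedP_blk561
  · exact closedP_blk562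
  · exact closedP_blk563
  · exact closedP_blk564
  · exact closedP_blk565
  · exact closedP_blk566
  · exact closedP_blk567
  · exact closedP_blk568
  · exact closedP_blk569
  · exact closedP_blk570
  · exact closedP_blk571
  · exact closedP_blk572
  · exact closedP_blk573
  · exact closedP_blk574
  · exact closedP_blk575
  · exact closedP_blk576
  · exact closedP_blk577
  · exact closedP_blk578
  · exact closedP_blk579
  · exact closedP_blk580
  · exact closedP_blk581
  · exact closedP_blk582
  · exact closedP_blk583
  · exact closedP_blk584
  · exact closedP_blk585
  · exact closedP_blk586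
  · exact closedP_blk587
  · exact closedP_blk588
  · exact closedP_blk589
  · exact closedP_blk590
  · exact closedP_blk591
  · exact closedP_blk592
  · exact closedP_blk593
  · exact closedP_blk594
  · exact closedP_blk595
  · exact closedP_blk596
  · exact closedP_blk597
  · exact closedP_blk598
  · exact closedP_blk599
  · exact closedP_blk600
  · exact closedP_blk601
  · exact closedP_blk602
  · exact closedP_blk603
  · exact closedP_blk604
  · exact closedP_blk605
  · exact closedP_blk606
  · exact closedP_blk607
  · exact closedP_blk608
  · exact closedP_blk609
  · exact closedP_blk610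
  · exact closedP_blk611
  · exact closedP_blk612
  · exact closedP_blk613
  · exact closedP_blk614
  · exact closedP_blk615
  · exact closedP_blk616
  · exact closedP_blk617
  · exact closedP_blk618
  · exact closedP_blk619
  · exact closedP_blk620
  · exact closedP_blk621
  · exact closedP_blk622
  · exact closedP_blk623
  · exact closedP_blk624
  · exact closedP_blk625
  · exact closedP_blk626
  · exact closedP_blk627
  · exact closedP_blk628
  · exact closedP_blk629
  · exact closedP_blk630
  · exact closedP_blk631
  · exact closedP_blk632
  · exact closedP_blk633
  · exact closedP_blk634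
  · exact closedP_blk635
  · exact closedP_blk636
  · exact closedP_blk637
  · exact closedP_blk638
  · exact closedP_blk639

end Cfsg.Agent.Lib.Helper28.Fi24x306936
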