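import Cfsg.Agent.Lib.Helper28.Fi24x306936.Defs

set_option autoImplicit false
set_option linter.unusedVariables false
set_option Elab.async false

namespace Cfsg.Agent.Lib.Helper28.Fi24x306936

open Cfsg.Spor.Fi24 (Gen)
open Cfsg.Agent.Lib.Helper28.TC
open Cfsg.Agent.Lib.Helper28.TC2

theorem closedP_blk640 : allRange (guard nn closedP) 8 (640 * 2 ^ 8) = true := by decide +kernel
theorem closedP_blk641 : allRange (guard nn closedP) 8 (641 * 2 ^ 8) = true := by decide +kernel
theorem closedP_blk642 : allRange (guard nn closedP) 8 (642 * 2 ^ 8) = true := by decide +kernel
theorem closedP_blk643 : allRange (guard nn closedP) 8 (643 * 2 ^ 8) = true := by decide +kernel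
theorem closedP_blk644 : allRange (guard nn closedP) 8 (644 * 2 ^ 8) = true := by decide +kernel
theorem closedP_blk645 : allRange (guard nn closedP) 8 (645 * 2 ^ 8) = true := by decide +kernel
theorem closedP_blk646 : allRange (guard nn closedP) 8 (646 * 2 ^ 8) = true := by decide +kernel
theorem closedP_blk647 : allRange (guard nn closedP) 8 (647 * 2 ^ 8) = true := by decide +kernel
theorem closedP_blk648 : allRange (guard nn closedP) 8 (648 * 2 ^ 8) = true := by decide +kernel
theorem closedP_blk649 : allRange (guard nn closedP) 8 (649 * 2 ^ 8) = true := by decide +kernel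
theorem closedP_blk650 : allRange (guard nn closedP) 8 (650 * 2 ^ 8) = true := by decide +kernel
theorem closedP_blk651 : allRange (guard nn closedP) 8 (651 * 2 ^ 8) = true := by decide +kernel
theorem closedP_blk652 : allRange (guard nn closedP) 8 (652 * 2 ^ 8) = true := by decide +kernel
theorem closedP_blk653 : allRange (guard nn closedP) 8 (653 * 2 ^ 8) = true := by decide +kernel
theorem closedP_blk654 : allRange (guard nn closedP) 8 (654 * 2 ^ 8) = true := by decide +kernel
theorem closedP_blk655 : allRange (guard nn closedP) 8 (655 * 2 ^ 8) = true := by decide +kernel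
theorem closedP_blk656 : allRange (guard nn closedP) 8 (656 * 2 ^ 8) = true := by decide +kernel
theorem closedP_blk657 : allRange (guard nn closedP) 8 (657 * 2 ^ 8) = true := by decide +kernel
theorem closedP_blk658 : allRange (guard nn closedP) 8 (658 * 2 ^ 8) = true := by decide +kernel
theorem closedP_blk659 : allRange (guard nn closedP) 8 (659 * 2 ^ 8) = true := by decide +kernel
theorem closedP_blk660 : allRange (guard nn closedP) 8 (660 * 2 ^ 8) = true := by decide +kernel
theorem closedP_blk661 : allRange (guard nn closedP) 8 (661 * 2 ^ 8) = true := by decide +kernel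
theorem closedP_blk662 : allRange (guard nn closedP) 8 (662 * 2 ^ 8) = true := by decide +kernel
theorem closedP_blk663 : allRange (guard nn closedP) 8 (663 * 2 ^ 8) = true := by decide +kernel
theorem closedP_blk664 : allRange (guard nn closedP) 8 (664 * 2 ^ 8) = true := by decide +kernel
theorem closedP_blk665 : allRange (guard nn closedP) 8 (665 * 2 ^ 8) = true := by decide +kernel
theorem closedP_blk666 : allRange (guard nn closedP) 8 (666 * 2 ^ 8) = true := by decide +kernel
theorem closedP_blk667 : allRange (guard nn closedP) 8 (667 * 2 ^ 8) = true := by decide +kernel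
theorem closedP_blk668 : allRange (guard nn closedP) 8 (668 * 2 ^ 8) = true := by decide +kernel
theorem closedP_blk669 : allRange (guard nn closedP) 8 (669 * 2 ^ 8) = true := by decide +kernel
theorem closedP_blk670 : allRange (guard nn closedP) 8 (670 * 2 ^ 8) = true := by decide +kernel
theorem closedP_blk671 : allRange (guard nn closedP) 8 (671 * 2 ^ 8) = true := by decide +kernel
theorem closedP_blk672 : allRange (guard nn closedP) 8 (672 * 2 ^ 8) = true := by decide +kernel
theorem closedP_blk673 : allRange (guard nn closedP) 8 (673 * 2 ^ 8) = true := by decide +kernel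
theorem closedP_blk674 : allRange (guard nn closedP) 8 (674 * 2 ^ 8) = true := by decide +kernel
theorem closedP_blk675 : allRange (guard nn closedP) 8 (675 * 2 ^ 8) = true := by decide +kernel
theorem closedP_blk676 : allRange (guard nn closedP) 8 (676 * 2 ^ 8) = true := by decide +kernel
theorem closedP_blk677 : allRange (guard nn closedP) 8 (677 * 2 ^ 8) = true := by decide +kernel
theorem closedP_blk678 : allRange (guard nn closedP) 8 (678 * 2 ^ 8) = true := by decide +kernel
theorem closedP_blk679 : allRange (guard nn closedP) 8 (679 * 2 ^ 8) = true := by decide +kernel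
theorem closedP_blk680 : allRange (guard nn closedP) 8 (680 * 2 ^ 8) = true := by decide +kernel
theorem closedP_blk681 : allRange (guard nn closedP) 8 (681 * 2 ^ 8) = true := by decide +kernel
theorem closedP_blk682 : allRange (guard nn closedP) 8 (682 * 2 ^ 8) = true := by decide +kernel
theorem closedP_blk683 : allRange (guard nn closedP) 8 (683 * 2 ^ 8) = true := by decide +kernel
theorem closedP_blk684 : allRange (guard nn closedP) 8 (684 * 2 ^ 8) = true := by decide +kernel
theorem closedP_blk685 : allRange (guard nn closedP) 8 (685 * 2 ^ 8) = true := by decide +kernel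
theorem closedP_blk686 : allRange (guard nn closedP) 8 (686 * 2 ^ 8) = true := by decide +kernel
theorem closedP_blk687 : allRange (guard nn closedP) 8 (687 * 2 ^ 8) = true := by decide +kernel
theorem closedP_blk688 : allRange (guard nn closedP) 8 (688 * 2 ^ 8) = true := by decide +kernel
theorem closedP_blk689 : allRange (guard nn closedP) 8 (689 * 2 ^ 8) = true := by decide +kernel
theorem closedP_blk690 : allRange (guard nn closedP) 8 (690 * 2 ^ 8) = true := by decide +kernel
theorem closedP_blk691 : allRange (guard nn closedP) 8 (691 * 2 ^ 8) = true := by decide +kernel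
theorem closedP_blk692 : allRange (guard nn closedP) 8 (692 * 2 ^ 8) = true := by decide +kernel
theorem closedP_blk693 : allRange (guard nn closedP) 8 (693 * 2 ^ 8) = true := by decide +kernel
theorem closedP_blk694 : allRange (guard nn closedP) 8 (694 * 2 ^ 8) = true := by decide +kernel
theorem closedP_blk695 : allRange (guard nn closedP) 8 (695 * 2 ^ 8) = true := by decide +kernel
theorem closedP_blk696 : allRange (guard nn closedP) 8 (696 * 2 ^ 8) = true := by decide +kernel
theorem closedP_blk697 : allRange (guard nn closedP) 8 (697 * 2 ^ 8) = true := by decide +kernel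
theorem closedP_blk698 : allRange (guard nn closedP) 8 (698 * 2 ^ 8) = true := by decide +kernel
theorem closedP_blk699 : allRange (guard nn closedP) 8 (699 * 2 ^ 8) = true := by decide +kernel
theorem closedP_blk700 : allRange (guard nn closedP) 8 (700 * 2 ^ 8) = true := by decide +kernel
theorem closedP_blk701 : allRange (guard nn closedP) 8 (701 * 2 ^ 8) = true := by decide +kernel
theorem closedP_blk702 : allRange (guard nn closedP) 8 (702 * 2 ^ 8) = true := by decide +kernel
theorem closedP_blk703 : allRange (guard nn closedP) 8 (703 * 2 ^ 8) = true := by decide +kernel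
theorem closedP_blk704 : allRange (guard nn closedP) 8 (704 * 2 ^ 8) = true := by decide +kernel
theorem closedP_blk705 : allRange (guard nn closedP) 8 (705 * 2 ^ 8) = true := by decide +kernel
theorem closedP_blk706 : allRange (guard nn closedP) 8 (706 * 2 ^ 8) = true := by decide +kernel
theorem closedP_blk707 : allRange (guard nn closedP) 8 (707 * 2 ^ 8) = true := by decide +kernel
theorem closedP_blk708 : allRange (guard nn closedP) 8 (708 * 2 ^ 8) = true := by decide +kernel
theorem closedP_blk709 : allRange (guard nn closedP) 8 (709 * 2 ^ 8) = true := by decide +kernel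
theorem closedP_blk710 : allRange (guard nn closedP) 8 (710 * 2 ^ 8) = true := by decide +kernel
theorem closedP_blk711 : allRange (guard nn closedP) 8 (711 * 2 ^ 8) = true := by decide +kernel
theorem closedP_blk712 : allRange (guard nn closedP) 8 (712 * 2 ^ 8) = true := by decide +kernel
theorem closedP_blk713 : allRange (guard nn closedP) 8 (713 * 2 ^ 8) = true := by decide +kernel
theorem closedP_blk714 : allRange (guard nn closedP) 8 (714 * 2 ^ 8) = true := by decide +kernel
theorem closedP_blk715 : allRange (guard nn closedP) 8 (715 * 2 ^ 8) = true := by decide +kernel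
theorem closedP_blk716 : allRange (guard nn closedP) 8 (716 * 2 ^ 8) = true := by decide +kernel
theorem closedP_blk717 : allRange (guard nn closedP) 8 (717 * 2 ^ 8) = true := by decide +kernel
theorem closedP_blk718 : allRange (guard nn closedP) 8 (718 * 2 ^ 8) = true := by decide +kernel
theorem closedP_blk719 : allRange (guard nn closedP) 8 (719 * 2 ^ 8) = true := by decide +kernel
theorem closedP_blk720 : allRange (guard nn closedP) 8 (720 * 2 ^ 8) = true := by decide +kernel
theorem closedP_blk721 : allRange (guard nn closedP) 8 (721 * 2 ^ 8) = true := by decide +kernel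
theorem closedP_blk722 : allRange (guard nn closedP) 8 (722 * 2 ^ 8) = true := by decide +kernel
theorem closedP_blk723 : allRange (guard nn closedP) 8 (723 * 2 ^ 8) = true := by decide +kernel
theorem closedP_blk724 : allRange (guard nn closedP) 8 (724 * 2 ^ 8) = true := by decide +kernel
theorem closedP_blk725 : allRange (guard nn closedP) 8 (725 * 2 ^ 8) = true := by decide +kernel
theorem closedP_blk726 : allRange (guard nn closedP) 8 (726 * 2 ^ 8) = true := by decide +kernel
theorem closedP_blk727 : allRange (guard nn closedP) 8 (727 * 2 ^ 8) = true := by decide +kernel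
theorem closedP_blk728 : allRange (guard nn closedP) 8 (728 * 2 ^ 8) = true := by decide +kernel
theorem closedP_blk729 : allRange (guard nn closedP) 8 (729 * 2 ^ 8) = true := by decide +kernel
theorem closedP_blk730 : allRange (guard nn closedP) 8 (730 * 2 ^ 8) = true := by decide +kernel
theorem closedP_blk731 : allRange (guard nn closedP) 8 (731 * 2 ^ 8) = true := by decide +kernel
theorem closedP_blk732 : allRange (guard nn closedP) 8 (732 * 2 ^ 8) = true := by decide +kernel
theorem closedP_blk733 : allRange (guard nn closedP) 8 (733 * 2 ^ 8) = true := by decide +kernel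
theorem closedP_blk734 : allRange (guard nn closedP) 8 (734 * 2 ^ 8) = true := by decide +kernel
theorem closedP_blk735 : allRange (guard nn closedP) 8 (735 * 2 ^ 8) = true := by decide +kernel
theorem closedP_blk736 : allRange (guard nn closedP) 8 (736 * 2 ^ 8) = true := by decide +kernel
theorem closedP_blk737 : allRange (guard nn closedP) 8 (737 * 2 ^ 8) = true := by decide +kernel
theorem closedP_blk738 : allRange (guard nn closedP) 8 (738 * 2 ^ 8) = true := by decide +kernel
theorem closedP_blk739 : allRange (guard nn closedP) 8 (739 * 2 ^ 8) = true := by decide +kernel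
theorem closedP_blk740 : allRange (guard nn closedP) 8 (740 * 2 ^ 8) = true := by decide +kernel
theorem closedP_blk741 : allRange (guard nn closedP) 8 (741 * 2 ^ 8) = true := by decide +kernel
theorem closedP_blk742 : allRange (guard nn closedP) 8 (742 * 2 ^ 8) = true := by decide +kernel
theorem closedP_blk743 : allRange (guard nn closedP) 8 (743 * 2 ^ 8) = true := by decide +kernel
theorem closedP_blk744 : allRange (guard nn closedP) 8 (744 * 2 ^ 8) = true := by decide +kernel
theorem closedP_blk745 : allRange (guard nn closedP) 8 (745 * 2 ^ 8) = true := by decide +kernel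
theorem closedP_blk746 : allRange (guard nn closedP) 8 (746 * 2 ^ 8) = true := by decide +kernel
theorem closedP_blk747 : allRange (guard nn closedP) 8 (747 * 2 ^ 8) = true := by decide +kernel
theorem closedP_blk748 : allRange (guard nn closedP) 8 (748 * 2 ^ 8) = true := by decide +kernel
theorem closedP_blk749 : allRange (guard nn closedP) 8 (749 * 2 ^ 8) = true := by decide +kernel
theorem closedP_blk750 : allRange (guard nn closedP) 8 (750 * 2 ^ 8) = true := by decide +kernel
theorem closedP_blk751 : allRange (guard nn closedP) 8 (751 * 2 ^ 8) = true := by decide +kernel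
theorem closedP_blk752 : allRange (guard nn closedP) 8 (752 * 2 ^ 8) = true := by decide +kernel
theorem closedP_blk753 : allRange (guard nn closedP) 8 (753 * 2 ^ 8) = true := by decide +kernel
theorem closedP_blk754 : allRange (guard nn closedP) 8 (754 * 2 ^ 8) = true := by decide +kernel
theorem closedP_blk755 : allRange (guard nn closedP) 8 (755 * 2 ^ 8) = true := by decide +kernel
theorem closedP_blk756 : allRange (guard nn closedP) 8 (756 * 2 ^ 8) = true := by decide +kernel
theorem closedP_blk757 : allRange (guard nn closedP) 8 (757 * 2 ^ 8) = true := by decide +kernel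
theorem closedP_blk758 : allRange (guard nn closedP) 8 (758 * 2 ^ 8) = true := by decide +kernel
theorem closedP_blk759 : allRange (guard nn closedP) 8 (759 * 2 ^ 8) = true := by decide +kernel
theorem closedP_blk760 : allRange (guard nn closedP) 8 (760 * 2 ^ 8) = true := by decide +kernel
theorem closedP_blk761 : allRange (guard nn closedP) 8 (761 * 2 ^ 8) = true := by decide +kernel
theorem closedP_blk762 : allRange (guard nn closedP) 8 (762 * 2 ^ 8) = true := by decide +kernel
theorem closedP_blk763 : allRange (guard nn closedP) 8 (763 * 2 ^ 8) = true := by decide +kernel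
theorem closedP_blk764 : allRange (guard nn closedP) 8 (764 * 2 ^ 8) = true := by decide +kernel
theorem closedP_blk765 : allRange (guard nn closedP) 8 (765 * 2 ^ 8) = true := by decide +kernel
theorem closedP_blk766 : allRange (guard nn closedP) 8 (766 * 2 ^ 8) = true := by decide +kernel
theorem closedP_blk767 : allRange (guard nn closedP) 8 (767 * 2 ^ 8) = true := by decide +kernel
theorem closedP_f5 : ∀ k, 640 ≤ k → k < 768 → allRange (guard nn closedP) 8 (k * 2 ^ 8) = true := by
  intro k h1 h2
  interval_cases k
  · exact closedP_blk640
  · exact closedP_blk641
  · exact closedP_blk642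
  · exact closedP_blk643
  · exact closedP_blk644
  · exact closedP_blk645
  · exact closedP_blk646
  · exact closedP_blk647
  · exact closedP_blk648
  · exact closedP_blk649
  · exact closedP_blk650
  · exact closedP_blk651
  · exact closedP_blk652
  · exact closedP_blk653
  · exact closedP_blk654
  · exact closedP_blk655
  · exact closedP_blk656
  · exact closedP_blk657
  · exact closedP_blk658
  · exact closedP_blk659
  · exact closedP_blk660
  · exact closedP_blk661
  · exact closedP_blk662
  · exact closedP_blk663
  · exact closedP_blk664
  · exact closedP_blk665
  · exact closedP_blk666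
  · exact closedP_blk667
  · exact closedP_blk668
  · exact closedP_blk669
  · exact closedP_blk670
  · exact closedP_blk671
  · exact closedP_blk672
  · exact closedP_blk673
  · exact closedP_blk674
  · exact closedP_blk675
  · exact closedP_blk676
  · exact closedP_blk677
  · exact closedP_blk678
  · exact closedP_blk679
  · exact closedP_blk680
  · exact closedP_blk681
  · exact closedP_blk682
  · exact closedP_blk683
  · exact closedP_blk684
  · exact closedP_blk685
  · exact closedP_blk686
  · exact closedP_blk687
  · exact closedP_blk688
  · exact closedP_blk689
  · exact closedP_blk690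
  · exact closedP_blk691
  · exact closedP_blk692
  · exact closedP_blk693
  · exact closedP_blk694
  · exact closedP_blk695
  · exact closedP_blk696
  · exact closedP_blk697
  · exact closedP_blk698
  · exact closedP_blk699
  · exact closedP_blk700
  · exact closedP_blk701
  · exact closedP_blk702
  · exact closedP_blk703
  · exact closedP_blk704
  · exact closedP_blk705
  · exact closedP_blk706
  · exact closedP_blk707
  · exact closedP_blk708
  · exact closedP_blk709
  · exact closedP_blk710
  · exact closedP_blk711
  · exact closedP_blk712
  · exact closedP_blk713
  · exact closedP_blk714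
  · exact closedP_blk715
  · exact closedP_blk716
  · exact closedP_blk717
  · exact closedP_blk718
  · exact closedP_blk719
  · exact closedP_blk720
  · exact closedP_blk721
  · exact closedP_blk722
  · exact closedP_blk723
  · exact closedP_blk724
  · exact closedP_blk725
  · exact closedP_blk726
  · exact closedP_blk727
  · exact closedP_blk728
  · exact closedP_blk729
  · exact closedP_blk730
  · exact closedP_blk731
  · exact closedP_blk732
  · exact closedP_blk733
  · exact closedP_blk734
  · exact closedP_blk735
  · exact closedP_blk736
  · exact closedP_blk737
  · exact closedP_blk738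
  · exact closedP_blk739
  · exact closedP_blk740
  · exact closedP_blk741
  · exact closedP_blk742
  · exact closedP_blk743
  · exact closedP_blk744
  · exact closedP_blk745
  · exact closedP_blk746
  · exact closedP_blk747
  · exact closedP_blk748
  · exact closedP_blk749
  · exact closedP_blk750
  · exact closedP_blk751
  · exact closedP_blk752
  · exact closedP_blk753
  · exact closedP_blk754
  · exact closedP_blk755
  · exact closedP_blk756
  · exact closedP_blk757
  · exact closedP_blk758
  · exact closedP_blk759
  · exact closedP_blk760
  · exact closedP_blk761
  · exact closedP_blk762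
  · exact closedP_blk763
  · exact closedP_blk764
  · exact closedP_blk765
  · exact closedP_blk766
  · exact closedP_blk767

end Cfsg.Agent.Lib.Helper28.Fi24x306936
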