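import Cfsg.Agent.Lib.Helper28.Fi24x306936.Defs

set_option autoImplicit false
set_option linter.unusedVariables false
set_option Elab.async false

namespace Cfsg.Agent.Lib.Helper28.Fi24x306936

open Cfsg.Spor.Fi24 (Gen)
open Cfsg.Agent.Lib.Helper28.TC
open Cfsg.Agent.Lib.Helper28.TC2

theorem closedP_blk768 : allRange (guard nn closedP) 8 (768 * 2 ^ 8) = true := by decide +kernel
theorem closedP_blk769 : allRange (guard nn closedP) 8 (769 * 2 ^ 8) = true := by decide +kernel
theorem closedP_blk770 : allRange (guard nn closedP) 8 (770 * 2 ^ 8) = true := by decide +kernel
theorem closedP_blk771 : allRange (guard nn closedP) 8 (771 * 2 ^ 8) = true := by decide +kernel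
theorem closedP_blk772 : allRange (guard nn closedP) 8 (772 * 2 ^ 8) = true := by decide +kernel
theorem closedP_blk773 : allRange (guard nn closedP) 8 (773 * 2 ^ 8) = true := by decide +kernel
theorem closedP_blk774 : allRange (guard nn closedP) 8 (774 * 2 ^ 8) = true := by decide +kernel
theorem closedP_blk775 : allRange (guard nn closedP) 8 (775 * 2 ^ 8) = true := by decide +kernel
theorem closedP_blk776 : allRange (guard nn closedP) 8 (776 * 2 ^ 8) = true := by decide +kernel
theorem closedP_blk777 : allRange (guard nn closedP) 8 (777 * 2 ^ 8) = true := by decide +kernel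
theorem closedP_blk778 : allRange (guard nn closedP) 8 (778 * 2 ^ 8) = true := by decide +kernel
theorem closedP_blk779 : allRange (guard nn closedP) 8 (779 * 2 ^ 8) = true := by decide +kernel
theorem closedP_blk780 : allRange (guard nn closedP) 8 (780 * 2 ^ 8) = true := by decide +kernel
theorem closedP_blk781 : allRange (guard nn closedP) 8 (781 * 2 ^ 8) = true := by decide +kernel
theorem closedP_blk782 : allRange (guard nn closedP) 8 (782 * 2 ^ 8) = true := by decide +kernel
theorem closedP_blk783 : allRange (guard nn closedP) 8 (783 * 2 ^ 8) = true := by decide +kernel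
theorem closedP_blk784 : allRange (guard nn closedP) 8 (784 * 2 ^ 8) = true := by decide +kernel
theorem closedP_blk785 : allRange (guard nn closedP) 8 (785 * 2 ^ 8) = true := by decide +kernel
theorem closedP_blk786 : allRange (guard nn closedP) 8 (786 * 2 ^ 8) = true := by decide +kernel
theorem closedP_blk787 : allRange (guard nn closedP) 8 (787 * 2 ^ 8) = true := by decide +kernel
theorem closedP_blk788 : allRange (guard nn closedP) 8 (788 * 2 ^ 8) = true := by decide +kernel
theorem closedP_blk789 : allRange (guard nn closedP) 8 (789 * 2 ^ 8) = true := by decide +kernel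
theorem closedP_blk790 : allRange (guard nn closedP) 8 (790 * 2 ^ 8) = true := by decide +kernel
theorem closedP_blk791 : allRange (guard nn closedP) 8 (791 * 2 ^ 8) = true := by decide +kernel
theorem closedP_blk792 : allRange (guard nn closedP) 8 (792 * 2 ^ 8) = true := by decide +kernel
theorem closedP_blk793 : allRange (guard nn closedP) 8 (793 * 2 ^ 8) = true := by decide +kernel
theorem closedP_blk794 : allRange (guard nn closedP) 8 (794 * 2 ^ 8) = true := by decide +kernel
theorem closedP_blk795 : allRange (guard nn closedP) 8 (795 * 2 ^ 8) = true := by decide +kernel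
theorem closedP_blk796 : allRange (guard nn closedP) 8 (796 * 2 ^ 8) = true := by decide +kernel
theorem closedP_blk797 : allRange (guard nn closedP) 8 (797 * 2 ^ 8) = true := by decide +kernel
theorem closedP_blk798 : allRange (guard nn closedP) 8 (798 * 2 ^ 8) = true := by decide +kernel
theorem closedP_blk799 : allRange (guard nn closedP) 8 (799 * 2 ^ 8) = true := by decide +kernel
theorem closedP_blk800 : allRange (guard nn closedP) 8 (800 * 2 ^ 8) = true := by decide +kernel
theorem closedP_blk801 : allRange (guard nn closedP) 8 (801 * 2 ^ 8) = true := by decide +kernel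
theorem closedP_blk802 : allRange (guard nn closedP) 8 (802 * 2 ^ 8) = true := by decide +kernel
theorem closedP_blk803 : allRange (guard nn closedP) 8 (803 * 2 ^ 8) = true := by decide +kernel
theorem closedP_blk804 : allRange (guard nn closedP) 8 (804 * 2 ^ 8) = true := by decide +kernel
theorem closedP_blk805 : allRange (guard nn closedP) 8 (805 * 2 ^ 8) = true := by decide +kernel
theorem closedP_blk806 : allRange (guard nn closedP) 8 (806 * 2 ^ 8) = true := by decide +kernel
theorem closedP_blk807 : allRange (guard nn closedP) 8 (807 * 2 ^ 8) = true := by decide +kernel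
theorem closedP_blk808 : allRange (guard nn closedP) 8 (808 * 2 ^ 8) = true := by decide +kernel
theorem closedP_blk809 : allRange (guard nn closedP) 8 (809 * 2 ^ 8) = true := by decide +kernel
theorem closedP_blk810 : allRange (guard nn closedP) 8 (810 * 2 ^ 8) = true := by decide +kernel
theorem closedP_blk811 : allRange (guard nn closedP) 8 (811 * 2 ^ 8) = true := by decide +kernel
theorem closedP_blk812 : allRange (guard nn closedP) 8 (812 * 2 ^ 8) = true := by decide +kernel
theorem closedP_blk813 : allRange (guard nn closedP) 8 (813 * 2 ^ 8) = true := by decide +kernel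
theorem closedP_blk814 : allRange (guard nn closedP) 8 (814 * 2 ^ 8) = true := by decide +kernel
theorem closedP_blk815 : allRange (guard nn closedP) 8 (815 * 2 ^ 8) = true := by decide +kernel
theorem closedP_blk816 : allRange (guard nn closedP) 8 (816 * 2 ^ 8) = true := by decide +kernel
theorem closedP_blk817 : allRange (guard nn closedP) 8 (817 * 2 ^ 8) = true := by decide +kernel
theorem closedP_blk818 : allRange (guard nn closedP) 8 (818 * 2 ^ 8) = true := by decide +kernel
theorem closedP_blk819 : allRange (guard nn closedP) 8 (819 * 2 ^ 8) = true := by decide +kernel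
theorem closedP_blk820 : allRange (guard nn closedP) 8 (820 * 2 ^ 8) = true := by decide +kernel
theorem closedP_blk821 : allRange (guard nn closedP) 8 (821 * 2 ^ 8) = true := by decide +kernel
theorem closedP_blk822 : allRange (guard nn closedP) 8 (822 * 2 ^ 8) = true := by decide +kernel
theorem closedP_blk823 : allRange (guard nn closedP) 8 (823 * 2 ^ 8) = true := by decide +kernel
theorem closedP_blk824 : allRange (guard nn closedP) 8 (824 * 2 ^ 8) = true := by decide +kernel
theorem closedP_blk825 : allRange (guard nn closedP) 8 (825 * 2 ^ 8) = true := by decide +kernel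
theorem closedP_blk826 : allRange (guard nn closedP) 8 (826 * 2 ^ 8) = true := by decide +kernel
theorem closedP_blk827 : allRange (guard nn closedP) 8 (827 * 2 ^ 8) = true := by decide +kernel
theorem closedP_blk828 : allRange (guard nn closedP) 8 (828 * 2 ^ 8) = true := by decide +kernel
theorem closedP_blk829 : allRange (guard nn closedP) 8 (829 * 2 ^ 8) = true := by decide +kernel
theorem closedP_blk830 : allRange (guard nn closedP) 8 (830 * 2 ^ 8) = true := by decide +kernel
theorem closedP_blk831 : allRange (guard nn closedP) 8 (831 * 2 ^ 8) = true := by decide +kernel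
theorem closedP_blk832 : allRange (guard nn closedP) 8 (832 * 2 ^ 8) = true := by decide +kernel
theorem closedP_blk833 : allRange (guard nn closedP) 8 (833 * 2 ^ 8) = true := by decide +kernel
theorem closedP_blk834 : allRange (guard nn closedP) 8 (834 * 2 ^ 8) = true := by decide +kernel
theorem closedP_blk835 : allRange (guard nn closedP) 8 (835 * 2 ^ 8) = true := by decide +kernel
theorem closedP_blk836 : allRange (guard nn closedP) 8 (836 * 2 ^ 8) = true := by decide +kernel
theorem closedP_blk837 : allRange (guard nn closedP) 8 (837 * 2 ^ 8) = true := by decide +kernel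
theorem closedP_blk838 : allRange (guard nn closedP) 8 (838 * 2 ^ 8) = true := by decide +kernel
theorem closedP_blk839 : allRange (guard nn closedP) 8 (839 * 2 ^ 8) = true := by decide +kernel
theorem closedP_blk840 : allRange (guard nn closedP) 8 (840 * 2 ^ 8) = true := by decide +kernel
theorem closedP_blk841 : allRange (guard nn closedP) 8 (841 * 2 ^ 8) = true := by decide +kernel
theorem closedP_blk842 : allRange (guard nn closedP) 8 (842 * 2 ^ 8) = true := by decide +kernel
theorem closedP_blk843 : allRange (guard nn closedP) 8 (843 * 2 ^ 8) = true := by decide +kernel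
theorem closedP_blk844 : allRange (guard nn closedP) 8 (844 * 2 ^ 8) = true := by decide +kernel
theorem closedP_blk845 : allRange (guard nn closedP) 8 (845 * 2 ^ 8) = true := by decide +kernel
theorem closedP_blk846 : allRange (guard nn closedP) 8 (846 * 2 ^ 8) = true := by decide +kernel
theorem closedP_blk847 : allRange (guard nn closedP) 8 (847 * 2 ^ 8) = true := by decide +kernel
theorem closedP_blk848 : allRange (guard nn closedP) 8 (848 * 2 ^ 8) = true := by decide +kernel
theorem closedP_blk849 : allRange (guard nn closedP) 8 (849 * 2 ^ 8) = true := by decide +kernel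
theorem closedP_blk850 : allRange (guard nn closedP) 8 (850 * 2 ^ 8) = true := by decide +kernel
theorem closedP_blk851 : allRange (guard nn closedP) 8 (851 * 2 ^ 8) = true := by decide +kernel
theorem closedP_blk852 : allRange (guard nn closedP) 8 (852 * 2 ^ 8) = true := by decide +kernel
theorem closedP_blk853 : allRange (guard nn closedP) 8 (853 * 2 ^ 8) = true := by decide +kernel
theorem closedP_blk854 : allRange (guard nn closedP) 8 (854 * 2 ^ 8) = true := by decide +kernel
theorem closedP_blk855 : allRange (guard nn closedP) 8 (855 * 2 ^ 8) = true := by decide +kernel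
theorem closedP_blk856 : allRange (guard nn closedP) 8 (856 * 2 ^ 8) = true := by decide +kernel
theorem closedP_blk857 : allRange (guard nn closedP) 8 (857 * 2 ^ 8) = true := by decide +kernel
theorem closedP_blk858 : allRange (guard nn closedP) 8 (858 * 2 ^ 8) = true := by decide +kernel
theorem closedP_blk859 : allRange (guard nn closedP) 8 (859 * 2 ^ 8) = true := by decide +kernel
theorem closedP_blk860 : allRange (guard nn closedP) 8 (860 * 2 ^ 8) = true := by decide +kernel
theorem closedP_blk861 : allRange (guard nn closedP) 8 (861 * 2 ^ 8) = true := by decide +kernel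
theorem closedP_blk862 : allRange (guard nn closedP) 8 (862 * 2 ^ 8) = true := by decide +kernel
theorem closedP_blk863 : allRange (guard nn closedP) 8 (863 * 2 ^ 8) = true := by decide +kernel
theorem closedP_blk864 : allRange (guard nn closedP) 8 (864 * 2 ^ 8) = true := by decide +kernel
theorem closedP_blk865 : allRange (guard nn closedP) 8 (865 * 2 ^ 8) = true := by decide +kernel
theorem closedP_blk866 : allRange (guard nn closedP) 8 (866 * 2 ^ 8) = true := by decide +kernel
theorem closedP_blk867 : allRange (guard nn closedP) 8 (867 * 2 ^ 8) = true := by decide +kernel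
theorem closedP_blk868 : allRange (guard nn closedP) 8 (868 * 2 ^ 8) = true := by decide +kernel
theorem closedP_blk869 : allRange (guard nn closedP) 8 (869 * 2 ^ 8) = true := by decide +kernel
theorem closedP_blk870 : allRange (guard nn closedP) 8 (870 * 2 ^ 8) = true := by decide +kernel
theorem closedP_blk871 : allRange (guard nn closedP) 8 (871 * 2 ^ 8) = true := by decide +kernel
theorem closedP_blk872 : allRange (guard nn closedP) 8 (872 * 2 ^ 8) = true := by decide +kernel
theorem closedP_blk873 : allRange (guard nn closedP) 8 (873 * 2 ^ 8) = true := by decide +kernel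
theorem closedP_blk874 : allRange (guard nn closedP) 8 (874 * 2 ^ 8) = true := by decide +kernel
theorem closedP_blk875 : allRange (guard nn closedP) 8 (875 * 2 ^ 8) = true := by decide +kernel
theorem closedP_blk876 : allRange (guard nn closedP) 8 (876 * 2 ^ 8) = true := by decide +kernel
theorem closedP_blk877 : allRange (guard nn closedP) 8 (877 * 2 ^ 8) = true := by decide +kernel
theorem closedP_blk878 : allRange (guard nn closedP) 8 (878 * 2 ^ 8) = true := by decide +kernel
theorem closedP_blk879 : allRange (guard nn closedP) 8 (879 * 2 ^ 8) = true := by decide +kernel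
theorem closedP_blk880 : allRange (guard nn closedP) 8 (880 * 2 ^ 8) = true := by decide +kernel
theorem closedP_blk881 : allRange (guard nn closedP) 8 (881 * 2 ^ 8) = true := by decide +kernel
theorem closedP_blk882 : allRange (guard nn closedP) 8 (882 * 2 ^ 8) = true := by decide +kernel
theorem closedP_blk883 : allRange (guard nn closedP) 8 (883 * 2 ^ 8) = true := by decide +kernel
theorem closedP_blk884 : allRange (guard nn closedP) 8 (884 * 2 ^ 8) = true := by decide +kernel
theorem closedP_blk885 : allRange (guard nn closedP) 8 (885 * 2 ^ 8) = true := by decide +kernel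
theorem closedP_blk886 : allRange (guard nn closedP) 8 (886 * 2 ^ 8) = true := by decide +kernel
theorem closedP_blk887 : allRange (guard nn closedP) 8 (887 * 2 ^ 8) = true := by decide +kernel
theorem closedP_blk888 : allRange (guard nn closedP) 8 (888 * 2 ^ 8) = true := by decide +kernel
theorem closedP_blk889 : allRange (guard nn closedP) 8 (889 * 2 ^ 8) = true := by decide +kernel
theorem closedP_blk890 : allRange (guard nn closedP) 8 (890 * 2 ^ 8) = true := by decide +kernel
theorem closedP_blk891 : allRange (guard nn closedP) 8 (891 * 2 ^ 8) = true := by decide +kernel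
theorem closedP_blk892 : allRange (guard nn closedP) 8 (892 * 2 ^ 8) = true := by decide +kernel
theorem closedP_blk893 : allRange (guard nn closedP) 8 (893 * 2 ^ 8) = true := by decide +kernel
theorem closedP_blk894 : allRange (guard nn closedP) 8 (894 * 2 ^ 8) = true := by decide +kernel
theorem closedP_blk895 : allRange (guard nn closedP) 8 (895 * 2 ^ 8) = true := by decide +kernel
theorem closedP_f6 : ∀ k, 768 ≤ k → k < 896 → allRange (guard nn closedP) 8 (k * 2 ^ 8) = true := by
  intro k h1 h2
  interval_cases k
  · exact closedP_blk768
  · exact closedP_blk769
  · exact closedP_blk770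
  · exact closedP_blk771
  · exact closedP_blk772
  · exact closedP_blk773
  · exact closedP_blk774
  · exact closedP_blk775
  · exact closedP_blk776
  · exact closedP_blk777
  · exact closedP_blk778
  · exact closedP_blk779
  · exact closedP_blk780
  · exact closedP_blk781
  · exact closedP_blk782
  · exact closedP_blk783
  · exact closedP_blk784
  · exact closedP_blk785
  · exact closedP_blk786
  · exact closedP_blk787
  · exact closedP_blk788
  · exact closedP_blk789
  · exact closedP_blk790
  · exact closedP_blk791
  · exact closedP_blk792
  · exact closedP_blk793
  · exact closedP_blk794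
  · exact closedP_blk795
  · exact closedP_blk796
  · exact closedP_blk797
  · exact closedP_blk798
  · exact closedP_blk799
  · exact closedP_blk800
  · exact closedP_blk801
  · exact closedP_blk802
  · exact closedP_blk803
  · exact closedP_blk804
  · exact closedP_blk805
  · exact closedP_blk806
  · exact closedP_blk807
  · exact closedP_blk808
  · exact closedP_blk809
  · exact closedP_blk810
  · exact closedP_blk811
  · exact closedP_blk812
  · exact closedP_blk813
  · exact closedP_blk814
  · exact closedP_blk815
  · exact closedP_blk816
  · exact closedP_blk817
  · exact closedP_blk818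
  · exact closedP_blk819
  · exact closedP_blk820
  · exact closedP_blk821
  · exact closedP_blk822
  · exact closedP_blk823
  · exact closedP_blk824
  · exact closedP_blk825
  · exact closedP_blk826
  · exact closedP_blk827
  · exact closedP_blk828
  · exact closedP_blk829
  · exact closedP_blk830
  · exact closedP_blk831
  · exact closedP_blk832
  · exact closedP_blk833
  · exact closedP_blk834
  · exact closedP_blk835
  · exact closedP_blk836
  · exact closedP_blk837
  · exact closedP_blk838
  · exact closedP_blk839
  · exact closedP_blk840
  · exact closedP_blk841
  · exact closedP_blk842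
  · exact closedP_blk843
  · exact closedP_blk844
  · exact closedP_blk845
  · exact closedP_blk846
  · exact closedP_blk847
  · exact closedP_blk848
  · exact closedP_blk849
  · exact closedP_blk850
  · exact closedP_blk851
  · exact closedP_blk852
  · exact closedP_blk853
  · exact closedP_blk854
  · exact closedP_blk855
  · exact closedP_blk856
  · exact closedP_blk857
  · exact closedP_blk858
  · exact closedP_blk859
  · exact closedP_blk860
  · exact closedP_blk861
  · exact closedP_blk862
  · exact closedP_blk863
  · exact closedP_blk864
  · exact closedP_blk865
  · exact closedP_blk866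
  · exact closedP_blk867
  · exact closedP_blk868
  · exact closedP_blk869
  · exact closedP_blk870
  · exact closedP_blk871
  · exact closedP_blk872
  · exact closedP_blk873
  · exact closedP_blk874
  · exact closedP_blk875
  · exact closedP_blk876
  · exact closedP_blk877
  · exact closedP_blk878
  · exact closedP_blk879
  · exact closedP_blk880
  · exact closedP_blk881
  · exact closedP_blk882
  · exact closedP_blk883
  · exact closedP_blk884
  · exact closedP_blk885
  · exact closedP_blk886
  · exact closedP_blk887
  · exact closedP_blk888
  · exact closedP_blk889
  · exact closedP_blk890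
  · exact closedP_blk891
  · exact closedP_blk892
  · exact closedP_blk893
  · exact closedP_blk894
  · exact closedP_blk895

end Cfsg.Agent.Lib.Helper28.Fi24x306936
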