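import Cfsg.Agent.Lib.Helper28.Fi24x306936.Defs

set_option autoImplicit false
set_option linter.unusedVariables false
set_option Elab.async false

namespace Cfsg.Agent.Lib.Helper28.Fi24x306936

open Cfsg.Spor.Fi24 (Gen)
open Cfsg.Agent.Lib.Helper28.TC
open Cfsg.Agent.Lib.Helper28.TC2

theorem closedP_blk896 : allRange (guard nn closedP) 8 (896 * 2 ^ 8) = true := by decide +kernel
theorem closedP_blk897 : allRange (guard nn closedP) 8 (897 * 2 ^ 8) = true := by decide +kernel
theorem closedP_blk898 : allRange (guard nn closedP) 8 (898 * 2 ^ 8) = true := by decide +kernel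
theorem closedP_blk899 : allRange (guard nn closedP) 8 (899 * 2 ^ 8) = true := by decide +kernel
theorem closedP_blk900 : allRange (guard nn closedP) 8 (900 * 2 ^ 8) = true := by decide +kernel
theorem closedP_blk901 : allRange (guard nn closedP) 8 (901 * 2 ^ 8) = true := by decide +kernel
theorem closedP_blk902 : allRange (guard nn closedP) 8 (902 * 2 ^ 8) = true := by decide +kernel
theorem closedP_blk903 : allRange (guard nn closedP) 8 (903 * 2 ^ 8) = true := by decide +kernel
theorem closedP_blk904 : allRange (guard nn closedP) 8 (904 * 2 ^ 8) = true := by decide +kernel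
theorem closedP_blk905 : allRange (guard nn closedP) 8 (905 * 2 ^ 8) = true := by decide +kernel
theorem closedP_blk906 : allRange (guard nn closedP) 8 (906 * 2 ^ 8) = true := by decide +kernel
theorem closedP_blk907 : allRange (guard nn closedP) 8 (907 * 2 ^ 8) = true := by decide +kernel
theorem closedP_blk908 : allRange (guard nn closedP) 8 (908 * 2 ^ 8) = true := by decide +kernel
theorem closedP_blk909 : allRange (guard nn closedP) 8 (909 * 2 ^ 8) = true := by decide +kernel
theorem closedP_blk910 : allRange (guard nn closedP) 8 (910 * 2 ^ 8) = true := by decide +kernel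
theorem closedP_blk911 : allRange (guard nn closedP) 8 (911 * 2 ^ 8) = true := by decide +kernel
theorem closedP_blk912 : allRange (guard nn closedP) 8 (912 * 2 ^ 8) = true := by decide +kernel
theorem closedP_blk913 : allRange (guard nn closedP) 8 (913 * 2 ^ 8) = true := by decide +kernel
theorem closedP_blk914 : allRange (guard nn closedP) 8 (914 * 2 ^ 8) = true := by decide +kernel
theorem closedP_blk915 : allRange (guard nn closedP) 8 (915 * 2 ^ 8) = true := by decide +kernel
theorem closedP_blk916 : allRange (guard nn closedP) 8 (916 * 2 ^ 8) = true := by decide +kernel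
theorem closedP_blk917 : allRange (guard nn closedP) 8 (917 * 2 ^ 8) = true := by decide +kernel
theorem closedP_blk918 : allRange (guard nn closedP) 8 (918 * 2 ^ 8) = true := by decide +kernel
theorem closedP_blk919 : allRange (guard nn closedP) 8 (919 * 2 ^ 8) = true := by decide +kernel
theorem closedP_blk920 : allRange (guard nn closedP) 8 (920 * 2 ^ 8) = true := by decide +kernel
theorem closedP_blk921 : allRange (guard nn closedP) 8 (921 * 2 ^ 8) = true := by decide +kernel
theorem closedP_blk922 : allRange (guard nn closedP) 8 (922 * 2 ^ 8) = true := by decide +kernel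
theorem closedP_blk923 : allRange (guard nn closedP) 8 (923 * 2 ^ 8) = true := by decide +kernel
theorem closedP_blk924 : allRange (guard nn closedP) 8 (924 * 2 ^ 8) = true := by decide +kernel
theorem closedP_blk925 : allRange (guard nn closedP) 8 (925 * 2 ^ 8) = true := by decide +kernel
theorem closedP_blk926 : allRange (guard nn closedP) 8 (926 * 2 ^ 8) = true := by decide +kernel
theorem closedP_blk927 : allRange (guard nn closedP) 8 (927 * 2 ^ 8) = true := by decide +kernel
theorem closedP_blk928 : allRange (guard nn closedP) 8 (928 * 2 ^ 8) = true := by decide +kernel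
theorem closedP_blk929 : allRange (guard nn closedP) 8 (929 * 2 ^ 8) = true := by decide +kernel
theorem closedP_blk930 : allRange (guard nn closedP) 8 (930 * 2 ^ 8) = true := by decide +kernel
theorem closedP_blk931 : allRange (guard nn closedP) 8 (931 * 2 ^ 8) = true := by decide +kernel
theorem closedP_blk932 : allRange (guard nn closedP) 8 (932 * 2 ^ 8) = true := by decide +kernel
theorem closedP_blk933 : allRange (guard nn closedP) 8 (933 * 2 ^ 8) = true := by decide +kernel
theorem closedP_blk934 : allRange (guard nn closedP) 8 (934 * 2 ^ 8) = true := by decide +kernel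
theorem closedP_blk935 : allRange (guard nn closedP) 8 (935 * 2 ^ 8) = true := by decide +kernel
theorem closedP_blk936 : allRange (guard nn closedP) 8 (936 * 2 ^ 8) = true := by decide +kernel
theorem closedP_blk937 : allRange (guard nn closedP) 8 (937 * 2 ^ 8) = true := by decide +kernel
theorem closedP_blk938 : allRange (guard nn closedP) 8 (938 * 2 ^ 8) = true := by decide +kernel
theorem closedP_blk939 : allRange (guard nn closedP) 8 (939 * 2 ^ 8) = true := by decide +kernel
theorem closedP_blk940 : allRange (guard nn closedP) 8 (940 * 2 ^ 8) = true := by decide +kernel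
theorem closedP_blk941 : allRange (guard nn closedP) 8 (941 * 2 ^ 8) = true := by decide +kernel
theorem closedP_blk942 : allRange (guard nn closedP) 8 (942 * 2 ^ 8) = true := by decide +kernel
theorem closedP_blk943 : allRange (guard nn closedP) 8 (943 * 2 ^ 8) = true := by decide +kernel
theorem closedP_blk944 : allRange (guard nn closedP) 8 (944 * 2 ^ 8) = true := by decide +kernel
theorem closedP_blk945 : allRange (guard nn closedP) 8 (945 * 2 ^ 8) = true := by decide +kernel
theorem closedP_blk946 : allRange (guard nn closedP) 8 (946 * 2 ^ 8) = true := by decide +kernel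
theorem closedP_blk947 : allRange (guard nn closedP) 8 (947 * 2 ^ 8) = true := by decide +kernel
theorem closedP_blk948 : allRange (guard nn closedP) 8 (948 * 2 ^ 8) = true := by decide +kernel
theorem closedP_blk949 : allRange (guard nn closedP) 8 (949 * 2 ^ 8) = true := by decide +kernel
theorem closedP_blk950 : allRange (guard nn closedP) 8 (950 * 2 ^ 8) = true := by decide +kernel
theorem closedP_blk951 : allRange (guard nn closedP) 8 (951 * 2 ^ 8) = true := by decide +kernel
theorem closedP_blk952 : allRange (guard nn closedP) 8 (952 * 2 ^ 8) = true := by decide +kernel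
theorem closedP_blk953 : allRange (guard nn closedP) 8 (953 * 2 ^ 8) = true := by decide +kernel
theorem closedP_blk954 : allRange (guard nn closedP) 8 (954 * 2 ^ 8) = true := by decide +kernel
theorem closedP_blk955 : allRange (guard nn closedP) 8 (955 * 2 ^ 8) = true := by decide +kernel
theorem closedP_blk956 : allRange (guard nn closedP) 8 (956 * 2 ^ 8) = true := by decide +kernel
theorem closedP_blk957 : allRange (guard nn closedP) 8 (957 * 2 ^ 8) = true := by decide +kernel
theorem closedP_blk958 : allRange (guard nn closedP) 8 (958 * 2 ^ 8) = true := by decide +kernel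
theorem closedP_blk959 : allRange (guard nn closedP) 8 (959 * 2 ^ 8) = true := by decide +kernel
theorem closedP_blk960 : allRange (guard nn closedP) 8 (960 * 2 ^ 8) = true := by decide +kernel
theorem closedP_blk961 : allRange (guard nn closedP) 8 (961 * 2 ^ 8) = true := by decide +kernel
theorem closedP_blk962 : allRange (guard nn closedP) 8 (962 * 2 ^ 8) = true := by decide +kernel
theorem closedP_blk963 : allRange (guard nn closedP) 8 (963 * 2 ^ 8) = true := by decide +kernel
theorem closedP_blk964 : allRange (guard nn closedP) 8 (964 * 2 ^ 8) = true := by decide +kernel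
theorem closedP_blk965 : allRange (guard nn closedP) 8 (965 * 2 ^ 8) = true := by decide +kernel
theorem closedP_blk966 : allRange (guard nn closedP) 8 (966 * 2 ^ 8) = true := by decide +kernel
theorem closedP_blk967 : allRange (guard nn closedP) 8 (967 * 2 ^ 8) = true := by decide +kernel
theorem closedP_blk968 : allRange (guard nn closedP) 8 (968 * 2 ^ 8) = true := by decide +kernel
theorem closedP_blk969 : allRange (guard nn closedP) 8 (969 * 2 ^ 8) = true := by decide +kernel
theorem closedP_blk970 : allRange (guard nn closedP) 8 (970 * 2 ^ 8) = true := by decide +kernel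
theorem closedP_blk971 : allRange (guard nn closedP) 8 (971 * 2 ^ 8) = true := by decide +kernel
theorem closedP_blk972 : allRange (guard nn closedP) 8 (972 * 2 ^ 8) = true := by decide +kernel
theorem closedP_blk973 : allRange (guard nn closedP) 8 (973 * 2 ^ 8) = true := by decide +kernel
theorem closedP_blk974 : allRange (guard nn closedP) 8 (974 * 2 ^ 8) = true := by decide +kernel
theorem closedP_blk975 : allRange (guard nn closedP) 8 (975 * 2 ^ 8) = true := by decide +kernel
theorem closedP_blk976 : allRange (guard nn closedP) 8 (976 * 2 ^ 8) = true := by decide +kernel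
theorem closedP_blk977 : allRange (guard nn closedP) 8 (977 * 2 ^ 8) = true := by decide +kernel
theorem closedP_blk978 : allRange (guard nn closedP) 8 (978 * 2 ^ 8) = true := by decide +kernel
theorem closedP_blk979 : allRange (guard nn closedP) 8 (979 * 2 ^ 8) = true := by decide +kernel
theorem closedP_blk980 : allRange (guard nn closedP) 8 (980 * 2 ^ 8) = true := by decide +kernel
theorem closedP_blk981 : allRange (guard nn closedP) 8 (981 * 2 ^ 8) = true := by decide +kernel
theorem closedP_blk982 : allRange (guard nn closedP) 8 (982 * 2 ^ 8) = true := by decide +kernel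
theorem closedP_blk983 : allRange (guard nn closedP) 8 (983 * 2 ^ 8) = true := by decide +kernel
theorem closedP_blk984 : allRange (guard nn closedP) 8 (984 * 2 ^ 8) = true := by decide +kernel
theorem closedP_blk985 : allRange (guard nn closedP) 8 (985 * 2 ^ 8) = true := by decide +kernel
theorem closedP_blk986 : allRange (guard nn closedP) 8 (986 * 2 ^ 8) = true := by decide +kernel
theorem closedP_blk987 : allRange (guard nn closedP) 8 (987 * 2 ^ 8) = true := by decide +kernel
theorem closedP_blk988 : allRange (guard nn closedP) 8 (988 * 2 ^ 8) = true := by decide +kernel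
theorem closedP_blk989 : allRange (guard nn closedP) 8 (989 * 2 ^ 8) = true := by decide +kernel
theorem closedP_blk990 : allRange (guard nn closedP) 8 (990 * 2 ^ 8) = true := by decide +kernel
theorem closedP_blk991 : allRange (guard nn closedP) 8 (991 * 2 ^ 8) = true := by decide +kernel
theorem closedP_blk992 : allRange (guard nn closedP) 8 (992 * 2 ^ 8) = true := by decide +kernel
theorem closedP_blk993 : allRange (guard nn closedP) 8 (993 * 2 ^ 8) = true := by decide +kernel
theorem closedP_blk994 : allRange (guard nn closedP) 8 (994 * 2 ^ 8) = true := by decide +kernel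
theorem closedP_blk995 : allRange (guard nn closedP) 8 (995 * 2 ^ 8) = true := by decide +kernel
theorem closedP_blk996 : allRange (guard nn closedP) 8 (996 * 2 ^ 8) = true := by decide +kernel
theorem closedP_blk997 : allRange (guard nn closedP) 8 (997 * 2 ^ 8) = true := by decide +kernel
theorem closedP_blk998 : allRange (guard nn closedP) 8 (998 * 2 ^ 8) = true := by decide +kernel
theorem closedP_blk999 : allRange (guard nn closedP) 8 (999 * 2 ^ 8) = true := by decide +kernel
theorem closedP_blk1000 : allRange (guard nn closedP) 8 (1000 * 2 ^ 8) = true := by decide +kernel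
theorem closedP_blk1001 : allRange (guard nn closedP) 8 (1001 * 2 ^ 8) = true := by decide +kernel
theorem closedP_blk1002 : allRange (guard nn closedP) 8 (1002 * 2 ^ 8) = true := by decide +kernel
theorem closedP_blk1003 : allRange (guard nn closedP) 8 (1003 * 2 ^ 8) = true := by decide +kernel
theorem closedP_blk1004 : allRange (guard nn closedP) 8 (1004 * 2 ^ 8) = true := by decide +kernel
theorem closedP_blk1005 : allRange (guard nn closedP) 8 (1005 * 2 ^ 8) = true := by decide +kernel
theorem closedP_blk1006 : allRange (guard nn closedP) 8 (1006 * 2 ^ 8) = true := by decide +kernel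
theorem closedP_blk1007 : allRange (guard nn closedP) 8 (1007 * 2 ^ 8) = true := by decide +kernel
theorem closedP_blk1008 : allRange (guard nn closedP) 8 (1008 * 2 ^ 8) = true := by decide +kernel
theorem closedP_blk1009 : allRange (guard nn closedP) 8 (1009 * 2 ^ 8) = true := by decide +kernel
theorem closedP_blk1010 : allRange (guard nn closedP) 8 (1010 * 2 ^ 8) = true := by decide +kernel
theorem closedP_blk1011 : allRange (guard nn closedP) 8 (1011 * 2 ^ 8) = true := by decide +kernel
theorem closedP_blk1012 : allRange (guard nn closedP) 8 (1012 * 2 ^ 8) = true := by decide +kernel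
theorem closedP_blk1013 : allRange (guard nn closedP) 8 (1013 * 2 ^ 8) = true := by decide +kernel
theorem closedP_blk1014 : allRange (guard nn closedP) 8 (1014 * 2 ^ 8) = true := by decide +kernel
theorem closedP_blk1015 : allRange (guard nn closedP) 8 (1015 * 2 ^ 8) = true := by decide +kernel
theorem closedP_blk1016 : allRange (guard nn closedP) 8 (1016 * 2 ^ 8) = true := by decide +kernel
theorem closedP_blk1017 : allRange (guard nn closedP) 8 (1017 * 2 ^ 8) = true := by decide +kernel
theorem closedP_blk1018 : allRange (guard nn closedP) 8 (1018 * 2 ^ 8) = true := by decide +kernel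
theorem closedP_blk1019 : allRange (guard nn closedP) 8 (1019 * 2 ^ 8) = true := by decide +kernel
theorem closedP_blk1020 : allRange (guard nn closedP) 8 (1020 * 2 ^ 8) = true := by decide +kernel
theorem closedP_blk1021 : allRange (guard nn closedP) 8 (1021 * 2 ^ 8) = true := by decide +kernel
theorem closedP_blk1022 : allRange (guard nn closedP) 8 (1022 * 2 ^ 8) = true := by decide +kernel
theorem closedP_blk1023 : allRange (guard nn closedP) 8 (1023 * 2 ^ 8) = true := by decide +kernel
theorem closedP_f7 : ∀ k, 896 ≤ k → k < 1024 → allRange (guard nn closedP) 8 (k * 2 ^ 8) = true := by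
  intro k h1 h2
  interval_cases k
  · exact closedP_blk896
  · exact closedP_blk897
  · exact closedP_blk898
  · exact closedP_blk899
  · exact closedP_blk900
  · exact closedP_blk901
  · exact closedP_blk902
  · exact closedP_blk903
  · exact closedP_blk904
  · exact closedP_blk905
  · exact closedP_blk906
  · exact closedP_blk907
  · exact closedP_blk908
  · exact closedP_blk909
  · exact closedP_blk910
  · exact closedP_blk911
  · exact closedP_blk912
  · exact closedP_blk913
  · exact closedP_blk914
  · exact closedP_blk915
  · exact closedP_blk916
  · exact closedP_blk917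
  · exact closedP_blk918
  · exact closedP_blk919
  · exact closedP_blk920
  · exact closedP_blk921
  · exact closedP_blk922
  · exact closedP_blk923
  · exact closedP_blk924
  · exact closedP_blk925
  · exact closedP_blk926
  · exact closedP_blk927
  · exact closedP_blk928
  · exact closedP_blk929
  · exact closedP_blk930
  · exact closedP_blk931
  · exact closedP_blk932
  · exact closedP_blk933
  · exact closedP_blk934
  · exact closedP_blk935
  · exact closedP_blk936
  · exact closedP_blk937
  · exact closedP_blk938
  · exact closedP_blk939
  · exact closedP_blk940
  · exact closedP_blk941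
  · exact closedP_blk942
  · exact closedP_blk943
  · exact closedP_blk944
  · exact closedP_blk945
  · exact closedP_blk946
  · exact closedP_blk947
  · exact closedP_blk948
  · exact closedP_blk949
  · exact closedP_blk950
  · exact closedP_blk951
  · exact closedP_blk952
  · exact closedP_blk953
  · exact closedP_blk954
  · exact closedP_blk955
  · exact closedP_blk956
  · exact closedP_blk957
  · exact closedP_blk958
  · exact closedP_blk959
  · exact closedP_blk960
  · exact closedP_blk961
  · exact closedP_blk962
  · exact closedP_blk963
  · exact closedP_blk964
  · exact closedP_blk965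
  · exact closedP_blk966
  · exact closedP_blk967
  · exact closedP_blk968
  · exact closedP_blk969
  · exact closedP_blk970
  · exact closedP_blk971
  · exact closedP_blk972
  · exact closedP_blk973
  · exact closedP_blk974
  · exact closedP_blk975
  · exact closedP_blk976
  · exact closedP_blk977
  · exact closedP_blk978
  · exact closedP_blk979
  · exact closedP_blk980
  · exact closedP_blk981
  · exact closedP_blk982
  · exact closedP_blk983
  · exact closedP_blk984
  · exact closedP_blk985
  · exact closedP_blk986
  · exact closedP_blk987
  · exact closedP_blk988
  · exact closedP_blk989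
  · exact closedP_blk990
  · exact closedP_blk991
  · exact closedP_blk992
  · exact closedP_blk993
  · exact closedP_blk994
  · exact closedP_blk995
  · exact closedP_blk996
  · exact closedP_blk997
  · exact closedP_blk998
  · exact closedP_blk999
  · exact closedP_blk1000
  · exact closedP_blk1001
  · exact closedP_blk1002
  · exact closedP_blk1003
  · exact closedP_blk1004
  · exact closedP_blk1005
  · exact closedP_blk1006
  · exact closedP_blk1007
  · exact closedP_blk1008
  · exact closedP_blk1009
  · exact closedP_blk1010
  · exact closedP_blk1011
  · exact closedP_blk1012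
  · exact closedP_blk1013
  · exact closedP_blk1014
  · exact closedP_blk1015
  · exact closedP_blk1016
  · exact closedP_blk1017
  · exact closedP_blk1018
  · exact closedP_blk1019
  · exact closedP_blk1020
  · exact closedP_blk1021
  · exact closedP_blk1022
  · exact closedP_blk1023

end Cfsg.Agent.Lib.Helper28.Fi24x306936
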