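import Cfsg.Agent.Lib.Helper28.Fi24x306936.Defs

set_option autoImplicit false
set_option linter.unusedVariables false
set_option Elab.async false

namespace Cfsg.Agent.Lib.Helper28.Fi24x306936

open Cfsg.Spor.Fi24 (Gen)
open Cfsg.Agent.Lib.Helper28.TC
open Cfsg.Agent.Lib.Helper28.TC2

theorem closedP_blk1024 : allRange (guard nn closedP) 8 (1024 * 2 ^ 8) = true := by decide +kernel
theorem closedP_blk1025 : allRange (guard nn closedP) 8 (1025 * 2 ^ 8) = true := by decide +kernel
theorem closedP_blk1026 : allRange (guard nn closedP) 8 (1026 * 2 ^ 8) = true := by decide +kernel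
theorem closedP_blk1027 : allRange (guard nn closedP) 8 (1027 * 2 ^ 8) = true := by decide +kernel
theorem closedP_blk1028 : allRange (guard nn closedP) 8 (1028 * 2 ^ 8) = true := by decide +kernel
theorem closedP_blk1029 : allRange (guard nn closedP) 8 (1029 * 2 ^ 8) = true := by decide +kernel
theorem closedP_blk1030 : allRange (guard nn closedP) 8 (1030 * 2 ^ 8) = true := by decide +kernel
theorem closedP_blk1031 : allRange (guard nn closedP) 8 (1031 * 2 ^ 8) = true := by decide +kernel
theorem closedP_blk1032 : allRange (guard nn closedP) 8 (1032 * 2 ^ 8) = true := by decide +kernel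
theorem closedP_blk1033 : allRange (guard nn closedP) 8 (1033 * 2 ^ 8) = true := by decide +kernel
theorem closedP_blk1034 : allRange (guard nn closedP) 8 (1034 * 2 ^ 8) = true := by decide +kernel
theorem closedP_blk1035 : allRange (guard nn closedP) 8 (1035 * 2 ^ 8) = true := by decide +kernel
theorem closedP_blk1036 : allRange (guard nn closedP) 8 (1036 * 2 ^ 8) = true := by decide +kernel
theorem closedP_blk1037 : allRange (guard nn closedP) 8 (1037 * 2 ^ 8) = true := by decide +kernel
theorem closedP_blk1038 : allRange (guard nn closedP) 8 (1038 * 2 ^ 8) = true := by decide +kernel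
theorem closedP_blk1039 : allRange (guard nn closedP) 8 (1039 * 2 ^ 8) = true := by decide +kernel
theorem closedP_blk1040 : allRange (guard nn closedP) 8 (1040 * 2 ^ 8) = true := by decide +kernel
theorem closedP_blk1041 : allRange (guard nn closedP) 8 (1041 * 2 ^ 8) = true := by decide +kernel
theorem closedP_blk1042 : allRange (guard nn closedP) 8 (1042 * 2 ^ 8) = true := by decide +kernel
theorem closedP_blk1043 : allRange (guard nn closedP) 8 (1043 * 2 ^ 8) = true := by decide +kernel
theorem closedP_blk1044 : allRange (guard nn closedP) 8 (1044 * 2 ^ 8) = true := by decide +kernel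
theorem closedP_blk1045 : allRange (guard nn closedP) 8 (1045 * 2 ^ 8) = true := by decide +kernel
theorem closedP_blk1046 : allRange (guard nn closedP) 8 (1046 * 2 ^ 8) = true := by decide +kernel
theorem closedP_blk1047 : allRange (guard nn closedP) 8 (1047 * 2 ^ 8) = true := by decide +kernel
theorem closedP_blk1048 : allRange (guard nn closedP) 8 (1048 * 2 ^ 8) = true := by decide +kernel
theorem closedP_blk1049 : allRange (guard nn closedP) 8 (1049 * 2 ^ 8) = true := by decide +kernel
theorem closedP_blk1050 : allRange (guard nn closedP) 8 (1050 * 2 ^ 8) = true := by decide +kernel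
theorem closedP_blk1051 : allRange (guard nn closedP) 8 (1051 * 2 ^ 8) = true := by decide +kernel
theorem closedP_blk1052 : allRange (guard nn closedP) 8 (1052 * 2 ^ 8) = true := by decide +kernel
theorem closedP_blk1053 : allRange (guard nn closedP) 8 (1053 * 2 ^ 8) = true := by decide +kernel
theorem closedP_blk1054 : allRange (guard nn closedP) 8 (1054 * 2 ^ 8) = true := by decide +kernel
theorem closedP_blk1055 : allRange (guard nn closedP) 8 (1055 * 2 ^ 8) = true := by decide +kernel
theorem closedP_blk1056 : allRange (guard nn closedP) 8 (1056 * 2 ^ 8) = true := by decide +kernel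
theorem closedP_blk1057 : allRange (guard nn closedP) 8 (1057 * 2 ^ 8) = true := by decide +kernel
theorem closedP_blk1058 : allRange (guard nn closedP) 8 (1058 * 2 ^ 8) = true := by decide +kernel
theorem closedP_blk1059 : allRange (guard nn closedP) 8 (1059 * 2 ^ 8) = true := by decide +kernel
theorem closedP_blk1060 : allRange (guard nn closedP) 8 (1060 * 2 ^ 8) = true := by decide +kernel
theorem closedP_blk1061 : allRange (guard nn closedP) 8 (1061 * 2 ^ 8) = true := by decide +kernel
theorem closedP_blk1062 : allRange (guard nn closedP) 8 (1062 * 2 ^ 8) = true := by decide +kernel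
theorem closedP_blk1063 : allRange (guard nn closedP) 8 (1063 * 2 ^ 8) = true := by decide +kernel
theorem closedP_blk1064 : allRange (guard nn closedP) 8 (1064 * 2 ^ 8) = true := by decide +kernel
theorem closedP_blk1065 : allRange (guard nn closedP) 8 (1065 * 2 ^ 8) = true := by decide +kernel
theorem closedP_blk1066 : allRange (guard nn closedP) 8 (1066 * 2 ^ 8) = true := by decide +kernel
theorem closedP_blk1067 : allRange (guard nn closedP) 8 (1067 * 2 ^ 8) = true := by decide +kernel
theorem closedP_blk1068 : allRange (guard nn closedP) 8 (1068 * 2 ^ 8) = true := by decide +kernel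
theorem closedP_blk1069 : allRange (guard nn closedP) 8 (1069 * 2 ^ 8) = true := by decide +kernel
theorem closedP_blk1070 : allRange (guard nn closedP) 8 (1070 * 2 ^ 8) = true := by decide +kernel
theorem closedP_blk1071 : allRange (guard nn closedP) 8 (1071 * 2 ^ 8) = true := by decide +kernel
theorem closedP_blk1072 : allRange (guard nn closedP) 8 (1072 * 2 ^ 8) = true := by decide +kernel
theorem closedP_blk1073 : allRange (guard nn closedP) 8 (1073 * 2 ^ 8) = true := by decide +kernel
theorem closedP_blk1074 : allRange (guard nn closedP) 8 (1074 * 2 ^ 8) = true := by decide +kernel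
theorem closedP_blk1075 : allRange (guard nn closedP) 8 (1075 * 2 ^ 8) = true := by decide +kernel
theorem closedP_blk1076 : allRange (guard nn closedP) 8 (1076 * 2 ^ 8) = true := by decide +kernel
theorem closedP_blk1077 : allRange (guard nn closedP) 8 (1077 * 2 ^ 8) = true := by decide +kernel
theorem closedP_blk1078 : allRange (guard nn closedP) 8 (1078 * 2 ^ 8) = true := by decide +kernel
theorem closedP_blk1079 : allRange (guard nn closedP) 8 (1079 * 2 ^ 8) = true := by decide +kernel
theorem closedP_blk1080 : allRange (guard nn closedP) 8 (1080 * 2 ^ 8) = true := by decide +kernel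
theorem closedP_blk1081 : allRange (guard nn closedP) 8 (1081 * 2 ^ 8) = true := by decide +kernel
theorem closedP_blk1082 : allRange (guard nn closedP) 8 (1082 * 2 ^ 8) = true := by decide +kernel
theorem closedP_blk1083 : allRange (guard nn closedP) 8 (1083 * 2 ^ 8) = true := by decide +kernel
theorem closedP_blk1084 : allRange (guard nn closedP) 8 (1084 * 2 ^ 8) = true := by decide +kernel
theorem closedP_blk1085 : allRange (guard nn closedP) 8 (1085 * 2 ^ 8) = true := by decide +kernel
theorem closedP_blk1086 : allRange (guard nn closedP) 8 (1086 * 2 ^ 8) = true := by decide +kernel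
theorem closedP_blk1087 : allRange (guard nn closedP) 8 (1087 * 2 ^ 8) = true := by decide +kernel
theorem closedP_blk1088 : allRange (guard nn closedP) 8 (1088 * 2 ^ 8) = true := by decide +kernel
theorem closedP_blk1089 : allRange (guard nn closedP) 8 (1089 * 2 ^ 8) = true := by decide +kernel
theorem closedP_blk1090 : allRange (guard nn closedP) 8 (1090 * 2 ^ 8) = true := by decide +kernel
theorem closedP_blk1091 : allRange (guard nn closedP) 8 (1091 * 2 ^ 8) = true := by decide +kernel
theorem closedP_blk1092 : allRange (guard nn closedP) 8 (1092 * 2 ^ 8) = true := by decide +kernel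
theorem closedP_blk1093 : allRange (guard nn closedP) 8 (1093 * 2 ^ 8) = true := by decide +kernel
theorem closedP_blk1094 : allRange (guard nn closedP) 8 (1094 * 2 ^ 8) = true := by decide +kernel
theorem closedP_blk1095 : allRange (guard nn closedP) 8 (1095 * 2 ^ 8) = true := by decide +kernel
theorem closedP_blk1096 : allRange (guard nn closedP) 8 (1096 * 2 ^ 8) = true := by decide +kernel
theorem closedP_blk1097 : allRange (guard nn closedP) 8 (1097 * 2 ^ 8) = true := by decide +kernel
theorem closedP_blk1098 : allRange (guard nn closedP) 8 (1098 * 2 ^ 8) = true := by decide +kernel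
theorem closedP_blk1099 : allRange (guard nn closedP) 8 (1099 * 2 ^ 8) = true := by decide +kernel
theorem closedP_blk1100 : allRange (guard nn closedP) 8 (1100 * 2 ^ 8) = true := by decide +kernel
theorem closedP_blk1101 : allRange (guard nn closedP) 8 (1101 * 2 ^ 8) = true := by decide +kernel
theorem closedP_blk1102 : allRange (guard nn closedP) 8 (1102 * 2 ^ 8) = true := by decide +kernel
theorem closedP_blk1103 : allRange (guard nn closedP) 8 (1103 * 2 ^ 8) = true := by decide +kernel
theorem closedP_blk1104 : allRange (guard nn closedP) 8 (1104 * 2 ^ 8) = true := by decide +kernel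
theorem closedP_blk1105 : allRange (guard nn closedP) 8 (1105 * 2 ^ 8) = true := by decide +kernel
theorem closedP_blk1106 : allRange (guard nn closedP) 8 (1106 * 2 ^ 8) = true := by decide +kernel
theorem closedP_blk1107 : allRange (guard nn closedP) 8 (1107 * 2 ^ 8) = true := by decide +kernel
theorem closedP_blk1108 : allRange (guard nn closedP) 8 (1108 * 2 ^ 8) = true := by decide +kernel
theorem closedP_blk1109 : allRange (guard nn closedP) 8 (1109 * 2 ^ 8) = true := by decide +kernel
theorem closedP_blk1110 : allRange (guard nn closedP) 8 (1110 * 2 ^ 8) = true := by decide +kernel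
theorem closedP_blk1111 : allRange (guard nn closedP) 8 (1111 * 2 ^ 8) = true := by decide +kernel
theorem closedP_blk1112 : allRange (guard nn closedP) 8 (1112 * 2 ^ 8) = true := by decide +kernel
theorem closedP_blk1113 : allRange (guard nn closedP) 8 (1113 * 2 ^ 8) = true := by decide +kernel
theorem closedP_blk1114 : allRange (guard nn closedP) 8 (1114 * 2 ^ 8) = true := by decide +kernel
theorem closedP_blk1115 : allRange (guard nn closedP) 8 (1115 * 2 ^ 8) = true := by decide +kernel
theorem closedP_blk1116 : allRange (guard nn closedP) 8 (1116 * 2 ^ 8) = true := by decide +kernel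
theorem closedP_blk1117 : allRange (guard nn closedP) 8 (1117 * 2 ^ 8) = true := by decide +kernel
theorem closedP_blk1118 : allRange (guard nn closedP) 8 (1118 * 2 ^ 8) = true := by decide +kernel
theorem closedP_blk1119 : allRange (guard nn closedP) 8 (1119 * 2 ^ 8) = true := by decide +kernel
theorem closedP_blk1120 : allRange (guard nn closedP) 8 (1120 * 2 ^ 8) = true := by decide +kernel
theorem closedP_blk1121 : allRange (guard nn closedP) 8 (1121 * 2 ^ 8) = true := by decide +kernel
theorem closedP_blk1122 : allRange (guard nn closedP) 8 (1122 * 2 ^ 8) = true := by decide +kernel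
theorem closedP_blk1123 : allRange (guard nn closedP) 8 (1123 * 2 ^ 8) = true := by decide +kernel
theorem closedP_blk1124 : allRange (guard nn closedP) 8 (1124 * 2 ^ 8) = true := by decide +kernel
theorem closedP_blk1125 : allRange (guard nn closedP) 8 (1125 * 2 ^ 8) = true := by decide +kernel
theorem closedP_blk1126 : allRange (guard nn closedP) 8 (1126 * 2 ^ 8) = true := by decide +kernel
theorem closedP_blk1127 : allRange (guard nn closedP) 8 (1127 * 2 ^ 8) = true := by decide +kernel
theorem closedP_blk1128 : allRange (guard nn closedP) 8 (1128 * 2 ^ 8) = true := by decide +kernel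
theorem closedP_blk1129 : allRange (guard nn closedP) 8 (1129 * 2 ^ 8) = true := by decide +kernel
theorem closedP_blk1130 : allRange (guard nn closedP) 8 (1130 * 2 ^ 8) = true := by decide +kernel
theorem closedP_blk1131 : allRange (guard nn closedP) 8 (1131 * 2 ^ 8) = true := by decide +kernel
theorem closedP_blk1132 : allRange (guard nn closedP) 8 (1132 * 2 ^ 8) = true := by decide +kernel
theorem closedP_blk1133 : allRange (guard nn closedP) 8 (1133 * 2 ^ 8) = true := by decide +kernel
theorem closedP_blk1134 : allRange (guard nn closedP) 8 (1134 * 2 ^ 8) = true := by decide +kernel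
theorem closedP_blk1135 : allRange (guard nn closedP) 8 (1135 * 2 ^ 8) = true := by decide +kernel
theorem closedP_blk1136 : allRange (guard nn closedP) 8 (1136 * 2 ^ 8) = true := by decide +kernel
theorem closedP_blk1137 : allRange (guard nn closedP) 8 (1137 * 2 ^ 8) = true := by decide +kernel
theorem closedP_blk1138 : allRange (guard nn closedP) 8 (1138 * 2 ^ 8) = true := by decide +kernel
theorem closedP_blk1139 : allRange (guard nn closedP) 8 (1139 * 2 ^ 8) = true := by decide +kernel
theorem closedP_blk1140 : allRange (guard nn closedP) 8 (1140 * 2 ^ 8) = true := by decide +kernel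
theorem closedP_blk1141 : allRange (guard nn closedP) 8 (1141 * 2 ^ 8) = true := by decide +kernel
theorem closedP_blk1142 : allRange (guard nn closedP) 8 (1142 * 2 ^ 8) = true := by decide +kernel
theorem closedP_blk1143 : allRange (guard nn closedP) 8 (1143 * 2 ^ 8) = true := by decide +kernel
theorem closedP_blk1144 : allRange (guard nn closedP) 8 (1144 * 2 ^ 8) = true := by decide +kernel
theorem closedP_blk1145 : allRange (guard nn closedP) 8 (1145 * 2 ^ 8) = true := by decide +kernel
theorem closedP_blk1146 : allRange (guard nn closedP) 8 (1146 * 2 ^ 8) = true := by decide +kernel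
theorem closedP_blk1147 : allRange (guard nn closedP) 8 (1147 * 2 ^ 8) = true := by decide +kernel
theorem closedP_blk1148 : allRange (guard nn closedP) 8 (1148 * 2 ^ 8) = true := by decide +kernel
theorem closedP_blk1149 : allRange (guard nn closedP) 8 (1149 * 2 ^ 8) = true := by decide +kernel
theorem closedP_blk1150 : allRange (guard nn closedP) 8 (1150 * 2 ^ 8) = true := by decide +kernel
theorem closedP_blk1151 : allRange (guard nn closedP) 8 (1151 * 2 ^ 8) = true := by decide +kernel
theorem closedP_f8 : ∀ k, 1024 ≤ k → k < 1152 → allRange (guard nn closedP) 8 (k * 2 ^ 8) = true := by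
  intro k h1 h2
  interval_cases k
  · exact closedP_blk1024
  · exact closedP_blk1025
  · exact closedP_blk1026
  · exact closedP_blk1027
  · exact closedP_blk1028
  · exact closedP_blk1029
  · exact closedP_blk1030
  · exact closedP_blk1031
  · exact closedP_blk1032
  · exact closedP_blk1033
  · exact closedP_blk1034
  · exact closedP_blk1035
  · exact closedP_blk1036
  · exact closedP_blk1037
  · exact closedP_blk1038
  · exact closedP_blk1039
  · exact closedP_blk1040
  · exact closedP_blk1041
  · exact closedP_blk1042
  · exact closedP_blk1043
  · exact closedP_blk1044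
  · exact closedP_blk1045
  · exact closedP_blk1046
  · exact closedP_blk1047
  · exact closedP_blk1048
  · exact closedP_blk1049
  · exact closedP_blk1050
  · exact closedP_blk1051
  · exact closedP_blk1052
  · exact closedP_blk1053
  · exact closedP_blk1054
  · exact closedP_blk1055
  · exact closedP_blk1056
  · exact closedP_blk1057
  · exact closedP_blk1058
  · exact closedP_blk1059
  · exact closedP_blk1060
  · exact closedP_blk1061
  · exact closedP_blk1062
  · exact closedP_blk1063
  · exact closedP_blk1064
  · exact closedP_blk1065
  · exact closedP_blk1066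
  · exact closedP_blk1067
  · exact closedP_blk1068
  · exact closedP_blk1069
  · exact closedP_blk1070
  · exact closedP_blk1071
  · exact closedP_blk1072
  · exact closedP_blk1073
  · exact closedP_blk1074
  · exact closedP_blk1075
  · exact closedP_blk1076
  · exact closedP_blk1077
  · exact closedP_blk1078
  · exact closedP_blk1079
  · exact closedP_blk1080
  · exact closedP_blk1081
  · exact closedP_blk1082
  · exact closedP_blk1083
  · exact closedP_blk1084
  · exact closedP_blk1085
  · exact closedP_blk1086
  · exact closedP_blk1087
  · exact closedP_blk1088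
  · exact closedP_blk1089
  · exact closedP_blk1090
  · exact closedP_blk1091
  · exact closedP_blk1092
  · exact closedP_blk1093
  · exact closedP_blk1094
  · exact closedP_blk1095
  · exact closedP_blk1096
  · exact closedP_blk1097
  · exact closedP_blk1098
  · exact closedP_blk1099
  · exact closedP_blk1100
  · exact closedP_blk1101
  · exact closedP_blk1102
  · exact closedP_blk1103
  · exact closedP_blk1104
  · exact closedP_blk1105
  · exact closedP_blk1106
  · exact closedP_blk1107
  · exact closedP_blk1108
  · exact closedP_blk1109
  · exact closedP_blk1110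
  · exact closedP_blk1111
  · exact closedP_blk1112
  · exact closedP_blk1113
  · exact closedP_blk1114
  · exact closedP_blk1115
  · exact closedP_blk1116
  · exact closedP_blk1117
  · exact closedP_blk1118
  · exact closedP_blk1119
  · exact closedP_blk1120
  · exact closedP_blk1121
  · exact closedP_blk1122
  · exact closedP_blk1123
  · exact closedP_blk1124
  · exact closedP_blk1125
  · exact closedP_blk1126
  · exact closedP_blk1127
  · exact closedP_blk1128
  · exact closedP_blk1129
  · exact closedP_blk1130
  · exact closedP_blk1131
  · exact closedP_blk1132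
  · exact closedP_blk1133
  · exact closedP_blk1134
  · exact closedP_blk1135
  · exact closedP_blk1136
  · exact closedP_blk1137
  · exact closedP_blk1138
  · exact closedP_blk1139
  · exact closedP_blk1140
  · exact closedP_blk1141
  · exact closedP_blk1142
  · exact closedP_blk1143
  · exact closedP_blk1144
  · exact closedP_blk1145
  · exact closedP_blk1146
  · exact closedP_blk1147
  · exact closedP_blk1148
  · exact closedP_blk1149
  · exact closedP_blk1150
  · exact closedP_blk1151

end Cfsg.Agent.Lib.Helper28.Fi24x306936
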