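import Cfsg.Agent.Lib.Helper28.Fi24x306936.Defs

set_option autoImplicit false
set_option linter.unusedVariables false
set_option Elab.async false

namespace Cfsg.Agent.Lib.Helper28.Fi24x306936

open Cfsg.Spor.Fi24 (Gen)
open Cfsg.Agent.Lib.Helper28.TC
open Cfsg.Agent.Lib.Helper28.TC2

theorem factP_blk0 : allRange factP 7 (0 * 2 ^ 7) = true := by decide +kernel
theorem factP_blk1 : allRange factP 7 (1 * 2 ^ 7) = true := by decide +kernel
theorem factP_blk2 : allRange factP 7 (2 * 2 ^ 7) = true := by decide +kernel
theorem factP_blk3 : allRange factP 7 (3 * 2 ^ 7) = true := by decide +kernel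
theorem factP_blk4 : allRange factP 7 (4 * 2 ^ 7) = true := by decide +kernel
theorem factP_blk5 : allRange factP 7 (5 * 2 ^ 7) = true := by decide +kernel
theorem factP_blk6 : allRange factP 7 (6 * 2 ^ 7) = true := by decide +kernel
theorem factP_blk7 : allRange factP 7 (7 * 2 ^ 7) = true := by decide +kernel
theorem factP_blk8 : allRange factP 7 (8 * 2 ^ 7) = true := by decide +kernel
theorem factP_blk9 : allRange factP 7 (9 * 2 ^ 7) = true := by decide +kernel
theorem factP_blk10 : allRange factP 7 (10 * 2 ^ 7) = true := by decide +kernel
theorem factP_blk11 : allRange factP 7 (11 * 2 ^ 7) = true := by decide +kernel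
theorem factP_blk12 : allRange factP 7 (12 * 2 ^ 7) = true := by decide +kernel
theorem factP_blk13 : allRange factP 7 (13 * 2 ^ 7) = true := by decide +kernel
theorem factP_blk14 : allRange factP 7 (14 * 2 ^ 7) = true := by decide +kernel
theorem factP_blk15 : allRange factP 7 (15 * 2 ^ 7) = true := by decide +kernel
theorem factP_blk16 : allRange factP 7 (16 * 2 ^ 7) = true := by decide +kernel
theorem factP_blk17 : allRange factP 7 (17 * 2 ^ 7) = true := by decide +kernel
theorem factP_blk18 : allRange factP 7 (18 * 2 ^ 7) = true := by decide +kernel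
theorem factP_blk19 : allRange factP 7 (19 * 2 ^ 7) = true := by decide +kernel
theorem factP_blk20 : allRange factP 7 (20 * 2 ^ 7) = true := by decide +kernel
theorem factP_blk21 : allRange factP 7 (21 * 2 ^ 7) = true := by decide +kernel
theorem factP_blk22 : allRange factP 7 (22 * 2 ^ 7) = true := by decide +kernel
theorem factP_blk23 : allRange factP 7 (23 * 2 ^ 7) = true := by decide +kernel
theorem factP_blk24 : allRange factP 7 (24 * 2 ^ 7) = true := by decide +kernel
theorem factP_blk25 : allRange factP 7 (25 * 2 ^ 7) = true := by decide +kernel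
theorem factP_blk26 : allRange factP 7 (26 * 2 ^ 7) = true := by decide +kernel
theorem factP_blk27 : allRange factP 7 (27 * 2 ^ 7) = true := by decide +kernel
theorem factP_blk28 : allRange factP 7 (28 * 2 ^ 7) = true := by decide +kernel
theorem factP_blk29 : allRange factP 7 (29 * 2 ^ 7) = true := by decide +kernel
theorem factP_blk30 : allRange factP 7 (30 * 2 ^ 7) = true := by decide +kernel
theorem factP_blk31 : allRange factP 7 (31 * 2 ^ 7) = true := by decide +kernel
theorem factP_blk32 : allRange factP 7 (32 * 2 ^ 7) = true := by decide +kernel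
theorem factP_blk33 : allRange factP 7 (33 * 2 ^ 7) = true := by decide +kernel
theorem factP_blk34 : allRange factP 7 (34 * 2 ^ 7) = true := by decide +kernel
theorem factP_blk35 : allRange factP 7 (35 * 2 ^ 7) = true := by decide +kernel
theorem factP_blk36 : allRange factP 7 (36 * 2 ^ 7) = true := by decide +kernel
theorem factP_blk37 : allRange factP 7 (37 * 2 ^ 7) = true := by decide +kernel
theorem factP_blk38 : allRange factP 7 (38 * 2 ^ 7) = true := by decide +kernel
theorem factP_blk39 : allRange factP 7 (39 * 2 ^ 7) = true := by decide +kernel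
theorem factP_blk40 : allRange factP 7 (40 * 2 ^ 7) = true := by decide +kernel
theorem factP_blk41 : allRange factP 7 (41 * 2 ^ 7) = true := by decide +kernel
theorem factP_blk42 : allRange factP 7 (42 * 2 ^ 7) = true := by decide +kernel
theorem factP_blk43 : allRange factP 7 (43 * 2 ^ 7) = true := by decide +kernel
theorem factP_blk44 : allRange factP 7 (44 * 2 ^ 7) = true := by decide +kernel
theorem factP_blk45 : allRange factP 7 (45 * 2 ^ 7) = true := by decide +kernel
theorem factP_blk46 : allRange factP 7 (46 * 2 ^ 7) = true := by decide +kernel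
theorem factP_blk47 : allRange factP 7 (47 * 2 ^ 7) = true := by decide +kernel
theorem factP_blk48 : allRange factP 7 (48 * 2 ^ 7) = true := by decide +kernel
theorem factP_blk49 : allRange factP 7 (49 * 2 ^ 7) = true := by decide +kernel
theorem factP_blk50 : allRange factP 7 (50 * 2 ^ 7) = true := by decide +kernel
theorem factP_blk51 : allRange factP 7 (51 * 2 ^ 7) = true := by decide +kernel
theorem factP_blk52 : allRange factP 7 (52 * 2 ^ 7) = true := by decide +kernel
theorem factP_blk53 : allRange factP 7 (53 * 2 ^ 7) = true := by decide +kernel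
theorem factP_blk54 : allRange factP 7 (54 * 2 ^ 7) = true := by decide +kernel
theorem factP_blk55 : allRange factP 7 (55 * 2 ^ 7) = true := by decide +kernel
theorem factP_blk56 : allRange factP 7 (56 * 2 ^ 7) = true := by decide +kernel
theorem factP_blk57 : allRange factP 7 (57 * 2 ^ 7) = true := by decide +kernel
theorem factP_blk58 : allRange factP 7 (58 * 2 ^ 7) = true := by decide +kernel
theorem factP_blk59 : allRange factP 7 (59 * 2 ^ 7) = true := by decide +kernel
theorem factP_blk60 : allRange factP 7 (60 * 2 ^ 7) = true := by decide +kernel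
theorem factP_blk61 : allRange factP 7 (61 * 2 ^ 7) = true := by decide +kernel
theorem factP_blk62 : allRange factP 7 (62 * 2 ^ 7) = true := by decide +kernel
theorem factP_blk63 : allRange factP 7 (63 * 2 ^ 7) = true := by decide +kernel
theorem factP_f0 : ∀ k, 0 ≤ k → k < 64 → allRange factP 7 (k * 2 ^ 7) = true := by
  intro k h1 h2
  interval_cases k
  · exact factP_blk0
  · exact factP_blk1
  · exact factP_blk2
  · exact factP_blk3
  · exact factP_blk4
  · exact factP_blk5
  · exact factP_blk6
  · exact factP_blk7
  · exact factP_blk8
  · exact factP_blk9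
  · exact factP_blk10
  · exact factP_blk11
  · exact factP_blk12
  · exact factP_blk13
  · exact factP_blk14
  · exact factP_blk15
  · exact factP_blk16
  · exact factP_blk17
  · exact factP_blk18
  · exact factP_blk19
  · exact factP_blk20
  · exact factP_blk21
  · exact factP_blk22
  · exact factP_blk23
  · exact factP_blk24
  · exact factP_blk25
  · exact factP_blk26
  · exact factP_blk27
  · exact factP_blk28
  · exact factP_blk29
  · exact factP_blk30
  · exact factP_blk31
  · exact factP_blk32
  · exact factP_blk33
  · exact factP_blk34
  · exact factP_blk35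
  · exact factP_blk36
  · exact factP_blk37
  · exact factP_blk38
  · exact factP_blk39
  · exact factP_blk40
  · exact factP_blk41
  · exact factP_blk42
  · exact factP_blk43
  · exact factP_blk44
  · exact factP_blk45
  · exact factP_blk46
  · exact factP_blk47
  · exact factP_blk48
  · exact factP_blk49
  · exact factP_blk50
  · exact factP_blk51
  · exact factP_blk52
  · exact factP_blk53
  · exact factP_blk54
  · exact factP_blk55
  · exact factP_blk56
  · exact factP_blk57
  · exact factP_blk58
  · exact factP_blk59
  · exact factP_blk60
  · exact factP_blk61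
  · exact factP_blk62
  · exact factP_blk63

end Cfsg.Agent.Lib.Helper28.Fi24x306936
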