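import Cfsg.Agent.Lib.Helper28.Fi24x306936.Defs

set_option autoImplicit false
set_option linter.unusedVariables false
set_option Elab.async false

namespace Cfsg.Agent.Lib.Helper28.Fi24x306936

open Cfsg.Spor.Fi24 (Gen)
open Cfsg.Agent.Lib.Helper28.TC
open Cfsg.Agent.Lib.Helper28.TC2

theorem factP_blk64 : allRange factP 7 (64 * 2 ^ 7) = true := by decide +kernel
theorem factP_blk65 : allRange factP 7 (65 * 2 ^ 7) = true := by decide +kernel
theorem factP_blk66 : allRange factP 7 (66 * 2 ^ 7) = true := by decide +kernel
theorem factP_blk67 : allRange factP 7 (67 * 2 ^ 7) = true := by decide +kernel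
theorem factP_blk68 : allRange factP 7 (68 * 2 ^ 7) = true := by decide +kernel
theorem factP_blk69 : allRange factP 7 (69 * 2 ^ 7) = true := by decide +kernel
theorem factP_blk70 : allRange factP 7 (70 * 2 ^ 7) = true := by decide +kernel
theorem factP_blk71 : allRange factP 7 (71 * 2 ^ 7) = true := by decide +kernel
theorem factP_blk72 : allRange factP 7 (72 * 2 ^ 7) = true := by decide +kernel
theorem factP_blk73 : allRange factP 7 (73 * 2 ^ 7) = true := by decide +kernel
theorem factP_blk74 : allRange factP 7 (74 * 2 ^ 7) = true := by decide +kernel
theorem factP_blk75 : allRange factP 7 (75 * 2 ^ 7) = true := by decide +kernel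
theorem factP_blk76 : allRange factP 7 (76 * 2 ^ 7) = true := by decide +kernel
theorem factP_blk77 : allRange factP 7 (77 * 2 ^ 7) = true := by decide +kernel
theorem factP_blk78 : allRange factP 7 (78 * 2 ^ 7) = true := by decide +kernel
theorem factP_blk79 : allRange factP 7 (79 * 2 ^ 7) = true := by decide +kernel
theorem factP_blk80 : allRange factP 7 (80 * 2 ^ 7) = true := by decide +kernel
theorem factP_blk81 : allRange factP 7 (81 * 2 ^ 7) = true := by decide +kernel
theorem factP_blk82 : allRange factP 7 (82 * 2 ^ 7) = true := by decide +kernel
theorem factP_blk83 : allRange factP 7 (83 * 2 ^ 7) = true := by decide +kernel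
theorem factP_blk84 : allRange factP 7 (84 * 2 ^ 7) = true := by decide +kernel
theorem factP_blk85 : allRange factP 7 (85 * 2 ^ 7) = true := by decide +kernel
theorem factP_blk86 : allRange factP 7 (86 * 2 ^ 7) = true := by decide +kernel
theorem factP_blk87 : allRange factP 7 (87 * 2 ^ 7) = true := by decide +kernel
theorem factP_blk88 : allRange factP 7 (88 * 2 ^ 7) = true := by decide +kernel
theorem factP_blk89 : allRange factP 7 (89 * 2 ^ 7) = true := by decide +kernel
theorem factP_blk90 : allRange factP 7 (90 * 2 ^ 7) = true := by decide +kernel
theorem factP_blk91 : allRange factP 7 (91 * 2 ^ 7) = true := by decide +kernel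
theorem factP_blk92 : allRange factP 7 (92 * 2 ^ 7) = true := by decide +kernel
theorem factP_blk93 : allRange factP 7 (93 * 2 ^ 7) = true := by decide +kernel
theorem factP_blk94 : allRange factP 7 (94 * 2 ^ 7) = true := by decide +kernel
theorem factP_blk95 : allRange factP 7 (95 * 2 ^ 7) = true := by decide +kernel
theorem factP_blk96 : allRange factP 7 (96 * 2 ^ 7) = true := by decide +kernel
theorem factP_blk97 : allRange factP 7 (97 * 2 ^ 7) = true := by decide +kernel
theorem factP_blk98 : allRange factP 7 (98 * 2 ^ 7) = true := by decide +kernel
theorem factP_blk99 : allRange factP 7 (99 * 2 ^ 7) = true := by decide +kernel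
theorem factP_blk100 : allRange factP 7 (100 * 2 ^ 7) = true := by decide +kernel
theorem factP_blk101 : allRange factP 7 (101 * 2 ^ 7) = true := by decide +kernel
theorem factP_blk102 : allRange factP 7 (102 * 2 ^ 7) = true := by decide +kernel
theorem factP_blk103 : allRange factP 7 (103 * 2 ^ 7) = true := by decide +kernel
theorem factP_blk104 : allRange factP 7 (104 * 2 ^ 7) = true := by decide +kernel
theorem factP_blk105 : allRange factP 7 (105 * 2 ^ 7) = true := by decide +kernel
theorem factP_blk106 : allRange factP 7 (106 * 2 ^ 7) = true := by decide +kernel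
theorem factP_blk107 : allRange factP 7 (107 * 2 ^ 7) = true := by decide +kernel
theorem factP_blk108 : allRange factP 7 (108 * 2 ^ 7) = true := by decide +kernel
theorem factP_blk109 : allRange factP 7 (109 * 2 ^ 7) = true := by decide +kernel
theorem factP_blk110 : allRange factP 7 (110 * 2 ^ 7) = true := by decide +kernel
theorem factP_blk111 : allRange factP 7 (111 * 2 ^ 7) = true := by decide +kernel
theorem factP_blk112 : allRange factP 7 (112 * 2 ^ 7) = true := by decide +kernel
theorem factP_blk113 : allRange factP 7 (113 * 2 ^ 7) = true := by decide +kernel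
theorem factP_blk114 : allRange factP 7 (114 * 2 ^ 7) = true := by decide +kernel
theorem factP_blk115 : allRange factP 7 (115 * 2 ^ 7) = true := by decide +kernel
theorem factP_blk116 : allRange factP 7 (116 * 2 ^ 7) = true := by decide +kernel
theorem factP_blk117 : allRange factP 7 (117 * 2 ^ 7) = true := by decide +kernel
theorem factP_blk118 : allRange factP 7 (118 * 2 ^ 7) = true := by decide +kernel
theorem factP_blk119 : allRange factP 7 (119 * 2 ^ 7) = true := by decide +kernel
theorem factP_blk120 : allRange factP 7 (120 * 2 ^ 7) = true := by decide +kernel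
theorem factP_blk121 : allRange factP 7 (121 * 2 ^ 7) = true := by decide +kernel
theorem factP_blk122 : allRange factP 7 (122 * 2 ^ 7) = true := by decide +kernel
theorem factP_blk123 : allRange factP 7 (123 * 2 ^ 7) = true := by decide +kernel
theorem factP_blk124 : allRange factP 7 (124 * 2 ^ 7) = true := by decide +kernel
theorem factP_blk125 : allRange factP 7 (125 * 2 ^ 7) = true := by decide +kernel
theorem factP_blk126 : allRange factP 7 (126 * 2 ^ 7) = true := by decide +kernel
theorem factP_blk127 : allRange factP 7 (127 * 2 ^ 7) = true := by decide +kernel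
theorem factP_f1 : ∀ k, 64 ≤ k → k < 128 → allRange factP 7 (k * 2 ^ 7) = true := by
  intro k h1 h2
  interval_cases k
  · exact factP_blk64
  · exact factP_blk65
  · exact factP_blk66
  · exact factP_blk67
  · exact factP_blk68
  · exact factP_blk69
  · exact factP_blk70
  · exact factP_blk71
  · exact factP_blk72
  · exact factP_blk73
  · exact factP_blk74
  · exact factP_blk75
  · exact factP_blk76
  · exact factP_blk77
  · exact factP_blk78
  · exact factP_blk79
  · exact factP_blk80
  · exact factP_blk81
  · exact factP_blk82
  · exact factP_blk83
  · exact factP_blk84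
  · exact factP_blk85
  · exact factP_blk86
  · exact factP_blk87
  · exact factP_blk88
  · exact factP_blk89
  · exact factP_blk90
  · exact factP_blk91
  · exact factP_blk92
  · exact factP_blk93
  · exact factP_blk94
  · exact factP_blk95
  · exact factP_blk96
  · exact factP_blk97
  · exact factP_blk98
  · exact factP_blk99
  · exact factP_blk100
  · exact factP_blk101
  · exact factP_blk102
  · exact factP_blk103
  · exact factP_blk104
  · exact factP_blk105
  · exact factP_blk106
  · exact factP_blk107
  · exact factP_blk108
  · exact factP_blk109
  · exact factP_blk110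
  · exact factP_blk111
  · exact factP_blk112
  · exact factP_blk113
  · exact factP_blk114
  · exact factP_blk115
  · exact factP_blk116
  · exact factP_blk117
  · exact factP_blk118
  · exact factP_blk119
  · exact factP_blk120
  · exact factP_blk121
  · exact factP_blk122
  · exact factP_blk123
  · exact factP_blk124
  · exact factP_blk125
  · exact factP_blk126
  · exact factP_blk127

end Cfsg.Agent.Lib.Helper28.Fi24x306936
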