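import Cfsg.Agent.Lib.Helper28.Fi24x306936.Defs

set_option autoImplicit false
set_option linter.unusedVariables false
set_option Elab.async false

namespace Cfsg.Agent.Lib.Helper28.Fi24x306936

open Cfsg.Spor.Fi24 (Gen)
open Cfsg.Agent.Lib.Helper28.TC
open Cfsg.Agent.Lib.Helper28.TC2

theorem factP_blk640 : allRange factP 7 (640 * 2 ^ 7) = true := by decide +kernel
theorem factP_blk641 : allRange factP 7 (641 * 2 ^ 7) = true := by decide +kernel
theorem factP_blk642 : allRange factP 7 (642 * 2 ^ 7) = true := by decide +kernel
theorem factP_blk643 : allRange factP 7 (643 * 2 ^ 7) = true := by decide +kernel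
theorem factP_blk644 : allRange factP 7 (644 * 2 ^ 7) = true := by decide +kernel
theorem factP_blk645 : allRange factP 7 (645 * 2 ^ 7) = true := by decide +kernel
theorem factP_blk646 : allRange factP 7 (646 * 2 ^ 7) = true := by decide +kernel
theorem factP_blk647 : allRange factP 7 (647 * 2 ^ 7) = true := by decide +kernel
theorem factP_blk648 : allRange factP 7 (648 * 2 ^ 7) = true := by decide +kernel
theorem factP_blk649 : allRange factP 7 (649 * 2 ^ 7) = true := by decide +kernel
theorem factP_blk650 : allRange factP 7 (650 * 2 ^ 7) = true := by decide +kernel
theorem factP_blk651 : allRange factP 7 (651 * 2 ^ 7) = true := by decide +kernel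
theorem factP_blk652 : allRange factP 7 (652 * 2 ^ 7) = true := by decide +kernel
theorem factP_blk653 : allRange factP 7 (653 * 2 ^ 7) = true := by decide +kernel
theorem factP_blk654 : allRange factP 7 (654 * 2 ^ 7) = true := by decide +kernel
theorem factP_blk655 : allRange factP 7 (655 * 2 ^ 7) = true := by decide +kernel
theorem factP_blk656 : allRange factP 7 (656 * 2 ^ 7) = true := by decide +kernel
theorem factP_blk657 : allRange factP 7 (657 * 2 ^ 7) = true := by decide +kernel
theorem factP_blk658 : allRange factP 7 (658 * 2 ^ 7) = true := by decide +kernel
theorem factP_blk659 : allRange factP 7 (659 * 2 ^ 7) = true := by decide +kernel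
theorem factP_blk660 : allRange factP 7 (660 * 2 ^ 7) = true := by decide +kernel
theorem factP_blk661 : allRange factP 7 (661 * 2 ^ 7) = true := by decide +kernel
theorem factP_blk662 : allRange factP 7 (662 * 2 ^ 7) = true := by decide +kernel
theorem factP_blk663 : allRange factP 7 (663 * 2 ^ 7) = true := by decide +kernel
theorem factP_blk664 : allRange factP 7 (664 * 2 ^ 7) = true := by decide +kernel
theorem factP_blk665 : allRange factP 7 (665 * 2 ^ 7) = true := by decide +kernel
theorem factP_blk666 : allRange factP 7 (666 * 2 ^ 7) = true := by decide +kernel
theorem factP_blk667 : allRange factP 7 (667 * 2 ^ 7) = true := by decide +kernel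
theorem factP_blk668 : allRange factP 7 (668 * 2 ^ 7) = true := by decide +kernel
theorem factP_blk669 : allRange factP 7 (669 * 2 ^ 7) = true := by decide +kernel
theorem factP_blk670 : allRange factP 7 (670 * 2 ^ 7) = true := by decide +kernel
theorem factP_blk671 : allRange factP 7 (671 * 2 ^ 7) = true := by decide +kernel
theorem factP_blk672 : allRange factP 7 (672 * 2 ^ 7) = true := by decide +kernel
theorem factP_blk673 : allRange factP 7 (673 * 2 ^ 7) = true := by decide +kernel
theorem factP_blk674 : allRange factP 7 (674 * 2 ^ 7) = true := by decide +kernel
theorem factP_blk675 : allRange factP 7 (675 * 2 ^ 7) = true := by decide +kernel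
theorem factP_blk676 : allRange factP 7 (676 * 2 ^ 7) = true := by decide +kernel
theorem factP_blk677 : allRange factP 7 (677 * 2 ^ 7) = true := by decide +kernel
theorem factP_blk678 : allRange factP 7 (678 * 2 ^ 7) = true := by decide +kernel
theorem factP_blk679 : allRange factP 7 (679 * 2 ^ 7) = true := by decide +kernel
theorem factP_blk680 : allRange factP 7 (680 * 2 ^ 7) = true := by decide +kernel
theorem factP_blk681 : allRange factP 7 (681 * 2 ^ 7) = true := by decide +kernel
theorem factP_blk682 : allRange factP 7 (682 * 2 ^ 7) = true := by decide +kernel
theorem factP_blk683 : allRange factP 7 (683 * 2 ^ 7) = true := by decide +kernel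
theorem factP_blk684 : allRange factP 7 (684 * 2 ^ 7) = true := by decide +kernel
theorem factP_blk685 : allRange factP 7 (685 * 2 ^ 7) = true := by decide +kernel
theorem factP_blk686 : allRange factP 7 (686 * 2 ^ 7) = true := by decide +kernel
theorem factP_blk687 : allRange factP 7 (687 * 2 ^ 7) = true := by decide +kernel
theorem factP_blk688 : allRange factP 7 (688 * 2 ^ 7) = true := by decide +kernel
theorem factP_blk689 : allRange factP 7 (689 * 2 ^ 7) = true := by decide +kernel
theorem factP_blk690 : allRange factP 7 (690 * 2 ^ 7) = true := by decide +kernel
theorem factP_blk691 : allRange factP 7 (691 * 2 ^ 7) = true := by decide +kernel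
theorem factP_blk692 : allRange factP 7 (692 * 2 ^ 7) = true := by decide +kernel
theorem factP_blk693 : allRange factP 7 (693 * 2 ^ 7) = true := by decide +kernel
theorem factP_blk694 : allRange factP 7 (694 * 2 ^ 7) = true := by decide +kernel
theorem factP_blk695 : allRange factP 7 (695 * 2 ^ 7) = true := by decide +kernel
theorem factP_blk696 : allRange factP 7 (696 * 2 ^ 7) = true := by decide +kernel
theorem factP_blk697 : allRange factP 7 (697 * 2 ^ 7) = true := by decide +kernel
theorem factP_blk698 : allRange factP 7 (698 * 2 ^ 7) = true := by decide +kernel
theorem factP_blk699 : allRange factP 7 (699 * 2 ^ 7) = true := by decide +kernel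
theorem factP_blk700 : allRange factP 7 (700 * 2 ^ 7) = true := by decide +kernel
theorem factP_blk701 : allRange factP 7 (701 * 2 ^ 7) = true := by decide +kernel
theorem factP_blk702 : allRange factP 7 (702 * 2 ^ 7) = true := by decide +kernel
theorem factP_blk703 : allRange factP 7 (703 * 2 ^ 7) = true := by decide +kernel
theorem factP_f10 : ∀ k, 640 ≤ k → k < 704 → allRange factP 7 (k * 2 ^ 7) = true := by
  intro k h1 h2
  interval_cases k
  · exact factP_blk640
  · exact factP_blk641
  · exact factP_blk642
  · exact factP_blk643
  · exact factP_blk644
  · exact factP_blk645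
  · exact factP_blk646
  · exact factP_blk647
  · exact factP_blk648
  · exact factP_blk649
  · exact factP_blk650
  · exact factP_blk651
  · exact factP_blk652
  · exact factP_blk653
  · exact factP_blk654
  · exact factP_blk655
  · exact factP_blk656
  · exact factP_blk657
  · exact factP_blk658
  · exact factP_blk659
  · exact factP_blk660
  · exact factP_blk661
  · exact factP_blk662
  · exact factP_blk663
  · exact factP_blk664
  · exact factP_blk665
  · exact factP_blk666
  · exact factP_blk667
  · exact factP_blk668
  · exact factP_blk669
  · exact factP_blk670
  · exact factP_blk671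
  · exact factP_blk672
  · exact factP_blk673
  · exact factP_blk674
  · exact factP_blk675
  · exact factP_blk676
  · exact factP_blk677
  · exact factP_blk678
  · exact factP_blk679
  · exact factP_blk680
  · exact factP_blk681
  · exact factP_blk682
  · exact factP_blk683
  · exact factP_blk684
  · exact factP_blk685
  · exact factP_blk686
  · exact factP_blk687
  · exact factP_blk688
  · exact factP_blk689
  · exact factP_blk690
  · exact factP_blk691
  · exact factP_blk692
  · exact factP_blk693
  · exact factP_blk694
  · exact factP_blk695
  · exact factP_blk696
  · exact factP_blk697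
  · exact factP_blk698
  · exact factP_blk699
  · exact factP_blk700
  · exact factP_blk701
  · exact factP_blk702
  · exact factP_blk703

end Cfsg.Agent.Lib.Helper28.Fi24x306936
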