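import Cfsg.Agent.Lib.Helper28.Fi24x306936.Defs

set_option autoImplicit false
set_option linter.unusedVariables false
set_option Elab.async false

namespace Cfsg.Agent.Lib.Helper28.Fi24x306936

open Cfsg.Spor.Fi24 (Gen)
open Cfsg.Agent.Lib.Helper28.TC
open Cfsg.Agent.Lib.Helper28.TC2

theorem factP_blk704 : allRange factP 7 (704 * 2 ^ 7) = true := by decide +kernel
theorem factP_blk705 : allRange factP 7 (705 * 2 ^ 7) = true := by decide +kernel
theorem factP_blk706 : allRange factP 7 (706 * 2 ^ 7) = true := by decide +kernel
theorem factP_blk707 : allRange factP 7 (707 * 2 ^ 7) = true := by decide +kernel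
theorem factP_blk708 : allRange factP 7 (708 * 2 ^ 7) = true := by decide +kernel
theorem factP_blk709 : allRange factP 7 (709 * 2 ^ 7) = true := by decide +kernel
theorem factP_blk710 : allRange factP 7 (710 * 2 ^ 7) = true := by decide +kernel
theorem factP_blk711 : allRange factP 7 (711 * 2 ^ 7) = true := by decide +kernel
theorem factP_blk712 : allRange factP 7 (712 * 2 ^ 7) = true := by decide +kernel
theorem factP_blk713 : allRange factP 7 (713 * 2 ^ 7) = true := by decide +kernel
theorem factP_blk714 : allRange factP 7 (714 * 2 ^ 7) = true := by decide +kernel
theorem factP_blk715 : allRange factP 7 (715 * 2 ^ 7) = true := by decide +kernel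
theorem factP_blk716 : allRange factP 7 (716 * 2 ^ 7) = true := by decide +kernel
theorem factP_blk717 : allRange factP 7 (717 * 2 ^ 7) = true := by decide +kernel
theorem factP_blk718 : allRange factP 7 (718 * 2 ^ 7) = true := by decide +kernel
theorem factP_blk719 : allRange factP 7 (719 * 2 ^ 7) = true := by decide +kernel
theorem factP_blk720 : allRange factP 7 (720 * 2 ^ 7) = true := by decide +kernel
theorem factP_blk721 : allRange factP 7 (721 * 2 ^ 7) = true := by decide +kernel
theorem factP_blk722 : allRange factP 7 (722 * 2 ^ 7) = true := by decide +kernel
theorem factP_blk723 : allRange factP 7 (723 * 2 ^ 7) = true := by decide +kernel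
theorem factP_blk724 : allRange factP 7 (724 * 2 ^ 7) = true := by decide +kernel
theorem factP_blk725 : allRange factP 7 (725 * 2 ^ 7) = true := by decide +kernel
theorem factP_blk726 : allRange factP 7 (726 * 2 ^ 7) = true := by decide +kernel
theorem factP_blk727 : allRange factP 7 (727 * 2 ^ 7) = true := by decide +kernel
theorem factP_blk728 : allRange factP 7 (728 * 2 ^ 7) = true := by decide +kernel
theorem factP_blk729 : allRange factP 7 (729 * 2 ^ 7) = true := by decide +kernel
theorem factP_blk730 : allRange factP 7 (730 * 2 ^ 7) = true := by decide +kernel
theorem factP_blk731 : allRange factP 7 (731 * 2 ^ 7) = true := by decide +kernel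
theorem factP_blk732 : allRange factP 7 (732 * 2 ^ 7) = true := by decide +kernel
theorem factP_blk733 : allRange factP 7 (733 * 2 ^ 7) = true := by decide +kernel
theorem factP_blk734 : allRange factP 7 (734 * 2 ^ 7) = true := by decide +kernel
theorem factP_blk735 : allRange factP 7 (735 * 2 ^ 7) = true := by decide +kernel
theorem factP_blk736 : allRange factP 7 (736 * 2 ^ 7) = true := by decide +kernel
theorem factP_blk737 : allRange factP 7 (737 * 2 ^ 7) = true := by decide +kernel
theorem factP_blk738 : allRange factP 7 (738 * 2 ^ 7) = true := by decide +kernel
theorem factP_blk739 : allRange factP 7 (739 * 2 ^ 7) = true := by decide +kernel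
theorem factP_blk740 : allRange factP 7 (740 * 2 ^ 7) = true := by decide +kernel
theorem factP_blk741 : allRange factP 7 (741 * 2 ^ 7) = true := by decide +kernel
theorem factP_blk742 : allRange factP 7 (742 * 2 ^ 7) = true := by decide +kernel
theorem factP_blk743 : allRange factP 7 (743 * 2 ^ 7) = true := by decide +kernel
theorem factP_blk744 : allRange factP 7 (744 * 2 ^ 7) = true := by decide +kernel
theorem factP_blk745 : allRange factP 7 (745 * 2 ^ 7) = true := by decide +kernel
theorem factP_blk746 : allRange factP 7 (746 * 2 ^ 7) = true := by decide +kernel
theorem factP_blk747 : allRange factP 7 (747 * 2 ^ 7) = true := by decide +kernel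
theorem factP_blk748 : allRange factP 7 (748 * 2 ^ 7) = true := by decide +kernel
theorem factP_blk749 : allRange factP 7 (749 * 2 ^ 7) = true := by decide +kernel
theorem factP_blk750 : allRange factP 7 (750 * 2 ^ 7) = true := by decide +kernel
theorem factP_blk751 : allRange factP 7 (751 * 2 ^ 7) = true := by decide +kernel
theorem factP_blk752 : allRange factP 7 (752 * 2 ^ 7) = true := by decide +kernel
theorem factP_blk753 : allRange factP 7 (753 * 2 ^ 7) = true := by decide +kernel
theorem factP_blk754 : allRange factP 7 (754 * 2 ^ 7) = true := by decide +kernel
theorem factP_blk755 : allRange factP 7 (755 * 2 ^ 7) = true := by decide +kernel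
theorem factP_blk756 : allRange factP 7 (756 * 2 ^ 7) = true := by decide +kernel
theorem factP_blk757 : allRange factP 7 (757 * 2 ^ 7) = true := by decide +kernel
theorem factP_blk758 : allRange factP 7 (758 * 2 ^ 7) = true := by decide +kernel
theorem factP_blk759 : allRange factP 7 (759 * 2 ^ 7) = true := by decide +kernel
theorem factP_blk760 : allRange factP 7 (760 * 2 ^ 7) = true := by decide +kernel
theorem factP_blk761 : allRange factP 7 (761 * 2 ^ 7) = true := by decide +kernel
theorem factP_blk762 : allRange factP 7 (762 * 2 ^ 7) = true := by decide +kernel
theorem factP_blk763 : allRange factP 7 (763 * 2 ^ 7) = true := by decide +kernel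
theorem factP_blk764 : allRange factP 7 (764 * 2 ^ 7) = true := by decide +kernel
theorem factP_blk765 : allRange factP 7 (765 * 2 ^ 7) = true := by decide +kernel
theorem factP_blk766 : allRange factP 7 (766 * 2 ^ 7) = true := by decide +kernel
theorem factP_blk767 : allRange factP 7 (767 * 2 ^ 7) = true := by decide +kernel
theorem factP_f11 : ∀ k, 704 ≤ k → k < 768 → allRange factP 7 (k * 2 ^ 7) = true := by
  intro k h1 h2
  interval_cases k
  · exact factP_blk704
  · exact factP_blk705
  · exact factP_blk706
  · exact factP_blk707
  · exact factP_blk708
  · exact factP_blk709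
  · exact factP_blk710
  · exact factP_blk711
  · exact factP_blk712
  · exact factP_blk713
  · exact factP_blk714
  · exact factP_blk715
  · exact factP_blk716
  · exact factP_blk717
  · exact factP_blk718
  · exact factP_blk719
  · exact factP_blk720
  · exact factP_blk721
  · exact factP_blk722
  · exact factP_blk723
  · exact factP_blk724
  · exact factP_blk725
  · exact factP_blk726
  · exact factP_blk727
  · exact factP_blk728
  · exact factP_blk729
  · exact factP_blk730
  · exact factP_blk731
  · exact factP_blk732
  · exact factP_blk733
  · exact factP_blk734
  · exact factP_blk735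
  · exact factP_blk736
  · exact factP_blk737
  · exact factP_blk738
  · exact factP_blk739
  · exact factP_blk740
  · exact factP_blk741
  · exact factP_blk742
  · exact factP_blk743
  · exact factP_blk744
  · exact factP_blk745
  · exact factP_blk746
  · exact factP_blk747
  · exact factP_blk748
  · exact factP_blk749
  · exact factP_blk750
  · exact factP_blk751
  · exact factP_blk752
  · exact factP_blk753
  · exact factP_blk754
  · exact factP_blk755
  · exact factP_blk756
  · exact factP_blk757
  · exact factP_blk758
  · exact factP_blk759
  · exact factP_blk760
  · exact factP_blk761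
  · exact factP_blk762
  · exact factP_blk763
  · exact factP_blk764
  · exact factP_blk765
  · exact factP_blk766
  · exact factP_blk767

end Cfsg.Agent.Lib.Helper28.Fi24x306936
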