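import Cfsg.Agent.Lib.Helper28.Fi24x306936.Defs

set_option autoImplicit false
set_option linter.unusedVariables false
set_option Elab.async false

namespace Cfsg.Agent.Lib.Helper28.Fi24x306936

open Cfsg.Spor.Fi24 (Gen)
open Cfsg.Agent.Lib.Helper28.TC
open Cfsg.Agent.Lib.Helper28.TC2

theorem factP_blk768 : allRange factP 7 (768 * 2 ^ 7) = true := by decide +kernel
theorem factP_blk769 : allRange factP 7 (769 * 2 ^ 7) = true := by decide +kernel
theorem factP_blk770 : allRange factP 7 (770 * 2 ^ 7) = true := by decide +kernel
theorem factP_blk771 : allRange factP 7 (771 * 2 ^ 7) = true := by decide +kernel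
theorem factP_blk772 : allRange factP 7 (772 * 2 ^ 7) = true := by decide +kernel
theorem factP_blk773 : allRange factP 7 (773 * 2 ^ 7) = true := by decide +kernel
theorem factP_blk774 : allRange factP 7 (774 * 2 ^ 7) = true := by decide +kernel
theorem factP_blk775 : allRange factP 7 (775 * 2 ^ 7) = true := by decide +kernel
theorem factP_blk776 : allRange factP 7 (776 * 2 ^ 7) = true := by decide +kernel
theorem factP_blk777 : allRange factP 7 (777 * 2 ^ 7) = true := by decide +kernel
theorem factP_blk778 : allRange factP 7 (778 * 2 ^ 7) = true := by decide +kernel
theorem factP_blk779 : allRange factP 7 (779 * 2 ^ 7) = true := by decide +kernel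
theorem factP_blk780 : allRange factP 7 (780 * 2 ^ 7) = true := by decide +kernel
theorem factP_blk781 : allRange factP 7 (781 * 2 ^ 7) = true := by decide +kernel
theorem factP_blk782 : allRange factP 7 (782 * 2 ^ 7) = true := by decide +kernel
theorem factP_blk783 : allRange factP 7 (783 * 2 ^ 7) = true := by decide +kernel
theorem factP_blk784 : allRange factP 7 (784 * 2 ^ 7) = true := by decide +kernel
theorem factP_blk785 : allRange factP 7 (785 * 2 ^ 7) = true := by decide +kernel
theorem factP_blk786 : allRange factP 7 (786 * 2 ^ 7) = true := by decide +kernel
theorem factP_blk787 : allRange factP 7 (787 * 2 ^ 7) = true := by decide +kernel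
theorem factP_blk788 : allRange factP 7 (788 * 2 ^ 7) = true := by decide +kernel
theorem factP_blk789 : allRange factP 7 (789 * 2 ^ 7) = true := by decide +kernel
theorem factP_blk790 : allRange factP 7 (790 * 2 ^ 7) = true := by decide +kernel
theorem factP_blk791 : allRange factP 7 (791 * 2 ^ 7) = true := by decide +kernel
theorem factP_blk792 : allRange factP 7 (792 * 2 ^ 7) = true := by decide +kernel
theorem factP_blk793 : allRange factP 7 (793 * 2 ^ 7) = true := by decide +kernel
theorem factP_blk794 : allRange factP 7 (794 * 2 ^ 7) = true := by decide +kernel
theorem factP_blk795 : allRange factP 7 (795 * 2 ^ 7) = true := by decide +kernel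
theorem factP_blk796 : allRange factP 7 (796 * 2 ^ 7) = true := by decide +kernel
theorem factP_blk797 : allRange factP 7 (797 * 2 ^ 7) = true := by decide +kernel
theorem factP_blk798 : allRange factP 7 (798 * 2 ^ 7) = true := by decide +kernel
theorem factP_blk799 : allRange factP 7 (799 * 2 ^ 7) = true := by decide +kernel
theorem factP_blk800 : allRange factP 7 (800 * 2 ^ 7) = true := by decide +kernel
theorem factP_blk801 : allRange factP 7 (801 * 2 ^ 7) = true := by decide +kernel
theorem factP_blk802 : allRange factP 7 (802 * 2 ^ 7) = true := by decide +kernel
theorem factP_blk803 : allRange factP 7 (803 * 2 ^ 7) = true := by decide +kernel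
theorem factP_blk804 : allRange factP 7 (804 * 2 ^ 7) = true := by decide +kernel
theorem factP_blk805 : allRange factP 7 (805 * 2 ^ 7) = true := by decide +kernel
theorem factP_blk806 : allRange factP 7 (806 * 2 ^ 7) = true := by decide +kernel
theorem factP_blk807 : allRange factP 7 (807 * 2 ^ 7) = true := by decide +kernel
theorem factP_blk808 : allRange factP 7 (808 * 2 ^ 7) = true := by decide +kernel
theorem factP_blk809 : allRange factP 7 (809 * 2 ^ 7) = true := by decide +kernel
theorem factP_blk810 : allRange factP 7 (810 * 2 ^ 7) = true := by decide +kernel
theorem factP_blk811 : allRange factP 7 (811 * 2 ^ 7) = true := by decide +kernel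
theorem factP_blk812 : allRange factP 7 (812 * 2 ^ 7) = true := by decide +kernel
theorem factP_blk813 : allRange factP 7 (813 * 2 ^ 7) = true := by decide +kernel
theorem factP_blk814 : allRange factP 7 (814 * 2 ^ 7) = true := by decide +kernel
theorem factP_blk815 : allRange factP 7 (815 * 2 ^ 7) = true := by decide +kernel
theorem factP_blk816 : allRange factP 7 (816 * 2 ^ 7) = true := by decide +kernel
theorem factP_blk817 : allRange factP 7 (817 * 2 ^ 7) = true := by decide +kernel
theorem factP_blk818 : allRange factP 7 (818 * 2 ^ 7) = true := by decide +kernel
theorem factP_blk819 : allRange factP 7 (819 * 2 ^ 7) = true := by decide +kernel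
theorem factP_blk820 : allRange factP 7 (820 * 2 ^ 7) = true := by decide +kernel
theorem factP_blk821 : allRange factP 7 (821 * 2 ^ 7) = true := by decide +kernel
theorem factP_blk822 : allRange factP 7 (822 * 2 ^ 7) = true := by decide +kernel
theorem factP_blk823 : allRange factP 7 (823 * 2 ^ 7) = true := by decide +kernel
theorem factP_blk824 : allRange factP 7 (824 * 2 ^ 7) = true := by decide +kernel
theorem factP_blk825 : allRange factP 7 (825 * 2 ^ 7) = true := by decide +kernel
theorem factP_blk826 : allRange factP 7 (826 * 2 ^ 7) = true := by decide +kernel
theorem factP_blk827 : allRange factP 7 (827 * 2 ^ 7) = true := by decide +kernel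
theorem factP_blk828 : allRange factP 7 (828 * 2 ^ 7) = true := by decide +kernel
theorem factP_blk829 : allRange factP 7 (829 * 2 ^ 7) = true := by decide +kernel
theorem factP_blk830 : allRange factP 7 (830 * 2 ^ 7) = true := by decide +kernel
theorem factP_blk831 : allRange factP 7 (831 * 2 ^ 7) = true := by decide +kernel
theorem factP_f12 : ∀ k, 768 ≤ k → k < 832 → allRange factP 7 (k * 2 ^ 7) = true := by
  intro k h1 h2
  interval_cases k
  · exact factP_blk768
  · exact factP_blk769
  · exact factP_blk770
  · exact factP_blk771
  · exact factP_blk772
  · exact factP_blk773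
  · exact factP_blk774
  · exact factP_blk775
  · exact factP_blk776
  · exact factP_blk777
  · exact factP_blk778
  · exact factP_blk779
  · exact factP_blk780
  · exact factP_blk781
  · exact factP_blk782
  · exact factP_blk783
  · exact factP_blk784
  · exact factP_blk785
  · exact factP_blk786
  · exact factP_blk787
  · exact factP_blk788
  · exact factP_blk789
  · exact factP_blk790
  · exact factP_blk791
  · exact factP_blk792
  · exact factP_blk793
  · exact factP_blk794
  · exact factP_blk795
  · exact factP_blk796
  · exact factP_blk797
  · exact factP_blk798
  · exact factP_blk799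
  · exact factP_blk800
  · exact factP_blk801
  · exact factP_blk802
  · exact factP_blk803
  · exact factP_blk804
  · exact factP_blk805
  · exact factP_blk806
  · exact factP_blk807
  · exact factP_blk808
  · exact factP_blk809
  · exact factP_blk810
  · exact factP_blk811
  · exact factP_blk812
  · exact factP_blk813
  · exact factP_blk814
  · exact factP_blk815
  · exact factP_blk816
  · exact factP_blk817
  · exact factP_blk818
  · exact factP_blk819
  · exact factP_blk820
  · exact factP_blk821
  · exact factP_blk822
  · exact factP_blk823
  · exact factP_blk824
  · exact factP_blk825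
  · exact factP_blk826
  · exact factP_blk827
  · exact factP_blk828
  · exact factP_blk829
  · exact factP_blk830
  · exact factP_blk831

end Cfsg.Agent.Lib.Helper28.Fi24x306936
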