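import Cfsg.Agent.Lib.Helper28.Fi24x306936.Defs

set_option autoImplicit false
set_option linter.unusedVariables false
set_option Elab.async false

namespace Cfsg.Agent.Lib.Helper28.Fi24x306936

open Cfsg.Spor.Fi24 (Gen)
open Cfsg.Agent.Lib.Helper28.TC
open Cfsg.Agent.Lib.Helper28.TC2

theorem factP_blk1152 : allRange factP 7 (1152 * 2 ^ 7) = true := by decide +kernel
theorem factP_blk1153 : allRange factP 7 (1153 * 2 ^ 7) = true := by decide +kernel
theorem factP_blk1154 : allRange factP 7 (1154 * 2 ^ 7) = true := by decide +kernel
theorem factP_blk1155 : allRange factP 7 (1155 * 2 ^ 7) = true := by decide +kernel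
theorem factP_blk1156 : allRange factP 7 (1156 * 2 ^ 7) = true := by decide +kernel
theorem factP_blk1157 : allRange factP 7 (1157 * 2 ^ 7) = true := by decide +kernel
theorem factP_blk1158 : allRange factP 7 (1158 * 2 ^ 7) = true := by decide +kernel
theorem factP_blk1159 : allRange factP 7 (1159 * 2 ^ 7) = true := by decide +kernel
theorem factP_blk1160 : allRange factP 7 (1160 * 2 ^ 7) = true := by decide +kernel
theorem factP_blk1161 : allRange factP 7 (1161 * 2 ^ 7) = true := by decide +kernel
theorem factP_blk1162 : allRange factP 7 (1162 * 2 ^ 7) = true := by decide +kernel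
theorem factP_blk1163 : allRange factP 7 (1163 * 2 ^ 7) = true := by decide +kernel
theorem factP_blk1164 : allRange factP 7 (1164 * 2 ^ 7) = true := by decide +kernel
theorem factP_blk1165 : allRange factP 7 (1165 * 2 ^ 7) = true := by decide +kernel
theorem factP_blk1166 : allRange factP 7 (1166 * 2 ^ 7) = true := by decide +kernel
theorem factP_blk1167 : allRange factP 7 (1167 * 2 ^ 7) = true := by decide +kernel
theorem factP_blk1168 : allRange factP 7 (1168 * 2 ^ 7) = true := by decide +kernel
theorem factP_blk1169 : allRange factP 7 (1169 * 2 ^ 7) = true := by decide +kernel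
theorem factP_blk1170 : allRange factP 7 (1170 * 2 ^ 7) = true := by decide +kernel
theorem factP_blk1171 : allRange factP 7 (1171 * 2 ^ 7) = true := by decide +kernel
theorem factP_blk1172 : allRange factP 7 (1172 * 2 ^ 7) = true := by decide +kernel
theorem factP_blk1173 : allRange factP 7 (1173 * 2 ^ 7) = true := by decide +kernel
theorem factP_blk1174 : allRange factP 7 (1174 * 2 ^ 7) = true := by decide +kernel
theorem factP_blk1175 : allRange factP 7 (1175 * 2 ^ 7) = true := by decide +kernel
theorem factP_blk1176 : allRange factP 7 (1176 * 2 ^ 7) = true := by decide +kernel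
theorem factP_blk1177 : allRange factP 7 (1177 * 2 ^ 7) = true := by decide +kernel
theorem factP_blk1178 : allRange factP 7 (1178 * 2 ^ 7) = true := by decide +kernel
theorem factP_blk1179 : allRange factP 7 (1179 * 2 ^ 7) = true := by decide +kernel
theorem factP_blk1180 : allRange factP 7 (1180 * 2 ^ 7) = true := by decide +kernel
theorem factP_blk1181 : allRange factP 7 (1181 * 2 ^ 7) = true := by decide +kernel
theorem factP_blk1182 : allRange factP 7 (1182 * 2 ^ 7) = true := by decide +kernel
theorem factP_blk1183 : allRange factP 7 (1183 * 2 ^ 7) = true := by decide +kernel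
theorem factP_blk1184 : allRange factP 7 (1184 * 2 ^ 7) = true := by decide +kernel
theorem factP_blk1185 : allRange factP 7 (1185 * 2 ^ 7) = true := by decide +kernel
theorem factP_blk1186 : allRange factP 7 (1186 * 2 ^ 7) = true := by decide +kernel
theorem factP_blk1187 : allRange factP 7 (1187 * 2 ^ 7) = true := by decide +kernel
theorem factP_blk1188 : allRange factP 7 (1188 * 2 ^ 7) = true := by decide +kernel
theorem factP_blk1189 : allRange factP 7 (1189 * 2 ^ 7) = true := by decide +kernel
theorem factP_blk1190 : allRange factP 7 (1190 * 2 ^ 7) = true := by decide +kernel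
theorem factP_blk1191 : allRange factP 7 (1191 * 2 ^ 7) = true := by decide +kernel
theorem factP_blk1192 : allRange factP 7 (1192 * 2 ^ 7) = true := by decide +kernel
theorem factP_blk1193 : allRange factP 7 (1193 * 2 ^ 7) = true := by decide +kernel
theorem factP_blk1194 : allRange factP 7 (1194 * 2 ^ 7) = true := by decide +kernel
theorem factP_blk1195 : allRange factP 7 (1195 * 2 ^ 7) = true := by decide +kernel
theorem factP_blk1196 : allRange factP 7 (1196 * 2 ^ 7) = true := by decide +kernel
theorem factP_blk1197 : allRange factP 7 (1197 * 2 ^ 7) = true := by decide +kernel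
theorem factP_blk1198 : allRange factP 7 (1198 * 2 ^ 7) = true := by decide +kernel
theorem factP_blk1199 : allRange factP 7 (1199 * 2 ^ 7) = true := by decide +kernel
theorem factP_blk1200 : allRange factP 7 (1200 * 2 ^ 7) = true := by decide +kernel
theorem factP_blk1201 : allRange factP 7 (1201 * 2 ^ 7) = true := by decide +kernel
theorem factP_blk1202 : allRange factP 7 (1202 * 2 ^ 7) = true := by decide +kernel
theorem factP_blk1203 : allRange factP 7 (1203 * 2 ^ 7) = true := by decide +kernel
theorem factP_blk1204 : allRange factP 7 (1204 * 2 ^ 7) = true := by decide +kernel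
theorem factP_blk1205 : allRange factP 7 (1205 * 2 ^ 7) = true := by decide +kernel
theorem factP_blk1206 : allRange factP 7 (1206 * 2 ^ 7) = true := by decide +kernel
theorem factP_blk1207 : allRange factP 7 (1207 * 2 ^ 7) = true := by decide +kernel
theorem factP_blk1208 : allRange factP 7 (1208 * 2 ^ 7) = true := by decide +kernel
theorem factP_blk1209 : allRange factP 7 (1209 * 2 ^ 7) = true := by decide +kernel
theorem factP_blk1210 : allRange factP 7 (1210 * 2 ^ 7) = true := by decide +kernel
theorem factP_blk1211 : allRange factP 7 (1211 * 2 ^ 7) = true := by decide +kernel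
theorem factP_blk1212 : allRange factP 7 (1212 * 2 ^ 7) = true := by decide +kernel
theorem factP_blk1213 : allRange factP 7 (1213 * 2 ^ 7) = true := by decide +kernel
theorem factP_blk1214 : allRange factP 7 (1214 * 2 ^ 7) = true := by decide +kernel
theorem factP_blk1215 : allRange factP 7 (1215 * 2 ^ 7) = true := by decide +kernel
theorem factP_f18 : ∀ k, 1152 ≤ k → k < 1216 → allRange factP 7 (k * 2 ^ 7) = true := by
  intro k h1 h2
  interval_cases k
  · exact factP_blk1152
  · exact factP_blk1153
  · exact factP_blk1154
  · exact factP_blk1155
  · exact factP_blk1156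
  · exact factP_blk1157
  · exact factP_blk1158
  · exact factP_blk1159
  · exact factP_blk1160
  · exact factP_blk1161
  · exact factP_blk1162
  · exact factP_blk1163
  · exact factP_blk1164
  · exact factP_blk1165
  · exact factP_blk1166
  · exact factP_blk1167
  · exact factP_blk1168
  · exact factP_blk1169
  · exact factP_blk1170
  · exact factP_blk1171
  · exact factP_blk1172
  · exact factP_blk1173
  · exact factP_blk1174
  · exact factP_blk1175
  · exact factP_blk1176
  · exact factP_blk1177
  · exact factP_blk1178
  · exact factP_blk1179
  · exact factP_blk1180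
  · exact factP_blk1181
  · exact factP_blk1182
  · exact factP_blk1183
  · exact factP_blk1184
  · exact factP_blk1185
  · exact factP_blk1186
  · exact factP_blk1187
  · exact factP_blk1188
  · exact factP_blk1189
  · exact factP_blk1190
  · exact factP_blk1191
  · exact factP_blk1192
  · exact factP_blk1193
  · exact factP_blk1194
  · exact factP_blk1195
  · exact factP_blk1196
  · exact factP_blk1197
  · exact factP_blk1198
  · exact factP_blk1199
  · exact factP_blk1200
  · exact factP_blk1201
  · exact factP_blk1202
  · exact factP_blk1203
  · exact factP_blk1204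
  · exact factP_blk1205
  · exact factP_blk1206
  · exact factP_blk1207
  · exact factP_blk1208
  · exact factP_blk1209
  · exact factP_blk1210
  · exact factP_blk1211
  · exact factP_blk1212
  · exact factP_blk1213
  · exact factP_blk1214
  · exact factP_blk1215

end Cfsg.Agent.Lib.Helper28.Fi24x306936
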