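import Cfsg.Agent.Lib.Helper28.Fi24x306936.Defs

set_option autoImplicit false
set_option linter.unusedVariables false
set_option Elab.async false

namespace Cfsg.Agent.Lib.Helper28.Fi24x306936

open Cfsg.Spor.Fi24 (Gen)
open Cfsg.Agent.Lib.Helper28.TC
open Cfsg.Agent.Lib.Helper28.TC2

theorem factP_blk1216 : allRange factP 7 (1216 * 2 ^ 7) = true := by decide +kernel
theorem factP_blk1217 : allRange factP 7 (1217 * 2 ^ 7) = true := by decide +kernel
theorem factP_blk1218 : allRange factP 7 (1218 * 2 ^ 7) = true := by decide +kernel
theorem factP_blk1219 : allRange factP 7 (1219 * 2 ^ 7) = true := by decide +kernel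
theorem factP_blk1220 : allRange factP 7 (1220 * 2 ^ 7) = true := by decide +kernel
theorem factP_blk1221 : allRange factP 7 (1221 * 2 ^ 7) = true := by decide +kernel
theorem factP_blk1222 : allRange factP 7 (1222 * 2 ^ 7) = true := by decide +kernel
theorem factP_blk1223 : allRange factP 7 (1223 * 2 ^ 7) = true := by decide +kernel
theorem factP_blk1224 : allRange factP 7 (1224 * 2 ^ 7) = true := by decide +kernel
theorem factP_blk1225 : allRange factP 7 (1225 * 2 ^ 7) = true := by decide +kernel
theorem factP_blk1226 : allRange factP 7 (1226 * 2 ^ 7) = true := by decide +kernel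
theorem factP_blk1227 : allRange factP 7 (1227 * 2 ^ 7) = true := by decide +kernel
theorem factP_blk1228 : allRange factP 7 (1228 * 2 ^ 7) = true := by decide +kernel
theorem factP_blk1229 : allRange factP 7 (1229 * 2 ^ 7) = true := by decide +kernel
theorem factP_blk1230 : allRange factP 7 (1230 * 2 ^ 7) = true := by decide +kernel
theorem factP_blk1231 : allRange factP 7 (1231 * 2 ^ 7) = true := by decide +kernel
theorem factP_blk1232 : allRange factP 7 (1232 * 2 ^ 7) = true := by decide +kernel
theorem factP_blk1233 : allRange factP 7 (1233 * 2 ^ 7) = true := by decide +kernel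
theorem factP_blk1234 : allRange factP 7 (1234 * 2 ^ 7) = true := by decide +kernel
theorem factP_blk1235 : allRange factP 7 (1235 * 2 ^ 7) = true := by decide +kernel
theorem factP_blk1236 : allRange factP 7 (1236 * 2 ^ 7) = true := by decide +kernel
theorem factP_blk1237 : allRange factP 7 (1237 * 2 ^ 7) = true := by decide +kernel
theorem factP_blk1238 : allRange factP 7 (1238 * 2 ^ 7) = true := by decide +kernel
theorem factP_blk1239 : allRange factP 7 (1239 * 2 ^ 7) = true := by decide +kernel
theorem factP_blk1240 : allRange factP 7 (1240 * 2 ^ 7) = true := by decide +kernel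
theorem factP_blk1241 : allRange factP 7 (1241 * 2 ^ 7) = true := by decide +kernel
theorem factP_blk1242 : allRange factP 7 (1242 * 2 ^ 7) = true := by decide +kernel
theorem factP_blk1243 : allRange factP 7 (1243 * 2 ^ 7) = true := by decide +kernel
theorem factP_blk1244 : allRange factP 7 (1244 * 2 ^ 7) = true := by decide +kernel
theorem factP_blk1245 : allRange factP 7 (1245 * 2 ^ 7) = true := by decide +kernel
theorem factP_blk1246 : allRange factP 7 (1246 * 2 ^ 7) = true := by decide +kernel
theorem factP_blk1247 : allRange factP 7 (1247 * 2 ^ 7) = true := by decide +kernel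
theorem factP_blk1248 : allRange factP 7 (1248 * 2 ^ 7) = true := by decide +kernel
theorem factP_blk1249 : allRange factP 7 (1249 * 2 ^ 7) = true := by decide +kernel
theorem factP_blk1250 : allRange factP 7 (1250 * 2 ^ 7) = true := by decide +kernel
theorem factP_blk1251 : allRange factP 7 (1251 * 2 ^ 7) = true := by decide +kernel
theorem factP_blk1252 : allRange factP 7 (1252 * 2 ^ 7) = true := by decide +kernel
theorem factP_blk1253 : allRange factP 7 (1253 * 2 ^ 7) = true := by decide +kernel
theorem factP_blk1254 : allRange factP 7 (1254 * 2 ^ 7) = true := by decide +kernel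
theorem factP_blk1255 : allRange factP 7 (1255 * 2 ^ 7) = true := by decide +kernel
theorem factP_blk1256 : allRange factP 7 (1256 * 2 ^ 7) = true := by decide +kernel
theorem factP_blk1257 : allRange factP 7 (1257 * 2 ^ 7) = true := by decide +kernel
theorem factP_blk1258 : allRange factP 7 (1258 * 2 ^ 7) = true := by decide +kernel
theorem factP_blk1259 : allRange factP 7 (1259 * 2 ^ 7) = true := by decide +kernel
theorem factP_blk1260 : allRange factP 7 (1260 * 2 ^ 7) = true := by decide +kernel
theorem factP_blk1261 : allRange factP 7 (1261 * 2 ^ 7) = true := by decide +kernel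
theorem factP_blk1262 : allRange factP 7 (1262 * 2 ^ 7) = true := by decide +kernel
theorem factP_blk1263 : allRange factP 7 (1263 * 2 ^ 7) = true := by decide +kernel
theorem factP_blk1264 : allRange factP 7 (1264 * 2 ^ 7) = true := by decide +kernel
theorem factP_blk1265 : allRange factP 7 (1265 * 2 ^ 7) = true := by decide +kernel
theorem factP_blk1266 : allRange factP 7 (1266 * 2 ^ 7) = true := by decide +kernel
theorem factP_blk1267 : allRange factP 7 (1267 * 2 ^ 7) = true := by decide +kernel
theorem factP_blk1268 : allRange factP 7 (1268 * 2 ^ 7) = true := by decide +kernel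
theorem factP_blk1269 : allRange factP 7 (1269 * 2 ^ 7) = true := by decide +kernel
theorem factP_blk1270 : allRange factP 7 (1270 * 2 ^ 7) = true := by decide +kernel
theorem factP_blk1271 : allRange factP 7 (1271 * 2 ^ 7) = true := by decide +kernel
theorem factP_blk1272 : allRange factP 7 (1272 * 2 ^ 7) = true := by decide +kernel
theorem factP_blk1273 : allRange factP 7 (1273 * 2 ^ 7) = true := by decide +kernel
theorem factP_blk1274 : allRange factP 7 (1274 * 2 ^ 7) = true := by decide +kernel
theorem factP_blk1275 : allRange factP 7 (1275 * 2 ^ 7) = true := by decide +kernel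
theorem factP_blk1276 : allRange factP 7 (1276 * 2 ^ 7) = true := by decide +kernel
theorem factP_blk1277 : allRange factP 7 (1277 * 2 ^ 7) = true := by decide +kernel
theorem factP_blk1278 : allRange factP 7 (1278 * 2 ^ 7) = true := by decide +kernel
theorem factP_blk1279 : allRange factP 7 (1279 * 2 ^ 7) = true := by decide +kernel
theorem factP_f19 : ∀ k, 1216 ≤ k → k < 1280 → allRange factP 7 (k * 2 ^ 7) = true := by
  intro k h1 h2
  interval_cases k
  · exact factP_blk1216
  · exact factP_blk1217
  · exact factP_blk1218
  · exact factP_blk1219
  · exact factP_blk1220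
  · exact factP_blk1221
  · exact factP_blk1222
  · exact factP_blk1223
  · exact factP_blk1224
  · exact factP_blk1225
  · exact factP_blk1226
  · exact factP_blk1227
  · exact factP_blk1228
  · exact factP_blk1229
  · exact factP_blk1230
  · exact factP_blk1231
  · exact factP_blk1232
  · exact factP_blk1233
  · exact factP_blk1234
  · exact factP_blk1235
  · exact factP_blk1236
  · exact factP_blk1237
  · exact factP_blk1238
  · exact factP_blk1239
  · exact factP_blk1240
  · exact factP_blk1241
  · exact factP_blk1242
  · exact factP_blk1243
  · exact factP_blk1244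
  · exact factP_blk1245
  · exact factP_blk1246
  · exact factP_blk1247
  · exact factP_blk1248
  · exact factP_blk1249
  · exact factP_blk1250
  · exact factP_blk1251
  · exact factP_blk1252
  · exact factP_blk1253
  · exact factP_blk1254
  · exact factP_blk1255
  · exact factP_blk1256
  · exact factP_blk1257
  · exact factP_blk1258
  · exact factP_blk1259
  · exact factP_blk1260
  · exact factP_blk1261
  · exact factP_blk1262
  · exact factP_blk1263
  · exact factP_blk1264
  · exact factP_blk1265
  · exact factP_blk1266
  · exact factP_blk1267
  · exact factP_blk1268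
  · exact factP_blk1269
  · exact factP_blk1270
  · exact factP_blk1271
  · exact factP_blk1272
  · exact factP_blk1273
  · exact factP_blk1274
  · exact factP_blk1275
  · exact factP_blk1276
  · exact factP_blk1277
  · exact factP_blk1278
  · exact factP_blk1279

end Cfsg.Agent.Lib.Helper28.Fi24x306936
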