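import Cfsg.Agent.Lib.Helper28.Fi24x306936.Defs

set_option autoImplicit false
set_option linter.unusedVariables false
set_option Elab.async false

namespace Cfsg.Agent.Lib.Helper28.Fi24x306936

open Cfsg.Spor.Fi24 (Gen)
open Cfsg.Agent.Lib.Helper28.TC
open Cfsg.Agent.Lib.Helper28.TC2

theorem factP_blk1280 : allRange factP 7 (1280 * 2 ^ 7) = true := by decide +kernel
theorem factP_blk1281 : allRange factP 7 (1281 * 2 ^ 7) = true := by decide +kernel
theorem factP_blk1282 : allRange factP 7 (1282 * 2 ^ 7) = true := by decide +kernel
theorem factP_blk1283 : allRange factP 7 (1283 * 2 ^ 7) = true := by decide +kernel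
theorem factP_blk1284 : allRange factP 7 (1284 * 2 ^ 7) = true := by decide +kernel
theorem factP_blk1285 : allRange factP 7 (1285 * 2 ^ 7) = true := by decide +kernel
theorem factP_blk1286 : allRange factP 7 (1286 * 2 ^ 7) = true := by decide +kernel
theorem factP_blk1287 : allRange factP 7 (1287 * 2 ^ 7) = true := by decide +kernel
theorem factP_blk1288 : allRange factP 7 (1288 * 2 ^ 7) = true := by decide +kernel
theorem factP_blk1289 : allRange factP 7 (1289 * 2 ^ 7) = true := by decide +kernel
theorem factP_blk1290 : allRange factP 7 (1290 * 2 ^ 7) = true := by decide +kernel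
theorem factP_blk1291 : allRange factP 7 (1291 * 2 ^ 7) = true := by decide +kernel
theorem factP_blk1292 : allRange factP 7 (1292 * 2 ^ 7) = true := by decide +kernel
theorem factP_blk1293 : allRange factP 7 (1293 * 2 ^ 7) = true := by decide +kernel
theorem factP_blk1294 : allRange factP 7 (1294 * 2 ^ 7) = true := by decide +kernel
theorem factP_blk1295 : allRange factP 7 (1295 * 2 ^ 7) = true := by decide +kernel
theorem factP_blk1296 : allRange factP 7 (1296 * 2 ^ 7) = true := by decide +kernel
theorem factP_blk1297 : allRange factP 7 (1297 * 2 ^ 7) = true := by decide +kernel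
theorem factP_blk1298 : allRange factP 7 (1298 * 2 ^ 7) = true := by decide +kernel
theorem factP_blk1299 : allRange factP 7 (1299 * 2 ^ 7) = true := by decide +kernel
theorem factP_blk1300 : allRange factP 7 (1300 * 2 ^ 7) = true := by decide +kernel
theorem factP_blk1301 : allRange factP 7 (1301 * 2 ^ 7) = true := by decide +kernel
theorem factP_blk1302 : allRange factP 7 (1302 * 2 ^ 7) = true := by decide +kernel
theorem factP_blk1303 : allRange factP 7 (1303 * 2 ^ 7) = true := by decide +kernel
theorem factP_blk1304 : allRange factP 7 (1304 * 2 ^ 7) = true := by decide +kernel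
theorem factP_blk1305 : allRange factP 7 (1305 * 2 ^ 7) = true := by decide +kernel
theorem factP_blk1306 : allRange factP 7 (1306 * 2 ^ 7) = true := by decide +kernel
theorem factP_blk1307 : allRange factP 7 (1307 * 2 ^ 7) = true := by decide +kernel
theorem factP_blk1308 : allRange factP 7 (1308 * 2 ^ 7) = true := by decide +kernel
theorem factP_blk1309 : allRange factP 7 (1309 * 2 ^ 7) = true := by decide +kernel
theorem factP_blk1310 : allRange factP 7 (1310 * 2 ^ 7) = true := by decide +kernel
theorem factP_blk1311 : allRange factP 7 (1311 * 2 ^ 7) = true := by decide +kernel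
theorem factP_blk1312 : allRange factP 7 (1312 * 2 ^ 7) = true := by decide +kernel
theorem factP_blk1313 : allRange factP 7 (1313 * 2 ^ 7) = true := by decide +kernel
theorem factP_blk1314 : allRange factP 7 (1314 * 2 ^ 7) = true := by decide +kernel
theorem factP_blk1315 : allRange factP 7 (1315 * 2 ^ 7) = true := by decide +kernel
theorem factP_blk1316 : allRange factP 7 (1316 * 2 ^ 7) = true := by decide +kernel
theorem factP_blk1317 : allRange factP 7 (1317 * 2 ^ 7) = true := by decide +kernel
theorem factP_blk1318 : allRange factP 7 (1318 * 2 ^ 7) = true := by decide +kernel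
theorem factP_blk1319 : allRange factP 7 (1319 * 2 ^ 7) = true := by decide +kernel
theorem factP_blk1320 : allRange factP 7 (1320 * 2 ^ 7) = true := by decide +kernel
theorem factP_blk1321 : allRange factP 7 (1321 * 2 ^ 7) = true := by decide +kernel
theorem factP_blk1322 : allRange factP 7 (1322 * 2 ^ 7) = true := by decide +kernel
theorem factP_blk1323 : allRange factP 7 (1323 * 2 ^ 7) = true := by decide +kernel
theorem factP_blk1324 : allRange factP 7 (1324 * 2 ^ 7) = true := by decide +kernel
theorem factP_blk1325 : allRange factP 7 (1325 * 2 ^ 7) = true := by decide +kernel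
theorem factP_blk1326 : allRange factP 7 (1326 * 2 ^ 7) = true := by decide +kernel
theorem factP_blk1327 : allRange factP 7 (1327 * 2 ^ 7) = true := by decide +kernel
theorem factP_blk1328 : allRange factP 7 (1328 * 2 ^ 7) = true := by decide +kernel
theorem factP_blk1329 : allRange factP 7 (1329 * 2 ^ 7) = true := by decide +kernel
theorem factP_blk1330 : allRange factP 7 (1330 * 2 ^ 7) = true := by decide +kernel
theorem factP_blk1331 : allRange factP 7 (1331 * 2 ^ 7) = true := by decide +kernel
theorem factP_blk1332 : allRange factP 7 (1332 * 2 ^ 7) = true := by decide +kernel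
theorem factP_blk1333 : allRange factP 7 (1333 * 2 ^ 7) = true := by decide +kernel
theorem factP_blk1334 : allRange factP 7 (1334 * 2 ^ 7) = true := by decide +kernel
theorem factP_blk1335 : allRange factP 7 (1335 * 2 ^ 7) = true := by decide +kernel
theorem factP_blk1336 : allRange factP 7 (1336 * 2 ^ 7) = true := by decide +kernel
theorem factP_blk1337 : allRange factP 7 (1337 * 2 ^ 7) = true := by decide +kernel
theorem factP_blk1338 : allRange factP 7 (1338 * 2 ^ 7) = true := by decide +kernel
theorem factP_blk1339 : allRange factP 7 (1339 * 2 ^ 7) = true := by decide +kernel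
theorem factP_blk1340 : allRange factP 7 (1340 * 2 ^ 7) = true := by decide +kernel
theorem factP_blk1341 : allRange factP 7 (1341 * 2 ^ 7) = true := by decide +kernel
theorem factP_blk1342 : allRange factP 7 (1342 * 2 ^ 7) = true := by decide +kernel
theorem factP_blk1343 : allRange factP 7 (1343 * 2 ^ 7) = true := by decide +kernel
theorem factP_f20 : ∀ k, 1280 ≤ k → k < 1344 → allRange factP 7 (k * 2 ^ 7) = true := by
  intro k h1 h2
  interval_cases k
  · exact factP_blk1280
  · exact factP_blk1281
  · exact factP_blk1282
  · exact factP_blk1283
  · exact factP_blk1284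
  · exact factP_blk1285
  · exact factP_blk1286
  · exact factP_blk1287
  · exact factP_blk1288
  · exact factP_blk1289
  · exact factP_blk1290
  · exact factP_blk1291
  · exact factP_blk1292
  · exact factP_blk1293
  · exact factP_blk1294
  · exact factP_blk1295
  · exact factP_blk1296
  · exact factP_blk1297
  · exact factP_blk1298
  · exact factP_blk1299
  · exact factP_blk1300
  · exact factP_blk1301
  · exact factP_blk1302
  · exact factP_blk1303
  · exact factP_blk1304
  · exact factP_blk1305
  · exact factP_blk1306
  · exact factP_blk1307
  · exact factP_blk1308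
  · exact factP_blk1309
  · exact factP_blk1310
  · exact factP_blk1311
  · exact factP_blk1312
  · exact factP_blk1313
  · exact factP_blk1314
  · exact factP_blk1315
  · exact factP_blk1316
  · exact factP_blk1317
  · exact factP_blk1318
  · exact factP_blk1319
  · exact factP_blk1320
  · exact factP_blk1321
  · exact factP_blk1322
  · exact factP_blk1323
  · exact factP_blk1324
  · exact factP_blk1325
  · exact factP_blk1326
  · exact factP_blk1327
  · exact factP_blk1328
  · exact factP_blk1329
  · exact factP_blk1330
  · exact factP_blk1331
  · exact factP_blk1332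
  · exact factP_blk1333
  · exact factP_blk1334
  · exact factP_blk1335
  · exact factP_blk1336
  · exact factP_blk1337
  · exact factP_blk1338
  · exact factP_blk1339
  · exact factP_blk1340
  · exact factP_blk1341
  · exact factP_blk1342
  · exact factP_blk1343

end Cfsg.Agent.Lib.Helper28.Fi24x306936
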