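import Cfsg.Agent.Lib.Helper28.Fi24x306936.Defs

set_option autoImplicit false
set_option linter.unusedVariables false
set_option Elab.async false

namespace Cfsg.Agent.Lib.Helper28.Fi24x306936

open Cfsg.Spor.Fi24 (Gen)
open Cfsg.Agent.Lib.Helper28.TC
open Cfsg.Agent.Lib.Helper28.TC2

theorem factP_blk1792 : allRange factP 7 (1792 * 2 ^ 7) = true := by decide +kernel
theorem factP_blk1793 : allRange factP 7 (1793 * 2 ^ 7) = true := by decide +kernel
theorem factP_blk1794 : allRange factP 7 (1794 * 2 ^ 7) = true := by decide +kernel
theorem factP_blk1795 : allRange factP 7 (1795 * 2 ^ 7) = true := by decide +kernel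
theorem factP_blk1796 : allRange factP 7 (1796 * 2 ^ 7) = true := by decide +kernel
theorem factP_blk1797 : allRange factP 7 (1797 * 2 ^ 7) = true := by decide +kernel
theorem factP_blk1798 : allRange factP 7 (1798 * 2 ^ 7) = true := by decide +kernel
theorem factP_blk1799 : allRange factP 7 (1799 * 2 ^ 7) = true := by decide +kernel
theorem factP_blk1800 : allRange factP 7 (1800 * 2 ^ 7) = true := by decide +kernel
theorem factP_blk1801 : allRange factP 7 (1801 * 2 ^ 7) = true := by decide +kernel
theorem factP_blk1802 : allRange factP 7 (1802 * 2 ^ 7) = true := by decide +kernel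
theorem factP_blk1803 : allRange factP 7 (1803 * 2 ^ 7) = true := by decide +kernel
theorem factP_blk1804 : allRange factP 7 (1804 * 2 ^ 7) = true := by decide +kernel
theorem factP_blk1805 : allRange factP 7 (1805 * 2 ^ 7) = true := by decide +kernel
theorem factP_blk1806 : allRange factP 7 (1806 * 2 ^ 7) = true := by decide +kernel
theorem factP_blk1807 : allRange factP 7 (1807 * 2 ^ 7) = true := by decide +kernel
theorem factP_blk1808 : allRange factP 7 (1808 * 2 ^ 7) = true := by decide +kernel
theorem factP_blk1809 : allRange factP 7 (1809 * 2 ^ 7) = true := by decide +kernel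
theorem factP_blk1810 : allRange factP 7 (1810 * 2 ^ 7) = true := by decide +kernel
theorem factP_blk1811 : allRange factP 7 (1811 * 2 ^ 7) = true := by decide +kernel
theorem factP_blk1812 : allRange factP 7 (1812 * 2 ^ 7) = true := by decide +kernel
theorem factP_blk1813 : allRange factP 7 (1813 * 2 ^ 7) = true := by decide +kernel
theorem factP_blk1814 : allRange factP 7 (1814 * 2 ^ 7) = true := by decide +kernel
theorem factP_blk1815 : allRange factP 7 (1815 * 2 ^ 7) = true := by decide +kernel
theorem factP_blk1816 : allRange factP 7 (1816 * 2 ^ 7) = true := by decide +kernel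
theorem factP_blk1817 : allRange factP 7 (1817 * 2 ^ 7) = true := by decide +kernel
theorem factP_blk1818 : allRange factP 7 (1818 * 2 ^ 7) = true := by decide +kernel
theorem factP_blk1819 : allRange factP 7 (1819 * 2 ^ 7) = true := by decide +kernel
theorem factP_blk1820 : allRange factP 7 (1820 * 2 ^ 7) = true := by decide +kernel
theorem factP_blk1821 : allRange factP 7 (1821 * 2 ^ 7) = true := by decide +kernel
theorem factP_blk1822 : allRange factP 7 (1822 * 2 ^ 7) = true := by decide +kernel
theorem factP_blk1823 : allRange factP 7 (1823 * 2 ^ 7) = true := by decide +kernel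
theorem factP_blk1824 : allRange factP 7 (1824 * 2 ^ 7) = true := by decide +kernel
theorem factP_blk1825 : allRange factP 7 (1825 * 2 ^ 7) = true := by decide +kernel
theorem factP_blk1826 : allRange factP 7 (1826 * 2 ^ 7) = true := by decide +kernel
theorem factP_blk1827 : allRange factP 7 (1827 * 2 ^ 7) = true := by decide +kernel
theorem factP_blk1828 : allRange factP 7 (1828 * 2 ^ 7) = true := by decide +kernel
theorem factP_blk1829 : allRange factP 7 (1829 * 2 ^ 7) = true := by decide +kernel
theorem factP_blk1830 : allRange factP 7 (1830 * 2 ^ 7) = true := by decide +kernel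
theorem factP_blk1831 : allRange factP 7 (1831 * 2 ^ 7) = true := by decide +kernel
theorem factP_blk1832 : allRange factP 7 (1832 * 2 ^ 7) = true := by decide +kernel
theorem factP_blk1833 : allRange factP 7 (1833 * 2 ^ 7) = true := by decide +kernel
theorem factP_blk1834 : allRange factP 7 (1834 * 2 ^ 7) = true := by decide +kernel
theorem factP_blk1835 : allRange factP 7 (1835 * 2 ^ 7) = true := by decide +kernel
theorem factP_blk1836 : allRange factP 7 (1836 * 2 ^ 7) = true := by decide +kernel
theorem factP_blk1837 : allRange factP 7 (1837 * 2 ^ 7) = true := by decide +kernel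
theorem factP_blk1838 : allRange factP 7 (1838 * 2 ^ 7) = true := by decide +kernel
theorem factP_blk1839 : allRange factP 7 (1839 * 2 ^ 7) = true := by decide +kernel
theorem factP_blk1840 : allRange factP 7 (1840 * 2 ^ 7) = true := by decide +kernel
theorem factP_blk1841 : allRange factP 7 (1841 * 2 ^ 7) = true := by decide +kernel
theorem factP_blk1842 : allRange factP 7 (1842 * 2 ^ 7) = true := by decide +kernel
theorem factP_blk1843 : allRange factP 7 (1843 * 2 ^ 7) = true := by decide +kernel
theorem factP_blk1844 : allRange factP 7 (1844 * 2 ^ 7) = true := by decide +kernel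
theorem factP_blk1845 : allRange factP 7 (1845 * 2 ^ 7) = true := by decide +kernel
theorem factP_blk1846 : allRange factP 7 (1846 * 2 ^ 7) = true := by decide +kernel
theorem factP_blk1847 : allRange factP 7 (1847 * 2 ^ 7) = true := by decide +kernel
theorem factP_blk1848 : allRange factP 7 (1848 * 2 ^ 7) = true := by decide +kernel
theorem factP_blk1849 : allRange factP 7 (1849 * 2 ^ 7) = true := by decide +kernel
theorem factP_blk1850 : allRange factP 7 (1850 * 2 ^ 7) = true := by decide +kernel
theorem factP_blk1851 : allRange factP 7 (1851 * 2 ^ 7) = true := by decide +kernel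
theorem factP_blk1852 : allRange factP 7 (1852 * 2 ^ 7) = true := by decide +kernel
theorem factP_blk1853 : allRange factP 7 (1853 * 2 ^ 7) = true := by decide +kernel
theorem factP_blk1854 : allRange factP 7 (1854 * 2 ^ 7) = true := by decide +kernel
theorem factP_blk1855 : allRange factP 7 (1855 * 2 ^ 7) = true := by decide +kernel
theorem factP_f28 : ∀ k, 1792 ≤ k → k < 1856 → allRange factP 7 (k * 2 ^ 7) = true := by
  intro k h1 h2
  interval_cases k
  · exact factP_blk1792
  · exact factP_blk1793
  · exact factP_blk1794
  · exact factP_blk1795
  · exact factP_blk1796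
  · exact factP_blk1797
  · exact factP_blk1798
  · exact factP_blk1799
  · exact factP_blk1800
  · exact factP_blk1801
  · exact factP_blk1802
  · exact factP_blk1803
  · exact factP_blk1804
  · exact factP_blk1805
  · exact factP_blk1806
  · exact factP_blk1807
  · exact factP_blk1808
  · exact factP_blk1809
  · exact factP_blk1810
  · exact factP_blk1811
  · exact factP_blk1812
  · exact factP_blk1813
  · exact factP_blk1814
  · exact factP_blk1815
  · exact factP_blk1816
  · exact factP_blk1817
  · exact factP_blk1818
  · exact factP_blk1819
  · exact factP_blk1820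
  · exact factP_blk1821
  · exact factP_blk1822
  · exact factP_blk1823
  · exact factP_blk1824
  · exact factP_blk1825
  · exact factP_blk1826
  · exact factP_blk1827
  · exact factP_blk1828
  · exact factP_blk1829
  · exact factP_blk1830
  · exact factP_blk1831
  · exact factP_blk1832
  · exact factP_blk1833
  · exact factP_blk1834
  · exact factP_blk1835
  · exact factP_blk1836
  · exact factP_blk1837
  · exact factP_blk1838
  · exact factP_blk1839
  · exact factP_blk1840
  · exact factP_blk1841
  · exact factP_blk1842
  · exact factP_blk1843
  · exact factP_blk1844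
  · exact factP_blk1845
  · exact factP_blk1846
  · exact factP_blk1847
  · exact factP_blk1848
  · exact factP_blk1849
  · exact factP_blk1850
  · exact factP_blk1851
  · exact factP_blk1852
  · exact factP_blk1853
  · exact factP_blk1854
  · exact factP_blk1855

end Cfsg.Agent.Lib.Helper28.Fi24x306936
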