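import Cfsg.Agent.Lib.Helper28.Fi24x306936.Defs

set_option autoImplicit false
set_option linter.unusedVariables false
set_option Elab.async false

namespace Cfsg.Agent.Lib.Helper28.Fi24x306936

open Cfsg.Spor.Fi24 (Gen)
open Cfsg.Agent.Lib.Helper28.TC
open Cfsg.Agent.Lib.Helper28.TC2

theorem factP_blk1856 : allRange factP 7 (1856 * 2 ^ 7) = true := by decide +kernel
theorem factP_blk1857 : allRange factP 7 (1857 * 2 ^ 7) = true := by decide +kernel
theorem factP_blk1858 : allRange factP 7 (1858 * 2 ^ 7) = true := by decide +kernel
theorem factP_blk1859 : allRange factP 7 (1859 * 2 ^ 7) = true := by decide +kernel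
theorem factP_blk1860 : allRange factP 7 (1860 * 2 ^ 7) = true := by decide +kernel
theorem factP_blk1861 : allRange factP 7 (1861 * 2 ^ 7) = true := by decide +kernel
theorem factP_blk1862 : allRange factP 7 (1862 * 2 ^ 7) = true := by decide +kernel
theorem factP_blk1863 : allRange factP 7 (1863 * 2 ^ 7) = true := by decide +kernel
theorem factP_blk1864 : allRange factP 7 (1864 * 2 ^ 7) = true := by decide +kernel
theorem factP_blk1865 : allRange factP 7 (1865 * 2 ^ 7) = true := by decide +kernel
theorem factP_blk1866 : allRange factP 7 (1866 * 2 ^ 7) = true := by decide +kernel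
theorem factP_blk1867 : allRange factP 7 (1867 * 2 ^ 7) = true := by decide +kernel
theorem factP_blk1868 : allRange factP 7 (1868 * 2 ^ 7) = true := by decide +kernel
theorem factP_blk1869 : allRange factP 7 (1869 * 2 ^ 7) = true := by decide +kernel
theorem factP_blk1870 : allRange factP 7 (1870 * 2 ^ 7) = true := by decide +kernel
theorem factP_blk1871 : allRange factP 7 (1871 * 2 ^ 7) = true := by decide +kernel
theorem factP_blk1872 : allRange factP 7 (1872 * 2 ^ 7) = true := by decide +kernel
theorem factP_blk1873 : allRange factP 7 (1873 * 2 ^ 7) = true := by decide +kernel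
theorem factP_blk1874 : allRange factP 7 (1874 * 2 ^ 7) = true := by decide +kernel
theorem factP_blk1875 : allRange factP 7 (1875 * 2 ^ 7) = true := by decide +kernel
theorem factP_blk1876 : allRange factP 7 (1876 * 2 ^ 7) = true := by decide +kernel
theorem factP_blk1877 : allRange factP 7 (1877 * 2 ^ 7) = true := by decide +kernel
theorem factP_blk1878 : allRange factP 7 (1878 * 2 ^ 7) = true := by decide +kernel
theorem factP_blk1879 : allRange factP 7 (1879 * 2 ^ 7) = true := by decide +kernel
theorem factP_blk1880 : allRange factP 7 (1880 * 2 ^ 7) = true := by decide +kernel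
theorem factP_blk1881 : allRange factP 7 (1881 * 2 ^ 7) = true := by decide +kernel
theorem factP_blk1882 : allRange factP 7 (1882 * 2 ^ 7) = true := by decide +kernel
theorem factP_blk1883 : allRange factP 7 (1883 * 2 ^ 7) = true := by decide +kernel
theorem factP_blk1884 : allRange factP 7 (1884 * 2 ^ 7) = true := by decide +kernel
theorem factP_blk1885 : allRange factP 7 (1885 * 2 ^ 7) = true := by decide +kernel
theorem factP_blk1886 : allRange factP 7 (1886 * 2 ^ 7) = true := by decide +kernel
theorem factP_blk1887 : allRange factP 7 (1887 * 2 ^ 7) = true := by decide +kernel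
theorem factP_blk1888 : allRange factP 7 (1888 * 2 ^ 7) = true := by decide +kernel
theorem factP_blk1889 : allRange factP 7 (1889 * 2 ^ 7) = true := by decide +kernel
theorem factP_blk1890 : allRange factP 7 (1890 * 2 ^ 7) = true := by decide +kernel
theorem factP_blk1891 : allRange factP 7 (1891 * 2 ^ 7) = true := by decide +kernel
theorem factP_blk1892 : allRange factP 7 (1892 * 2 ^ 7) = true := by decide +kernel
theorem factP_blk1893 : allRange factP 7 (1893 * 2 ^ 7) = true := by decide +kernel
theorem factP_blk1894 : allRange factP 7 (1894 * 2 ^ 7) = true := by decide +kernel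
theorem factP_blk1895 : allRange factP 7 (1895 * 2 ^ 7) = true := by decide +kernel
theorem factP_blk1896 : allRange factP 7 (1896 * 2 ^ 7) = true := by decide +kernel
theorem factP_blk1897 : allRange factP 7 (1897 * 2 ^ 7) = true := by decide +kernel
theorem factP_blk1898 : allRange factP 7 (1898 * 2 ^ 7) = true := by decide +kernel
theorem factP_blk1899 : allRange factP 7 (1899 * 2 ^ 7) = true := by decide +kernel
theorem factP_blk1900 : allRange factP 7 (1900 * 2 ^ 7) = true := by decide +kernel
theorem factP_blk1901 : allRange factP 7 (1901 * 2 ^ 7) = true := by decide +kernel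
theorem factP_blk1902 : allRange factP 7 (1902 * 2 ^ 7) = true := by decide +kernel
theorem factP_blk1903 : allRange factP 7 (1903 * 2 ^ 7) = true := by decide +kernel
theorem factP_blk1904 : allRange factP 7 (1904 * 2 ^ 7) = true := by decide +kernel
theorem factP_blk1905 : allRange factP 7 (1905 * 2 ^ 7) = true := by decide +kernel
theorem factP_blk1906 : allRange factP 7 (1906 * 2 ^ 7) = true := by decide +kernel
theorem factP_blk1907 : allRange factP 7 (1907 * 2 ^ 7) = true := by decide +kernel
theorem factP_blk1908 : allRange factP 7 (1908 * 2 ^ 7) = true := by decide +kernel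
theorem factP_blk1909 : allRange factP 7 (1909 * 2 ^ 7) = true := by decide +kernel
theorem factP_blk1910 : allRange factP 7 (1910 * 2 ^ 7) = true := by decide +kernel
theorem factP_blk1911 : allRange factP 7 (1911 * 2 ^ 7) = true := by decide +kernel
theorem factP_blk1912 : allRange factP 7 (1912 * 2 ^ 7) = true := by decide +kernel
theorem factP_blk1913 : allRange factP 7 (1913 * 2 ^ 7) = true := by decide +kernel
theorem factP_blk1914 : allRange factP 7 (1914 * 2 ^ 7) = true := by decide +kernel
theorem factP_blk1915 : allRange factP 7 (1915 * 2 ^ 7) = true := by decide +kernel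
theorem factP_blk1916 : allRange factP 7 (1916 * 2 ^ 7) = true := by decide +kernel
theorem factP_blk1917 : allRange factP 7 (1917 * 2 ^ 7) = true := by decide +kernel
theorem factP_blk1918 : allRange factP 7 (1918 * 2 ^ 7) = true := by decide +kernel
theorem factP_blk1919 : allRange factP 7 (1919 * 2 ^ 7) = true := by decide +kernel
theorem factP_f29 : ∀ k, 1856 ≤ k → k < 1920 → allRange factP 7 (k * 2 ^ 7) = true := by
  intro k h1 h2
  interval_cases k
  · exact factP_blk1856
  · exact factP_blk1857
  · exact factP_blk1858
  · exact factP_blk1859
  · exact factP_blk1860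
  · exact factP_blk1861
  · exact factP_blk1862
  · exact factP_blk1863
  · exact factP_blk1864
  · exact factP_blk1865
  · exact factP_blk1866
  · exact factP_blk1867
  · exact factP_blk1868
  · exact factP_blk1869
  · exact factP_blk1870
  · exact factP_blk1871
  · exact factP_blk1872
  · exact factP_blk1873
  · exact factP_blk1874
  · exact factP_blk1875
  · exact factP_blk1876
  · exact factP_blk1877
  · exact factP_blk1878
  · exact factP_blk1879
  · exact factP_blk1880
  · exact factP_blk1881
  · exact factP_blk1882
  · exact factP_blk1883
  · exact factP_blk1884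
  · exact factP_blk1885
  · exact factP_blk1886
  · exact factP_blk1887
  · exact factP_blk1888
  · exact factP_blk1889
  · exact factP_blk1890
  · exact factP_blk1891
  · exact factP_blk1892
  · exact factP_blk1893
  · exact factP_blk1894
  · exact factP_blk1895
  · exact factP_blk1896
  · exact factP_blk1897
  · exact factP_blk1898
  · exact factP_blk1899
  · exact factP_blk1900
  · exact factP_blk1901
  · exact factP_blk1902
  · exact factP_blk1903
  · exact factP_blk1904
  · exact factP_blk1905
  · exact factP_blk1906
  · exact factP_blk1907
  · exact factP_blk1908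
  · exact factP_blk1909
  · exact factP_blk1910
  · exact factP_blk1911
  · exact factP_blk1912
  · exact factP_blk1913
  · exact factP_blk1914
  · exact factP_blk1915
  · exact factP_blk1916
  · exact factP_blk1917
  · exact factP_blk1918
  · exact factP_blk1919

end Cfsg.Agent.Lib.Helper28.Fi24x306936
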