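import Cfsg.Agent.Lib.Helper28.Fi24x306936.Defs

set_option autoImplicit false
set_option linter.unusedVariables false
set_option Elab.async false

namespace Cfsg.Agent.Lib.Helper28.Fi24x306936

open Cfsg.Spor.Fi24 (Gen)
open Cfsg.Agent.Lib.Helper28.TC
open Cfsg.Agent.Lib.Helper28.TC2

theorem factP_blk1920 : allRange factP 7 (1920 * 2 ^ 7) = true := by decide +kernel
theorem factP_blk1921 : allRange factP 7 (1921 * 2 ^ 7) = true := by decide +kernel
theorem factP_blk1922 : allRange factP 7 (1922 * 2 ^ 7) = true := by decide +kernel
theorem factP_blk1923 : allRange factP 7 (1923 * 2 ^ 7) = true := by decide +kernel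
theorem factP_blk1924 : allRange factP 7 (1924 * 2 ^ 7) = true := by decide +kernel
theorem factP_blk1925 : allRange factP 7 (1925 * 2 ^ 7) = true := by decide +kernel
theorem factP_blk1926 : allRange factP 7 (1926 * 2 ^ 7) = true := by decide +kernel
theorem factP_blk1927 : allRange factP 7 (1927 * 2 ^ 7) = true := by decide +kernel
theorem factP_blk1928 : allRange factP 7 (1928 * 2 ^ 7) = true := by decide +kernel
theorem factP_blk1929 : allRange factP 7 (1929 * 2 ^ 7) = true := by decide +kernel
theorem factP_blk1930 : allRange factP 7 (1930 * 2 ^ 7) = true := by decide +kernel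
theorem factP_blk1931 : allRange factP 7 (1931 * 2 ^ 7) = true := by decide +kernel
theorem factP_blk1932 : allRange factP 7 (1932 * 2 ^ 7) = true := by decide +kernel
theorem factP_blk1933 : allRange factP 7 (1933 * 2 ^ 7) = true := by decide +kernel
theorem factP_blk1934 : allRange factP 7 (1934 * 2 ^ 7) = true := by decide +kernel
theorem factP_blk1935 : allRange factP 7 (1935 * 2 ^ 7) = true := by decide +kernel
theorem factP_blk1936 : allRange factP 7 (1936 * 2 ^ 7) = true := by decide +kernel
theorem factP_blk1937 : allRange factP 7 (1937 * 2 ^ 7) = true := by decide +kernel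
theorem factP_blk1938 : allRange factP 7 (1938 * 2 ^ 7) = true := by decide +kernel
theorem factP_blk1939 : allRange factP 7 (1939 * 2 ^ 7) = true := by decide +kernel
theorem factP_blk1940 : allRange factP 7 (1940 * 2 ^ 7) = true := by decide +kernel
theorem factP_blk1941 : allRange factP 7 (1941 * 2 ^ 7) = true := by decide +kernel
theorem factP_blk1942 : allRange factP 7 (1942 * 2 ^ 7) = true := by decide +kernel
theorem factP_blk1943 : allRange factP 7 (1943 * 2 ^ 7) = true := by decide +kernel
theorem factP_blk1944 : allRange factP 7 (1944 * 2 ^ 7) = true := by decide +kernel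
theorem factP_blk1945 : allRange factP 7 (1945 * 2 ^ 7) = true := by decide +kernel
theorem factP_blk1946 : allRange factP 7 (1946 * 2 ^ 7) = true := by decide +kernel
theorem factP_blk1947 : allRange factP 7 (1947 * 2 ^ 7) = true := by decide +kernel
theorem factP_blk1948 : allRange factP 7 (1948 * 2 ^ 7) = true := by decide +kernel
theorem factP_blk1949 : allRange factP 7 (1949 * 2 ^ 7) = true := by decide +kernel
theorem factP_blk1950 : allRange factP 7 (1950 * 2 ^ 7) = true := by decide +kernel
theorem factP_blk1951 : allRange factP 7 (1951 * 2 ^ 7) = true := by decide +kernel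
theorem factP_blk1952 : allRange factP 7 (1952 * 2 ^ 7) = true := by decide +kernel
theorem factP_blk1953 : allRange factP 7 (1953 * 2 ^ 7) = true := by decide +kernel
theorem factP_blk1954 : allRange factP 7 (1954 * 2 ^ 7) = true := by decide +kernel
theorem factP_blk1955 : allRange factP 7 (1955 * 2 ^ 7) = true := by decide +kernel
theorem factP_blk1956 : allRange factP 7 (1956 * 2 ^ 7) = true := by decide +kernel
theorem factP_blk1957 : allRange factP 7 (1957 * 2 ^ 7) = true := by decide +kernel
theorem factP_blk1958 : allRange factP 7 (1958 * 2 ^ 7) = true := by decide +kernel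
theorem factP_blk1959 : allRange factP 7 (1959 * 2 ^ 7) = true := by decide +kernel
theorem factP_blk1960 : allRange factP 7 (1960 * 2 ^ 7) = true := by decide +kernel
theorem factP_blk1961 : allRange factP 7 (1961 * 2 ^ 7) = true := by decide +kernel
theorem factP_blk1962 : allRange factP 7 (1962 * 2 ^ 7) = true := by decide +kernel
theorem factP_blk1963 : allRange factP 7 (1963 * 2 ^ 7) = true := by decide +kernel
theorem factP_blk1964 : allRange factP 7 (1964 * 2 ^ 7) = true := by decide +kernel
theorem factP_blk1965 : allRange factP 7 (1965 * 2 ^ 7) = true := by decide +kernel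
theorem factP_blk1966 : allRange factP 7 (1966 * 2 ^ 7) = true := by decide +kernel
theorem factP_blk1967 : allRange factP 7 (1967 * 2 ^ 7) = true := by decide +kernel
theorem factP_blk1968 : allRange factP 7 (1968 * 2 ^ 7) = true := by decide +kernel
theorem factP_blk1969 : allRange factP 7 (1969 * 2 ^ 7) = true := by decide +kernel
theorem factP_blk1970 : allRange factP 7 (1970 * 2 ^ 7) = true := by decide +kernel
theorem factP_blk1971 : allRange factP 7 (1971 * 2 ^ 7) = true := by decide +kernel
theorem factP_blk1972 : allRange factP 7 (1972 * 2 ^ 7) = true := by decide +kernel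
theorem factP_blk1973 : allRange factP 7 (1973 * 2 ^ 7) = true := by decide +kernel
theorem factP_blk1974 : allRange factP 7 (1974 * 2 ^ 7) = true := by decide +kernel
theorem factP_blk1975 : allRange factP 7 (1975 * 2 ^ 7) = true := by decide +kernel
theorem factP_blk1976 : allRange factP 7 (1976 * 2 ^ 7) = true := by decide +kernel
theorem factP_blk1977 : allRange factP 7 (1977 * 2 ^ 7) = true := by decide +kernel
theorem factP_blk1978 : allRange factP 7 (1978 * 2 ^ 7) = true := by decide +kernel
theorem factP_blk1979 : allRange factP 7 (1979 * 2 ^ 7) = true := by decide +kernel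
theorem factP_blk1980 : allRange factP 7 (1980 * 2 ^ 7) = true := by decide +kernel
theorem factP_blk1981 : allRange factP 7 (1981 * 2 ^ 7) = true := by decide +kernel
theorem factP_blk1982 : allRange factP 7 (1982 * 2 ^ 7) = true := by decide +kernel
theorem factP_blk1983 : allRange factP 7 (1983 * 2 ^ 7) = true := by decide +kernel
theorem factP_f30 : ∀ k, 1920 ≤ k → k < 1984 → allRange factP 7 (k * 2 ^ 7) = true := by
  intro k h1 h2
  interval_cases k
  · exact factP_blk1920
  · exact factP_blk1921
  · exact factP_blk1922
  · exact factP_blk1923
  · exact factP_blk1924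
  · exact factP_blk1925
  · exact factP_blk1926
  · exact factP_blk1927
  · exact factP_blk1928
  · exact factP_blk1929
  · exact factP_blk1930
  · exact factP_blk1931
  · exact factP_blk1932
  · exact factP_blk1933
  · exact factP_blk1934
  · exact factP_blk1935
  · exact factP_blk1936
  · exact factP_blk1937
  · exact factP_blk1938
  · exact factP_blk1939
  · exact factP_blk1940
  · exact factP_blk1941
  · exact factP_blk1942
  · exact factP_blk1943
  · exact factP_blk1944
  · exact factP_blk1945
  · exact factP_blk1946
  · exact factP_blk1947
  · exact factP_blk1948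
  · exact factP_blk1949
  · exact factP_blk1950
  · exact factP_blk1951
  · exact factP_blk1952
  · exact factP_blk1953
  · exact factP_blk1954
  · exact factP_blk1955
  · exact factP_blk1956
  · exact factP_blk1957
  · exact factP_blk1958
  · exact factP_blk1959
  · exact factP_blk1960
  · exact factP_blk1961
  · exact factP_blk1962
  · exact factP_blk1963
  · exact factP_blk1964
  · exact factP_blk1965
  · exact factP_blk1966
  · exact factP_blk1967
  · exact factP_blk1968
  · exact factP_blk1969
  · exact factP_blk1970
  · exact factP_blk1971
  · exact factP_blk1972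
  · exact factP_blk1973
  · exact factP_blk1974
  · exact factP_blk1975
  · exact factP_blk1976
  · exact factP_blk1977
  · exact factP_blk1978
  · exact factP_blk1979
  · exact factP_blk1980
  · exact factP_blk1981
  · exact factP_blk1982
  · exact factP_blk1983

end Cfsg.Agent.Lib.Helper28.Fi24x306936
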