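import Cfsg.Agent.Lib.Helper28.Fi24x306936.Defs

set_option autoImplicit false
set_option linter.unusedVariables false
set_option Elab.async false

namespace Cfsg.Agent.Lib.Helper28.Fi24x306936

open Cfsg.Spor.Fi24 (Gen)
open Cfsg.Agent.Lib.Helper28.TC
open Cfsg.Agent.Lib.Helper28.TC2

theorem factP_blk2048 : allRange factP 7 (2048 * 2 ^ 7) = true := by decide +kernel
theorem factP_blk2049 : allRange factP 7 (2049 * 2 ^ 7) = true := by decide +kernel
theorem factP_blk2050 : allRange factP 7 (2050 * 2 ^ 7) = true := by decide +kernel
theorem factP_blk2051 : allRange factP 7 (2051 * 2 ^ 7) = true := by decide +kernel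
theorem factP_blk2052 : allRange factP 7 (2052 * 2 ^ 7) = true := by decide +kernel
theorem factP_blk2053 : allRange factP 7 (2053 * 2 ^ 7) = true := by decide +kernel
theorem factP_blk2054 : allRange factP 7 (2054 * 2 ^ 7) = true := by decide +kernel
theorem factP_blk2055 : allRange factP 7 (2055 * 2 ^ 7) = true := by decide +kernel
theorem factP_blk2056 : allRange factP 7 (2056 * 2 ^ 7) = true := by decide +kernel
theorem factP_blk2057 : allRange factP 7 (2057 * 2 ^ 7) = true := by decide +kernel
theorem factP_blk2058 : allRange factP 7 (2058 * 2 ^ 7) = true := by decide +kernel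
theorem factP_blk2059 : allRange factP 7 (2059 * 2 ^ 7) = true := by decide +kernel
theorem factP_blk2060 : allRange factP 7 (2060 * 2 ^ 7) = true := by decide +kernel
theorem factP_blk2061 : allRange factP 7 (2061 * 2 ^ 7) = true := by decide +kernel
theorem factP_blk2062 : allRange factP 7 (2062 * 2 ^ 7) = true := by decide +kernel
theorem factP_blk2063 : allRange factP 7 (2063 * 2 ^ 7) = true := by decide +kernel
theorem factP_blk2064 : allRange factP 7 (2064 * 2 ^ 7) = true := by decide +kernel
theorem factP_blk2065 : allRange factP 7 (2065 * 2 ^ 7) = true := by decide +kernel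
theorem factP_blk2066 : allRange factP 7 (2066 * 2 ^ 7) = true := by decide +kernel
theorem factP_blk2067 : allRange factP 7 (2067 * 2 ^ 7) = true := by decide +kernel
theorem factP_blk2068 : allRange factP 7 (2068 * 2 ^ 7) = true := by decide +kernel
theorem factP_blk2069 : allRange factP 7 (2069 * 2 ^ 7) = true := by decide +kernel
theorem factP_blk2070 : allRange factP 7 (2070 * 2 ^ 7) = true := by decide +kernel
theorem factP_blk2071 : allRange factP 7 (2071 * 2 ^ 7) = true := by decide +kernel
theorem factP_blk2072 : allRange factP 7 (2072 * 2 ^ 7) = true := by decide +kernel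
theorem factP_blk2073 : allRange factP 7 (2073 * 2 ^ 7) = true := by decide +kernel
theorem factP_blk2074 : allRange factP 7 (2074 * 2 ^ 7) = true := by decide +kernel
theorem factP_blk2075 : allRange factP 7 (2075 * 2 ^ 7) = true := by decide +kernel
theorem factP_blk2076 : allRange factP 7 (2076 * 2 ^ 7) = true := by decide +kernel
theorem factP_blk2077 : allRange factP 7 (2077 * 2 ^ 7) = true := by decide +kernel
theorem factP_blk2078 : allRange factP 7 (2078 * 2 ^ 7) = true := by decide +kernel
theorem factP_blk2079 : allRange factP 7 (2079 * 2 ^ 7) = true := by decide +kernel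
theorem factP_blk2080 : allRange factP 7 (2080 * 2 ^ 7) = true := by decide +kernel
theorem factP_blk2081 : allRange factP 7 (2081 * 2 ^ 7) = true := by decide +kernel
theorem factP_blk2082 : allRange factP 7 (2082 * 2 ^ 7) = true := by decide +kernel
theorem factP_blk2083 : allRange factP 7 (2083 * 2 ^ 7) = true := by decide +kernel
theorem factP_blk2084 : allRange factP 7 (2084 * 2 ^ 7) = true := by decide +kernel
theorem factP_blk2085 : allRange factP 7 (2085 * 2 ^ 7) = true := by decide +kernel
theorem factP_blk2086 : allRange factP 7 (2086 * 2 ^ 7) = true := by decide +kernel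
theorem factP_blk2087 : allRange factP 7 (2087 * 2 ^ 7) = true := by decide +kernel
theorem factP_blk2088 : allRange factP 7 (2088 * 2 ^ 7) = true := by decide +kernel
theorem factP_blk2089 : allRange factP 7 (2089 * 2 ^ 7) = true := by decide +kernel
theorem factP_blk2090 : allRange factP 7 (2090 * 2 ^ 7) = true := by decide +kernel
theorem factP_blk2091 : allRange factP 7 (2091 * 2 ^ 7) = true := by decide +kernel
theorem factP_blk2092 : allRange factP 7 (2092 * 2 ^ 7) = true := by decide +kernel
theorem factP_blk2093 : allRange factP 7 (2093 * 2 ^ 7) = true := by decide +kernel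
theorem factP_blk2094 : allRange factP 7 (2094 * 2 ^ 7) = true := by decide +kernel
theorem factP_blk2095 : allRange factP 7 (2095 * 2 ^ 7) = true := by decide +kernel
theorem factP_blk2096 : allRange factP 7 (2096 * 2 ^ 7) = true := by decide +kernel
theorem factP_blk2097 : allRange factP 7 (2097 * 2 ^ 7) = true := by decide +kernel
theorem factP_blk2098 : allRange factP 7 (2098 * 2 ^ 7) = true := by decide +kernel
theorem factP_blk2099 : allRange factP 7 (2099 * 2 ^ 7) = true := by decide +kernel
theorem factP_blk2100 : allRange factP 7 (2100 * 2 ^ 7) = true := by decide +kernel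
theorem factP_blk2101 : allRange factP 7 (2101 * 2 ^ 7) = true := by decide +kernel
theorem factP_blk2102 : allRange factP 7 (2102 * 2 ^ 7) = true := by decide +kernel
theorem factP_blk2103 : allRange factP 7 (2103 * 2 ^ 7) = true := by decide +kernel
theorem factP_blk2104 : allRange factP 7 (2104 * 2 ^ 7) = true := by decide +kernel
theorem factP_blk2105 : allRange factP 7 (2105 * 2 ^ 7) = true := by decide +kernel
theorem factP_blk2106 : allRange factP 7 (2106 * 2 ^ 7) = true := by decide +kernel
theorem factP_blk2107 : allRange factP 7 (2107 * 2 ^ 7) = true := by decide +kernel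
theorem factP_blk2108 : allRange factP 7 (2108 * 2 ^ 7) = true := by decide +kernel
theorem factP_blk2109 : allRange factP 7 (2109 * 2 ^ 7) = true := by decide +kernel
theorem factP_blk2110 : allRange factP 7 (2110 * 2 ^ 7) = true := by decide +kernel
theorem factP_blk2111 : allRange factP 7 (2111 * 2 ^ 7) = true := by decide +kernel
theorem factP_f32 : ∀ k, 2048 ≤ k → k < 2112 → allRange factP 7 (k * 2 ^ 7) = true := by
  intro k h1 h2
  interval_cases k
  · exact factP_blk2048
  · exact factP_blk2049
  · exact factP_blk2050
  · exact factP_blk2051
  · exact factP_blk2052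
  · exact factP_blk2053
  · exact factP_blk2054
  · exact factP_blk2055
  · exact factP_blk2056
  · exact factP_blk2057
  · exact factP_blk2058
  · exact factP_blk2059
  · exact factP_blk2060
  · exact factP_blk2061
  · exact factP_blk2062
  · exact factP_blk2063
  · exact factP_blk2064
  · exact factP_blk2065
  · exact factP_blk2066
  · exact factP_blk2067
  · exact factP_blk2068
  · exact factP_blk2069
  · exact factP_blk2070
  · exact factP_blk2071
  · exact factP_blk2072
  · exact factP_blk2073
  · exact factP_blk2074
  · exact factP_blk2075
  · exact factP_blk2076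
  · exact factP_blk2077
  · exact factP_blk2078
  · exact factP_blk2079
  · exact factP_blk2080
  · exact factP_blk2081
  · exact factP_blk2082
  · exact factP_blk2083
  · exact factP_blk2084
  · exact factP_blk2085
  · exact factP_blk2086
  · exact factP_blk2087
  · exact factP_blk2088
  · exact factP_blk2089
  · exact factP_blk2090
  · exact factP_blk2091
  · exact factP_blk2092
  · exact factP_blk2093
  · exact factP_blk2094
  · exact factP_blk2095
  · exact factP_blk2096
  · exact factP_blk2097
  · exact factP_blk2098
  · exact factP_blk2099
  · exact factP_blk2100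
  · exact factP_blk2101
  · exact factP_blk2102
  · exact factP_blk2103
  · exact factP_blk2104
  · exact factP_blk2105
  · exact factP_blk2106
  · exact factP_blk2107
  · exact factP_blk2108
  · exact factP_blk2109
  · exact factP_blk2110
  · exact factP_blk2111

end Cfsg.Agent.Lib.Helper28.Fi24x306936
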