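import Cfsg.Agent.Lib.Helper28.Fi24x306936.Defs

set_option autoImplicit false
set_option linter.unusedVariables false
set_option Elab.async false

namespace Cfsg.Agent.Lib.Helper28.Fi24x306936

open Cfsg.Spor.Fi24 (Gen)
open Cfsg.Agent.Lib.Helper28.TC
open Cfsg.Agent.Lib.Helper28.TC2

theorem factP_blk2368 : allRange factP 7 (2368 * 2 ^ 7) = true := by decide +kernel
theorem factP_blk2369 : allRange factP 7 (2369 * 2 ^ 7) = true := by decide +kernel
theorem factP_blk2370 : allRange factP 7 (2370 * 2 ^ 7) = true := by decide +kernel
theorem factP_blk2371 : allRange factP 7 (2371 * 2 ^ 7) = true := by decide +kernel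
theorem factP_blk2372 : allRange factP 7 (2372 * 2 ^ 7) = true := by decide +kernel
theorem factP_blk2373 : allRange factP 7 (2373 * 2 ^ 7) = true := by decide +kernel
theorem factP_blk2374 : allRange factP 7 (2374 * 2 ^ 7) = true := by decide +kernel
theorem factP_blk2375 : allRange factP 7 (2375 * 2 ^ 7) = true := by decide +kernel
theorem factP_blk2376 : allRange factP 7 (2376 * 2 ^ 7) = true := by decide +kernel
theorem factP_blk2377 : allRange factP 7 (2377 * 2 ^ 7) = true := by decide +kernel
theorem factP_blk2378 : allRange factP 7 (2378 * 2 ^ 7) = true := by decide +kernel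
theorem factP_blk2379 : allRange factP 7 (2379 * 2 ^ 7) = true := by decide +kernel
theorem factP_blk2380 : allRange factP 7 (2380 * 2 ^ 7) = true := by decide +kernel
theorem factP_blk2381 : allRange factP 7 (2381 * 2 ^ 7) = true := by decide +kernel
theorem factP_blk2382 : allRange factP 7 (2382 * 2 ^ 7) = true := by decide +kernel
theorem factP_blk2383 : allRange factP 7 (2383 * 2 ^ 7) = true := by decide +kernel
theorem factP_blk2384 : allRange factP 7 (2384 * 2 ^ 7) = true := by decide +kernel
theorem factP_blk2385 : allRange factP 7 (2385 * 2 ^ 7) = true := by decide +kernel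
theorem factP_blk2386 : allRange factP 7 (2386 * 2 ^ 7) = true := by decide +kernel
theorem factP_blk2387 : allRange factP 7 (2387 * 2 ^ 7) = true := by decide +kernel
theorem factP_blk2388 : allRange factP 7 (2388 * 2 ^ 7) = true := by decide +kernel
theorem factP_blk2389 : allRange factP 7 (2389 * 2 ^ 7) = true := by decide +kernel
theorem factP_blk2390 : allRange factP 7 (2390 * 2 ^ 7) = true := by decide +kernel
theorem factP_blk2391 : allRange factP 7 (2391 * 2 ^ 7) = true := by decide +kernel
theorem factP_blk2392 : allRange factP 7 (2392 * 2 ^ 7) = true := by decide +kernel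
theorem factP_blk2393 : allRange factP 7 (2393 * 2 ^ 7) = true := by decide +kernel
theorem factP_blk2394 : allRange factP 7 (2394 * 2 ^ 7) = true := by decide +kernel
theorem factP_blk2395 : allRange factP 7 (2395 * 2 ^ 7) = true := by decide +kernel
theorem factP_blk2396 : allRange factP 7 (2396 * 2 ^ 7) = true := by decide +kernel
theorem factP_blk2397 : allRange factP 7 (2397 * 2 ^ 7) = true := by decide +kernel
theorem factP_blk2398 : allRange factP 7 (2398 * 2 ^ 7) = true := by decide +kernel
theorem factP_blk2399 : allRange factP 7 (2399 * 2 ^ 7) = true := by decide +kernel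
theorem factP_blk2400 : allRange factP 7 (2400 * 2 ^ 7) = true := by decide +kernel
theorem factP_blk2401 : allRange factP 7 (2401 * 2 ^ 7) = true := by decide +kernel
theorem factP_blk2402 : allRange factP 7 (2402 * 2 ^ 7) = true := by decide +kernel
theorem factP_blk2403 : allRange factP 7 (2403 * 2 ^ 7) = true := by decide +kernel
theorem factP_blk2404 : allRange factP 7 (2404 * 2 ^ 7) = true := by decide +kernel
theorem factP_blk2405 : allRange factP 7 (2405 * 2 ^ 7) = true := by decide +kernel
theorem factP_blk2406 : allRange factP 7 (2406 * 2 ^ 7) = true := by decide +kernel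
theorem factP_blk2407 : allRange factP 7 (2407 * 2 ^ 7) = true := by decide +kernel
theorem factP_blk2408 : allRange factP 7 (2408 * 2 ^ 7) = true := by decide +kernel
theorem factP_blk2409 : allRange factP 7 (2409 * 2 ^ 7) = true := by decide +kernel
theorem factP_blk2410 : allRange factP 7 (2410 * 2 ^ 7) = true := by decide +kernel
theorem factP_blk2411 : allRange factP 7 (2411 * 2 ^ 7) = true := by decide +kernel
theorem factP_blk2412 : allRange factP 7 (2412 * 2 ^ 7) = true := by decide +kernel
theorem factP_blk2413 : allRange factP 7 (2413 * 2 ^ 7) = true := by decide +kernel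
theorem factP_blk2414 : allRange factP 7 (2414 * 2 ^ 7) = true := by decide +kernel
theorem factP_blk2415 : allRange factP 7 (2415 * 2 ^ 7) = true := by decide +kernel
theorem factP_blk2416 : allRange factP 7 (2416 * 2 ^ 7) = true := by decide +kernel
theorem factP_blk2417 : allRange factP 7 (2417 * 2 ^ 7) = true := by decide +kernel
theorem factP_blk2418 : allRange factP 7 (2418 * 2 ^ 7) = true := by decide +kernel
theorem factP_blk2419 : allRange factP 7 (2419 * 2 ^ 7) = true := by decide +kernel
theorem factP_blk2420 : allRange factP 7 (2420 * 2 ^ 7) = true := by decide +kernel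
theorem factP_blk2421 : allRange factP 7 (2421 * 2 ^ 7) = true := by decide +kernel
theorem factP_blk2422 : allRange factP 7 (2422 * 2 ^ 7) = true := by decide +kernel
theorem factP_blk2423 : allRange factP 7 (2423 * 2 ^ 7) = true := by decide +kernel
theorem factP_blk2424 : allRange factP 7 (2424 * 2 ^ 7) = true := by decide +kernel
theorem factP_blk2425 : allRange factP 7 (2425 * 2 ^ 7) = true := by decide +kernel
theorem factP_blk2426 : allRange factP 7 (2426 * 2 ^ 7) = true := by decide +kernel
theorem factP_blk2427 : allRange factP 7 (2427 * 2 ^ 7) = true := by decide +kernel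
theorem factP_blk2428 : allRange factP 7 (2428 * 2 ^ 7) = true := by decide +kernel
theorem factP_blk2429 : allRange factP 7 (2429 * 2 ^ 7) = true := by decide +kernel
theorem factP_blk2430 : allRange factP 7 (2430 * 2 ^ 7) = true := by decide +kernel
theorem factP_blk2431 : allRange factP 7 (2431 * 2 ^ 7) = true := by decide +kernel
theorem factP_f37 : ∀ k, 2368 ≤ k → k < 2432 → allRange factP 7 (k * 2 ^ 7) = true := by
  intro k h1 h2
  interval_cases k
  · exact factP_blk2368
  · exact factP_blk2369
  · exact factP_blk2370
  · exact factP_blk2371
  · exact factP_blk2372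
  · exact factP_blk2373
  · exact factP_blk2374
  · exact factP_blk2375
  · exact factP_blk2376
  · exact factP_blk2377
  · exact factP_blk2378
  · exact factP_blk2379
  · exact factP_blk2380
  · exact factP_blk2381
  · exact factP_blk2382
  · exact factP_blk2383
  · exact factP_blk2384
  · exact factP_blk2385
  · exact factP_blk2386
  · exact factP_blk2387
  · exact factP_blk2388
  · exact factP_blk2389
  · exact factP_blk2390
  · exact factP_blk2391
  · exact factP_blk2392
  · exact factP_blk2393
  · exact factP_blk2394
  · exact factP_blk2395
  · exact factP_blk2396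
  · exact factP_blk2397
  · exact factP_blk2398
  · exact factP_blk2399
  · exact factP_blk2400
  · exact factP_blk2401
  · exact factP_blk2402
  · exact factP_blk2403
  · exact factP_blk2404
  · exact factP_blk2405
  · exact factP_blk2406
  · exact factP_blk2407
  · exact factP_blk2408
  · exact factP_blk2409
  · exact factP_blk2410
  · exact factP_blk2411
  · exact factP_blk2412
  · exact factP_blk2413
  · exact factP_blk2414
  · exact factP_blk2415
  · exact factP_blk2416
  · exact factP_blk2417
  · exact factP_blk2418
  · exact factP_blk2419
  · exact factP_blk2420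
  · exact factP_blk2421
  · exact factP_blk2422
  · exact factP_blk2423
  · exact factP_blk2424
  · exact factP_blk2425
  · exact factP_blk2426
  · exact factP_blk2427
  · exact factP_blk2428
  · exact factP_blk2429
  · exact factP_blk2430
  · exact factP_blk2431

end Cfsg.Agent.Lib.Helper28.Fi24x306936
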