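import Cfsg.Agent.Lib.Helper28.Fi24x306936.Defs

set_option autoImplicit false
set_option linter.unusedVariables false
set_option Elab.async false

namespace Cfsg.Agent.Lib.Helper28.Fi24x306936

open Cfsg.Spor.Fi24 (Gen)
open Cfsg.Agent.Lib.Helper28.TC
open Cfsg.Agent.Lib.Helper28.TC2

theorem factP_blk2432 : allRange factP 7 (2432 * 2 ^ 7) = true := by decide +kernel
theorem factP_blk2433 : allRange factP 7 (2433 * 2 ^ 7) = true := by decide +kernel
theorem factP_blk2434 : allRange factP 7 (2434 * 2 ^ 7) = true := by decide +kernel
theorem factP_blk2435 : allRange factP 7 (2435 * 2 ^ 7) = true := by decide +kernel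
theorem factP_blk2436 : allRange factP 7 (2436 * 2 ^ 7) = true := by decide +kernel
theorem factP_blk2437 : allRange factP 7 (2437 * 2 ^ 7) = true := by decide +kernel
theorem factP_blk2438 : allRange factP 7 (2438 * 2 ^ 7) = true := by decide +kernel
theorem factP_blk2439 : allRange factP 7 (2439 * 2 ^ 7) = true := by decide +kernel
theorem factP_blk2440 : allRange factP 7 (2440 * 2 ^ 7) = true := by decide +kernel
theorem factP_blk2441 : allRange factP 7 (2441 * 2 ^ 7) = true := by decide +kernel
theorem factP_blk2442 : allRange factP 7 (2442 * 2 ^ 7) = true := by decide +kernel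
theorem factP_blk2443 : allRange factP 7 (2443 * 2 ^ 7) = true := by decide +kernel
theorem factP_blk2444 : allRange factP 7 (2444 * 2 ^ 7) = true := by decide +kernel
theorem factP_blk2445 : allRange factP 7 (2445 * 2 ^ 7) = true := by decide +kernel
theorem factP_blk2446 : allRange factP 7 (2446 * 2 ^ 7) = true := by decide +kernel
theorem factP_blk2447 : allRange factP 7 (2447 * 2 ^ 7) = true := by decide +kernel
theorem factP_blk2448 : allRange factP 7 (2448 * 2 ^ 7) = true := by decide +kernel
theorem factP_blk2449 : allRange factP 7 (2449 * 2 ^ 7) = true := by decide +kernel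
theorem factP_blk2450 : allRange factP 7 (2450 * 2 ^ 7) = true := by decide +kernel
theorem factP_blk2451 : allRange factP 7 (2451 * 2 ^ 7) = true := by decide +kernel
theorem factP_blk2452 : allRange factP 7 (2452 * 2 ^ 7) = true := by decide +kernel
theorem factP_blk2453 : allRange factP 7 (2453 * 2 ^ 7) = true := by decide +kernel
theorem factP_blk2454 : allRange factP 7 (2454 * 2 ^ 7) = true := by decide +kernel
theorem factP_blk2455 : allRange factP 7 (2455 * 2 ^ 7) = true := by decide +kernel
theorem factP_blk2456 : allRange factP 7 (2456 * 2 ^ 7) = true := by decide +kernel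
theorem factP_blk2457 : allRange factP 7 (2457 * 2 ^ 7) = true := by decide +kernel
theorem factP_blk2458 : allRange factP 7 (2458 * 2 ^ 7) = true := by decide +kernel
theorem factP_blk2459 : allRange factP 7 (2459 * 2 ^ 7) = true := by decide +kernel
theorem factP_blk2460 : allRange factP 7 (2460 * 2 ^ 7) = true := by decide +kernel
theorem factP_blk2461 : allRange factP 7 (2461 * 2 ^ 7) = true := by decide +kernel
theorem factP_blk2462 : allRange factP 7 (2462 * 2 ^ 7) = true := by decide +kernel
theorem factP_blk2463 : allRange factP 7 (2463 * 2 ^ 7) = true := by decide +kernel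
theorem factP_blk2464 : allRange factP 7 (2464 * 2 ^ 7) = true := by decide +kernel
theorem factP_blk2465 : allRange factP 7 (2465 * 2 ^ 7) = true := by decide +kernel
theorem factP_blk2466 : allRange factP 7 (2466 * 2 ^ 7) = true := by decide +kernel
theorem factP_blk2467 : allRange factP 7 (2467 * 2 ^ 7) = true := by decide +kernel
theorem factP_blk2468 : allRange factP 7 (2468 * 2 ^ 7) = true := by decide +kernel
theorem factP_blk2469 : allRange factP 7 (2469 * 2 ^ 7) = true := by decide +kernel
theorem factP_blk2470 : allRange factP 7 (2470 * 2 ^ 7) = true := by decide +kernel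
theorem factP_blk2471 : allRange factP 7 (2471 * 2 ^ 7) = true := by decide +kernel
theorem factP_blk2472 : allRange factP 7 (2472 * 2 ^ 7) = true := by decide +kernel
theorem factP_blk2473 : allRange factP 7 (2473 * 2 ^ 7) = true := by decide +kernel
theorem factP_blk2474 : allRange factP 7 (2474 * 2 ^ 7) = true := by decide +kernel
theorem factP_blk2475 : allRange factP 7 (2475 * 2 ^ 7) = true := by decide +kernel
theorem factP_blk2476 : allRange factP 7 (2476 * 2 ^ 7) = true := by decide +kernel
theorem factP_blk2477 : allRange factP 7 (2477 * 2 ^ 7) = true := by decide +kernel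
theorem factP_blk2478 : allRange factP 7 (2478 * 2 ^ 7) = true := by decide +kernel
theorem factP_blk2479 : allRange factP 7 (2479 * 2 ^ 7) = true := by decide +kernel
theorem factP_blk2480 : allRange factP 7 (2480 * 2 ^ 7) = true := by decide +kernel
theorem factP_blk2481 : allRange factP 7 (2481 * 2 ^ 7) = true := by decide +kernel
theorem factP_blk2482 : allRange factP 7 (2482 * 2 ^ 7) = true := by decide +kernel
theorem factP_blk2483 : allRange factP 7 (2483 * 2 ^ 7) = true := by decide +kernel
theorem factP_blk2484 : allRange factP 7 (2484 * 2 ^ 7) = true := by decide +kernel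
theorem factP_blk2485 : allRange factP 7 (2485 * 2 ^ 7) = true := by decide +kernel
theorem factP_blk2486 : allRange factP 7 (2486 * 2 ^ 7) = true := by decide +kernel
theorem factP_blk2487 : allRange factP 7 (2487 * 2 ^ 7) = true := by decide +kernel
theorem factP_blk2488 : allRange factP 7 (2488 * 2 ^ 7) = true := by decide +kernel
theorem factP_blk2489 : allRange factP 7 (2489 * 2 ^ 7) = true := by decide +kernel
theorem factP_blk2490 : allRange factP 7 (2490 * 2 ^ 7) = true := by decide +kernel
theorem factP_blk2491 : allRange factP 7 (2491 * 2 ^ 7) = true := by decide +kernel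
theorem factP_blk2492 : allRange factP 7 (2492 * 2 ^ 7) = true := by decide +kernel
theorem factP_blk2493 : allRange factP 7 (2493 * 2 ^ 7) = true := by decide +kernel
theorem factP_blk2494 : allRange factP 7 (2494 * 2 ^ 7) = true := by decide +kernel
theorem factP_blk2495 : allRange factP 7 (2495 * 2 ^ 7) = true := by decide +kernel
theorem factP_f38 : ∀ k, 2432 ≤ k → k < 2496 → allRange factP 7 (k * 2 ^ 7) = true := by
  intro k h1 h2
  interval_cases k
  · exact factP_blk2432
  · exact factP_blk2433
  · exact factP_blk2434
  · exact factP_blk2435
  · exact factP_blk2436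
  · exact factP_blk2437
  · exact factP_blk2438
  · exact factP_blk2439
  · exact factP_blk2440
  · exact factP_blk2441
  · exact factP_blk2442
  · exact factP_blk2443
  · exact factP_blk2444
  · exact factP_blk2445
  · exact factP_blk2446
  · exact factP_blk2447
  · exact factP_blk2448
  · exact factP_blk2449
  · exact factP_blk2450
  · exact factP_blk2451
  · exact factP_blk2452
  · exact factP_blk2453
  · exact factP_blk2454
  · exact factP_blk2455
  · exact factP_blk2456
  · exact factP_blk2457
  · exact factP_blk2458
  · exact factP_blk2459
  · exact factP_blk2460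
  · exact factP_blk2461
  · exact factP_blk2462
  · exact factP_blk2463
  · exact factP_blk2464
  · exact factP_blk2465
  · exact factP_blk2466
  · exact factP_blk2467
  · exact factP_blk2468
  · exact factP_blk2469
  · exact factP_blk2470
  · exact factP_blk2471
  · exact factP_blk2472
  · exact factP_blk2473
  · exact factP_blk2474
  · exact factP_blk2475
  · exact factP_blk2476
  · exact factP_blk2477
  · exact factP_blk2478
  · exact factP_blk2479
  · exact factP_blk2480
  · exact factP_blk2481
  · exact factP_blk2482
  · exact factP_blk2483
  · exact factP_blk2484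
  · exact factP_blk2485
  · exact factP_blk2486
  · exact factP_blk2487
  · exact factP_blk2488
  · exact factP_blk2489
  · exact factP_blk2490
  · exact factP_blk2491
  · exact factP_blk2492
  · exact factP_blk2493
  · exact factP_blk2494
  · exact factP_blk2495

end Cfsg.Agent.Lib.Helper28.Fi24x306936
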