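import Cfsg.Agent.Lib.Helper28.Fi24x306936.Defs

set_option autoImplicit false
set_option linter.unusedVariables false
set_option Elab.async false

namespace Cfsg.Agent.Lib.Helper28.Fi24x306936

open Cfsg.Spor.Fi24 (Gen)
open Cfsg.Agent.Lib.Helper28.TC
open Cfsg.Agent.Lib.Helper28.TC2

theorem factP_blk2496 : allRange factP 7 (2496 * 2 ^ 7) = true := by decide +kernel
theorem factP_blk2497 : allRange factP 7 (2497 * 2 ^ 7) = true := by decide +kernel
theorem factP_blk2498 : allRange factP 7 (2498 * 2 ^ 7) = true := by decide +kernel
theorem factP_blk2499 : allRange factP 7 (2499 * 2 ^ 7) = true := by decide +kernel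
theorem factP_blk2500 : allRange factP 7 (2500 * 2 ^ 7) = true := by decide +kernel
theorem factP_blk2501 : allRange factP 7 (2501 * 2 ^ 7) = true := by decide +kernel
theorem factP_blk2502 : allRange factP 7 (2502 * 2 ^ 7) = true := by decide +kernel
theorem factP_blk2503 : allRange factP 7 (2503 * 2 ^ 7) = true := by decide +kernel
theorem factP_blk2504 : allRange factP 7 (2504 * 2 ^ 7) = true := by decide +kernel
theorem factP_blk2505 : allRange factP 7 (2505 * 2 ^ 7) = true := by decide +kernel
theorem factP_blk2506 : allRange factP 7 (2506 * 2 ^ 7) = true := by decide +kernel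
theorem factP_blk2507 : allRange factP 7 (2507 * 2 ^ 7) = true := by decide +kernel
theorem factP_blk2508 : allRange factP 7 (2508 * 2 ^ 7) = true := by decide +kernel
theorem factP_blk2509 : allRange factP 7 (2509 * 2 ^ 7) = true := by decide +kernel
theorem factP_blk2510 : allRange factP 7 (2510 * 2 ^ 7) = true := by decide +kernel
theorem factP_blk2511 : allRange factP 7 (2511 * 2 ^ 7) = true := by decide +kernel
theorem factP_blk2512 : allRange factP 7 (2512 * 2 ^ 7) = true := by decide +kernel
theorem factP_blk2513 : allRange factP 7 (2513 * 2 ^ 7) = true := by decide +kernel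
theorem factP_blk2514 : allRange factP 7 (2514 * 2 ^ 7) = true := by decide +kernel
theorem factP_blk2515 : allRange factP 7 (2515 * 2 ^ 7) = true := by decide +kernel
theorem factP_blk2516 : allRange factP 7 (2516 * 2 ^ 7) = true := by decide +kernel
theorem factP_blk2517 : allRange factP 7 (2517 * 2 ^ 7) = true := by decide +kernel
theorem factP_blk2518 : allRange factP 7 (2518 * 2 ^ 7) = true := by decide +kernel
theorem factP_blk2519 : allRange factP 7 (2519 * 2 ^ 7) = true := by decide +kernel
theorem factP_blk2520 : allRange factP 7 (2520 * 2 ^ 7) = true := by decide +kernel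
theorem factP_blk2521 : allRange factP 7 (2521 * 2 ^ 7) = true := by decide +kernel
theorem factP_blk2522 : allRange factP 7 (2522 * 2 ^ 7) = true := by decide +kernel
theorem factP_blk2523 : allRange factP 7 (2523 * 2 ^ 7) = true := by decide +kernel
theorem factP_blk2524 : allRange factP 7 (2524 * 2 ^ 7) = true := by decide +kernel
theorem factP_blk2525 : allRange factP 7 (2525 * 2 ^ 7) = true := by decide +kernel
theorem factP_blk2526 : allRange factP 7 (2526 * 2 ^ 7) = true := by decide +kernel
theorem factP_blk2527 : allRange factP 7 (2527 * 2 ^ 7) = true := by decide +kernel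
theorem factP_blk2528 : allRange factP 7 (2528 * 2 ^ 7) = true := by decide +kernel
theorem factP_blk2529 : allRange factP 7 (2529 * 2 ^ 7) = true := by decide +kernel
theorem factP_blk2530 : allRange factP 7 (2530 * 2 ^ 7) = true := by decide +kernel
theorem factP_blk2531 : allRange factP 7 (2531 * 2 ^ 7) = true := by decide +kernel
theorem factP_blk2532 : allRange factP 7 (2532 * 2 ^ 7) = true := by decide +kernel
theorem factP_blk2533 : allRange factP 7 (2533 * 2 ^ 7) = true := by decide +kernel
theorem factP_blk2534 : allRange factP 7 (2534 * 2 ^ 7) = true := by decide +kernel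
theorem factP_blk2535 : allRange factP 7 (2535 * 2 ^ 7) = true := by decide +kernel
theorem factP_blk2536 : allRange factP 7 (2536 * 2 ^ 7) = true := by decide +kernel
theorem factP_blk2537 : allRange factP 7 (2537 * 2 ^ 7) = true := by decide +kernel
theorem factP_blk2538 : allRange factP 7 (2538 * 2 ^ 7) = true := by decide +kernel
theorem factP_blk2539 : allRange factP 7 (2539 * 2 ^ 7) = true := by decide +kernel
theorem factP_blk2540 : allRange factP 7 (2540 * 2 ^ 7) = true := by decide +kernel
theorem factP_blk2541 : allRange factP 7 (2541 * 2 ^ 7) = true := by decide +kernel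
theorem factP_blk2542 : allRange factP 7 (2542 * 2 ^ 7) = true := by decide +kernel
theorem factP_blk2543 : allRange factP 7 (2543 * 2 ^ 7) = true := by decide +kernel
theorem factP_blk2544 : allRange factP 7 (2544 * 2 ^ 7) = true := by decide +kernel
theorem factP_blk2545 : allRange factP 7 (2545 * 2 ^ 7) = true := by decide +kernel
theorem factP_blk2546 : allRange factP 7 (2546 * 2 ^ 7) = true := by decide +kernel
theorem factP_blk2547 : allRange factP 7 (2547 * 2 ^ 7) = true := by decide +kernel
theorem factP_blk2548 : allRange factP 7 (2548 * 2 ^ 7) = true := by decide +kernel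
theorem factP_blk2549 : allRange factP 7 (2549 * 2 ^ 7) = true := by decide +kernel
theorem factP_blk2550 : allRange factP 7 (2550 * 2 ^ 7) = true := by decide +kernel
theorem factP_blk2551 : allRange factP 7 (2551 * 2 ^ 7) = true := by decide +kernel
theorem factP_blk2552 : allRange factP 7 (2552 * 2 ^ 7) = true := by decide +kernel
theorem factP_blk2553 : allRange factP 7 (2553 * 2 ^ 7) = true := by decide +kernel
theorem factP_blk2554 : allRange factP 7 (2554 * 2 ^ 7) = true := by decide +kernel
theorem factP_blk2555 : allRange factP 7 (2555 * 2 ^ 7) = true := by decide +kernel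
theorem factP_blk2556 : allRange factP 7 (2556 * 2 ^ 7) = true := by decide +kernel
theorem factP_blk2557 : allRange factP 7 (2557 * 2 ^ 7) = true := by decide +kernel
theorem factP_blk2558 : allRange factP 7 (2558 * 2 ^ 7) = true := by decide +kernel
theorem factP_blk2559 : allRange factP 7 (2559 * 2 ^ 7) = true := by decide +kernel
theorem factP_f39 : ∀ k, 2496 ≤ k → k < 2560 → allRange factP 7 (k * 2 ^ 7) = true := by
  intro k h1 h2
  interval_cases k
  · exact factP_blk2496
  · exact factP_blk2497
  · exact factP_blk2498
  · exact factP_blk2499
  · exact factP_blk2500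
  · exact factP_blk2501
  · exact factP_blk2502
  · exact factP_blk2503
  · exact factP_blk2504
  · exact factP_blk2505
  · exact factP_blk2506
  · exact factP_blk2507
  · exact factP_blk2508
  · exact factP_blk2509
  · exact factP_blk2510
  · exact factP_blk2511
  · exact factP_blk2512
  · exact factP_blk2513
  · exact factP_blk2514
  · exact factP_blk2515
  · exact factP_blk2516
  · exact factP_blk2517
  · exact factP_blk2518
  · exact factP_blk2519
  · exact factP_blk2520
  · exact factP_blk2521
  · exact factP_blk2522
  · exact factP_blk2523
  · exact factP_blk2524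
  · exact factP_blk2525
  · exact factP_blk2526
  · exact factP_blk2527
  · exact factP_blk2528
  · exact factP_blk2529
  · exact factP_blk2530
  · exact factP_blk2531
  · exact factP_blk2532
  · exact factP_blk2533
  · exact factP_blk2534
  · exact factP_blk2535
  · exact factP_blk2536
  · exact factP_blk2537
  · exact factP_blk2538
  · exact factP_blk2539
  · exact factP_blk2540
  · exact factP_blk2541
  · exact factP_blk2542
  · exact factP_blk2543
  · exact factP_blk2544
  · exact factP_blk2545
  · exact factP_blk2546
  · exact factP_blk2547
  · exact factP_blk2548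
  · exact factP_blk2549
  · exact factP_blk2550
  · exact factP_blk2551
  · exact factP_blk2552
  · exact factP_blk2553
  · exact factP_blk2554
  · exact factP_blk2555
  · exact factP_blk2556
  · exact factP_blk2557
  · exact factP_blk2558
  · exact factP_blk2559

end Cfsg.Agent.Lib.Helper28.Fi24x306936
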