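import Cfsg.Agent.Lib.Helper28.Fi24x306936.Defs

set_option autoImplicit false
set_option linter.unusedVariables false
set_option Elab.async false

namespace Cfsg.Agent.Lib.Helper28.Fi24x306936

open Cfsg.Spor.Fi24 (Gen)
open Cfsg.Agent.Lib.Helper28.TC
open Cfsg.Agent.Lib.Helper28.TC2

theorem factP_blk2560 : allRange factP 7 (2560 * 2 ^ 7) = true := by decide +kernel
theorem factP_blk2561 : allRange factP 7 (2561 * 2 ^ 7) = true := by decide +kernel
theorem factP_blk2562 : allRange factP 7 (2562 * 2 ^ 7) = true := by decide +kernel
theorem factP_blk2563 : allRange factP 7 (2563 * 2 ^ 7) = true := by decide +kernel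
theorem factP_blk2564 : allRange factP 7 (2564 * 2 ^ 7) = true := by decide +kernel
theorem factP_blk2565 : allRange factP 7 (2565 * 2 ^ 7) = true := by decide +kernel
theorem factP_blk2566 : allRange factP 7 (2566 * 2 ^ 7) = true := by decide +kernel
theorem factP_blk2567 : allRange factP 7 (2567 * 2 ^ 7) = true := by decide +kernel
theorem factP_blk2568 : allRange factP 7 (2568 * 2 ^ 7) = true := by decide +kernel
theorem factP_blk2569 : allRange factP 7 (2569 * 2 ^ 7) = true := by decide +kernel
theorem factP_blk2570 : allRange factP 7 (2570 * 2 ^ 7) = true := by decide +kernel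
theorem factP_blk2571 : allRange factP 7 (2571 * 2 ^ 7) = true := by decide +kernel
theorem factP_blk2572 : allRange factP 7 (2572 * 2 ^ 7) = true := by decide +kernel
theorem factP_blk2573 : allRange factP 7 (2573 * 2 ^ 7) = true := by decide +kernel
theorem factP_blk2574 : allRange factP 7 (2574 * 2 ^ 7) = true := by decide +kernel
theorem factP_blk2575 : allRange factP 7 (2575 * 2 ^ 7) = true := by decide +kernel
theorem factP_blk2576 : allRange factP 7 (2576 * 2 ^ 7) = true := by decide +kernel
theorem factP_blk2577 : allRange factP 7 (2577 * 2 ^ 7) = true := by decide +kernel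
theorem factP_blk2578 : allRange factP 7 (2578 * 2 ^ 7) = true := by decide +kernel
theorem factP_blk2579 : allRange factP 7 (2579 * 2 ^ 7) = true := by decide +kernel
theorem factP_blk2580 : allRange factP 7 (2580 * 2 ^ 7) = true := by decide +kernel
theorem factP_blk2581 : allRange factP 7 (2581 * 2 ^ 7) = true := by decide +kernel
theorem factP_blk2582 : allRange factP 7 (2582 * 2 ^ 7) = true := by decide +kernel
theorem factP_blk2583 : allRange factP 7 (2583 * 2 ^ 7) = true := by decide +kernel
theorem factP_blk2584 : allRange factP 7 (2584 * 2 ^ 7) = true := by decide +kernel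
theorem factP_blk2585 : allRange factP 7 (2585 * 2 ^ 7) = true := by decide +kernel
theorem factP_blk2586 : allRange factP 7 (2586 * 2 ^ 7) = true := by decide +kernel
theorem factP_blk2587 : allRange factP 7 (2587 * 2 ^ 7) = true := by decide +kernel
theorem factP_blk2588 : allRange factP 7 (2588 * 2 ^ 7) = true := by decide +kernel
theorem factP_blk2589 : allRange factP 7 (2589 * 2 ^ 7) = true := by decide +kernel
theorem factP_blk2590 : allRange factP 7 (2590 * 2 ^ 7) = true := by decide +kernel
theorem factP_blk2591 : allRange factP 7 (2591 * 2 ^ 7) = true := by decide +kernel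
theorem factP_blk2592 : allRange factP 7 (2592 * 2 ^ 7) = true := by decide +kernel
theorem factP_blk2593 : allRange factP 7 (2593 * 2 ^ 7) = true := by decide +kernel
theorem factP_blk2594 : allRange factP 7 (2594 * 2 ^ 7) = true := by decide +kernel
theorem factP_blk2595 : allRange factP 7 (2595 * 2 ^ 7) = true := by decide +kernel
theorem factP_blk2596 : allRange factP 7 (2596 * 2 ^ 7) = true := by decide +kernel
theorem factP_blk2597 : allRange factP 7 (2597 * 2 ^ 7) = true := by decide +kernel
theorem factP_blk2598 : allRange factP 7 (2598 * 2 ^ 7) = true := by decide +kernel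
theorem factP_blk2599 : allRange factP 7 (2599 * 2 ^ 7) = true := by decide +kernel
theorem factP_blk2600 : allRange factP 7 (2600 * 2 ^ 7) = true := by decide +kernel
theorem factP_blk2601 : allRange factP 7 (2601 * 2 ^ 7) = true := by decide +kernel
theorem factP_blk2602 : allRange factP 7 (2602 * 2 ^ 7) = true := by decide +kernel
theorem factP_blk2603 : allRange factP 7 (2603 * 2 ^ 7) = true := by decide +kernel
theorem factP_blk2604 : allRange factP 7 (2604 * 2 ^ 7) = true := by decide +kernel
theorem factP_blk2605 : allRange factP 7 (2605 * 2 ^ 7) = true := by decide +kernel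
theorem factP_blk2606 : allRange factP 7 (2606 * 2 ^ 7) = true := by decide +kernel
theorem factP_blk2607 : allRange factP 7 (2607 * 2 ^ 7) = true := by decide +kernel
theorem factP_blk2608 : allRange factP 7 (2608 * 2 ^ 7) = true := by decide +kernel
theorem factP_blk2609 : allRange factP 7 (2609 * 2 ^ 7) = true := by decide +kernel
theorem factP_blk2610 : allRange factP 7 (2610 * 2 ^ 7) = true := by decide +kernel
theorem factP_blk2611 : allRange factP 7 (2611 * 2 ^ 7) = true := by decide +kernel
theorem factP_blk2612 : allRange factP 7 (2612 * 2 ^ 7) = true := by decide +kernel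
theorem factP_blk2613 : allRange factP 7 (2613 * 2 ^ 7) = true := by decide +kernel
theorem factP_blk2614 : allRange factP 7 (2614 * 2 ^ 7) = true := by decide +kernel
theorem factP_blk2615 : allRange factP 7 (2615 * 2 ^ 7) = true := by decide +kernel
theorem factP_blk2616 : allRange factP 7 (2616 * 2 ^ 7) = true := by decide +kernel
theorem factP_blk2617 : allRange factP 7 (2617 * 2 ^ 7) = true := by decide +kernel
theorem factP_blk2618 : allRange factP 7 (2618 * 2 ^ 7) = true := by decide +kernel
theorem factP_blk2619 : allRange factP 7 (2619 * 2 ^ 7) = true := by decide +kernel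
theorem factP_blk2620 : allRange factP 7 (2620 * 2 ^ 7) = true := by decide +kernel
theorem factP_blk2621 : allRange factP 7 (2621 * 2 ^ 7) = true := by decide +kernel
theorem factP_blk2622 : allRange factP 7 (2622 * 2 ^ 7) = true := by decide +kernel
theorem factP_blk2623 : allRange factP 7 (2623 * 2 ^ 7) = true := by decide +kernel
theorem factP_f40 : ∀ k, 2560 ≤ k → k < 2624 → allRange factP 7 (k * 2 ^ 7) = true := by
  intro k h1 h2
  interval_cases k
  · exact factP_blk2560
  · exact factP_blk2561
  · exact factP_blk2562
  · exact factP_blk2563
  · exact factP_blk2564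
  · exact factP_blk2565
  · exact factP_blk2566
  · exact factP_blk2567
  · exact factP_blk2568
  · exact factP_blk2569
  · exact factP_blk2570
  · exact factP_blk2571
  · exact factP_blk2572
  · exact factP_blk2573
  · exact factP_blk2574
  · exact factP_blk2575
  · exact factP_blk2576
  · exact factP_blk2577
  · exact factP_blk2578
  · exact factP_blk2579
  · exact factP_blk2580
  · exact factP_blk2581
  · exact factP_blk2582
  · exact factP_blk2583
  · exact factP_blk2584
  · exact factP_blk2585
  · exact factP_blk2586
  · exact factP_blk2587
  · exact factP_blk2588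
  · exact factP_blk2589
  · exact factP_blk2590
  · exact factP_blk2591
  · exact factP_blk2592
  · exact factP_blk2593
  · exact factP_blk2594
  · exact factP_blk2595
  · exact factP_blk2596
  · exact factP_blk2597
  · exact factP_blk2598
  · exact factP_blk2599
  · exact factP_blk2600
  · exact factP_blk2601
  · exact factP_blk2602
  · exact factP_blk2603
  · exact factP_blk2604
  · exact factP_blk2605
  · exact factP_blk2606
  · exact factP_blk2607
  · exact factP_blk2608
  · exact factP_blk2609
  · exact factP_blk2610
  · exact factP_blk2611
  · exact factP_blk2612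
  · exact factP_blk2613
  · exact factP_blk2614
  · exact factP_blk2615
  · exact factP_blk2616
  · exact factP_blk2617
  · exact factP_blk2618
  · exact factP_blk2619
  · exact factP_blk2620
  · exact factP_blk2621
  · exact factP_blk2622
  · exact factP_blk2623

end Cfsg.Agent.Lib.Helper28.Fi24x306936
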