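import Cfsg.Agent.Lib.Helper28.Fi24x306936.Defs

set_option autoImplicit false
set_option linter.unusedVariables false
set_option Elab.async false

namespace Cfsg.Agent.Lib.Helper28.Fi24x306936

open Cfsg.Spor.Fi24 (Gen)
open Cfsg.Agent.Lib.Helper28.TC
open Cfsg.Agent.Lib.Helper28.TC2

theorem factP_blk2624 : allRange factP 7 (2624 * 2 ^ 7) = true := by decide +kernel
theorem factP_blk2625 : allRange factP 7 (2625 * 2 ^ 7) = true := by decide +kernel
theorem factP_blk2626 : allRange factP 7 (2626 * 2 ^ 7) = true := by decide +kernel
theorem factP_blk2627 : allRange factP 7 (2627 * 2 ^ 7) = true := by decide +kernel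
theorem factP_blk2628 : allRange factP 7 (2628 * 2 ^ 7) = true := by decide +kernel
theorem factP_blk2629 : allRange factP 7 (2629 * 2 ^ 7) = true := by decide +kernel
theorem factP_blk2630 : allRange factP 7 (2630 * 2 ^ 7) = true := by decide +kernel
theorem factP_blk2631 : allRange factP 7 (2631 * 2 ^ 7) = true := by decide +kernel
theorem factP_blk2632 : allRange factP 7 (2632 * 2 ^ 7) = true := by decide +kernel
theorem factP_blk2633 : allRange factP 7 (2633 * 2 ^ 7) = true := by decide +kernel
theorem factP_blk2634 : allRange factP 7 (2634 * 2 ^ 7) = true := by decide +kernel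
theorem factP_blk2635 : allRange factP 7 (2635 * 2 ^ 7) = true := by decide +kernel
theorem factP_blk2636 : allRange factP 7 (2636 * 2 ^ 7) = true := by decide +kernel
theorem factP_blk2637 : allRange factP 7 (2637 * 2 ^ 7) = true := by decide +kernel
theorem factP_blk2638 : allRange factP 7 (2638 * 2 ^ 7) = true := by decide +kernel
theorem factP_blk2639 : allRange factP 7 (2639 * 2 ^ 7) = true := by decide +kernel
theorem factP_blk2640 : allRange factP 7 (2640 * 2 ^ 7) = true := by decide +kernel
theorem factP_blk2641 : allRange factP 7 (2641 * 2 ^ 7) = true := by decide +kernel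
theorem factP_blk2642 : allRange factP 7 (2642 * 2 ^ 7) = true := by decide +kernel
theorem factP_blk2643 : allRange factP 7 (2643 * 2 ^ 7) = true := by decide +kernel
theorem factP_blk2644 : allRange factP 7 (2644 * 2 ^ 7) = true := by decide +kernel
theorem factP_blk2645 : allRange factP 7 (2645 * 2 ^ 7) = true := by decide +kernel
theorem factP_blk2646 : allRange factP 7 (2646 * 2 ^ 7) = true := by decide +kernel
theorem factP_blk2647 : allRange factP 7 (2647 * 2 ^ 7) = true := by decide +kernel
theorem factP_blk2648 : allRange factP 7 (2648 * 2 ^ 7) = true := by decide +kernel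
theorem factP_blk2649 : allRange factP 7 (2649 * 2 ^ 7) = true := by decide +kernel
theorem factP_blk2650 : allRange factP 7 (2650 * 2 ^ 7) = true := by decide +kernel
theorem factP_blk2651 : allRange factP 7 (2651 * 2 ^ 7) = true := by decide +kernel
theorem factP_blk2652 : allRange factP 7 (2652 * 2 ^ 7) = true := by decide +kernel
theorem factP_blk2653 : allRange factP 7 (2653 * 2 ^ 7) = true := by decide +kernel
theorem factP_blk2654 : allRange factP 7 (2654 * 2 ^ 7) = true := by decide +kernel
theorem factP_blk2655 : allRange factP 7 (2655 * 2 ^ 7) = true := by decide +kernel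
theorem factP_blk2656 : allRange factP 7 (2656 * 2 ^ 7) = true := by decide +kernel
theorem factP_blk2657 : allRange factP 7 (2657 * 2 ^ 7) = true := by decide +kernel
theorem factP_blk2658 : allRange factP 7 (2658 * 2 ^ 7) = true := by decide +kernel
theorem factP_blk2659 : allRange factP 7 (2659 * 2 ^ 7) = true := by decide +kernel
theorem factP_blk2660 : allRange factP 7 (2660 * 2 ^ 7) = true := by decide +kernel
theorem factP_blk2661 : allRange factP 7 (2661 * 2 ^ 7) = true := by decide +kernel
theorem factP_blk2662 : allRange factP 7 (2662 * 2 ^ 7) = true := by decide +kernel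
theorem factP_blk2663 : allRange factP 7 (2663 * 2 ^ 7) = true := by decide +kernel
theorem factP_blk2664 : allRange factP 7 (2664 * 2 ^ 7) = true := by decide +kernel
theorem factP_blk2665 : allRange factP 7 (2665 * 2 ^ 7) = true := by decide +kernel
theorem factP_blk2666 : allRange factP 7 (2666 * 2 ^ 7) = true := by decide +kernel
theorem factP_blk2667 : allRange factP 7 (2667 * 2 ^ 7) = true := by decide +kernel
theorem factP_blk2668 : allRange factP 7 (2668 * 2 ^ 7) = true := by decide +kernel
theorem factP_blk2669 : allRange factP 7 (2669 * 2 ^ 7) = true := by decide +kernel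
theorem factP_blk2670 : allRange factP 7 (2670 * 2 ^ 7) = true := by decide +kernel
theorem factP_blk2671 : allRange factP 7 (2671 * 2 ^ 7) = true := by decide +kernel
theorem factP_blk2672 : allRange factP 7 (2672 * 2 ^ 7) = true := by decide +kernel
theorem factP_blk2673 : allRange factP 7 (2673 * 2 ^ 7) = true := by decide +kernel
theorem factP_blk2674 : allRange factP 7 (2674 * 2 ^ 7) = true := by decide +kernel
theorem factP_blk2675 : allRange factP 7 (2675 * 2 ^ 7) = true := by decide +kernel
theorem factP_blk2676 : allRange factP 7 (2676 * 2 ^ 7) = true := by decide +kernel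
theorem factP_blk2677 : allRange factP 7 (2677 * 2 ^ 7) = true := by decide +kernel
theorem factP_blk2678 : allRange factP 7 (2678 * 2 ^ 7) = true := by decide +kernel
theorem factP_blk2679 : allRange factP 7 (2679 * 2 ^ 7) = true := by decide +kernel
theorem factP_blk2680 : allRange factP 7 (2680 * 2 ^ 7) = true := by decide +kernel
theorem factP_blk2681 : allRange factP 7 (2681 * 2 ^ 7) = true := by decide +kernel
theorem factP_blk2682 : allRange factP 7 (2682 * 2 ^ 7) = true := by decide +kernel
theorem factP_blk2683 : allRange factP 7 (2683 * 2 ^ 7) = true := by decide +kernel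
theorem factP_blk2684 : allRange factP 7 (2684 * 2 ^ 7) = true := by decide +kernel
theorem factP_blk2685 : allRange factP 7 (2685 * 2 ^ 7) = true := by decide +kernel
theorem factP_blk2686 : allRange factP 7 (2686 * 2 ^ 7) = true := by decide +kernel
theorem factP_blk2687 : allRange factP 7 (2687 * 2 ^ 7) = true := by decide +kernel
theorem factP_f41 : ∀ k, 2624 ≤ k → k < 2688 → allRange factP 7 (k * 2 ^ 7) = true := by
  intro k h1 h2
  interval_cases k
  · exact factP_blk2624
  · exact factP_blk2625
  · exact factP_blk2626
  · exact factP_blk2627
  · exact factP_blk2628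
  · exact factP_blk2629
  · exact factP_blk2630
  · exact factP_blk2631
  · exact factP_blk2632
  · exact factP_blk2633
  · exact factP_blk2634
  · exact factP_blk2635
  · exact factP_blk2636
  · exact factP_blk2637
  · exact factP_blk2638
  · exact factP_blk2639
  · exact factP_blk2640
  · exact factP_blk2641
  · exact factP_blk2642
  · exact factP_blk2643
  · exact factP_blk2644
  · exact factP_blk2645
  · exact factP_blk2646
  · exact factP_blk2647
  · exact factP_blk2648
  · exact factP_blk2649
  · exact factP_blk2650
  · exact factP_blk2651
  · exact factP_blk2652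
  · exact factP_blk2653
  · exact factP_blk2654
  · exact factP_blk2655
  · exact factP_blk2656
  · exact factP_blk2657
  · exact factP_blk2658
  · exact factP_blk2659
  · exact factP_blk2660
  · exact factP_blk2661
  · exact factP_blk2662
  · exact factP_blk2663
  · exact factP_blk2664
  · exact factP_blk2665
  · exact factP_blk2666
  · exact factP_blk2667
  · exact factP_blk2668
  · exact factP_blk2669
  · exact factP_blk2670
  · exact factP_blk2671
  · exact factP_blk2672
  · exact factP_blk2673
  · exact factP_blk2674
  · exact factP_blk2675
  · exact factP_blk2676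
  · exact factP_blk2677
  · exact factP_blk2678
  · exact factP_blk2679
  · exact factP_blk2680
  · exact factP_blk2681
  · exact factP_blk2682
  · exact factP_blk2683
  · exact factP_blk2684
  · exact factP_blk2685
  · exact factP_blk2686
  · exact factP_blk2687

end Cfsg.Agent.Lib.Helper28.Fi24x306936
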