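import Cfsg.Agent.Lib.Helper28.Fi24x306936.Defs

set_option autoImplicit false
set_option linter.unusedVariables false
set_option Elab.async false

namespace Cfsg.Agent.Lib.Helper28.Fi24x306936

open Cfsg.Spor.Fi24 (Gen)
open Cfsg.Agent.Lib.Helper28.TC
open Cfsg.Agent.Lib.Helper28.TC2

theorem factP_blk2688 : allRange factP 7 (2688 * 2 ^ 7) = true := by decide +kernel
theorem factP_blk2689 : allRange factP 7 (2689 * 2 ^ 7) = true := by decide +kernel
theorem factP_blk2690 : allRange factP 7 (2690 * 2 ^ 7) = true := by decide +kernel
theorem factP_blk2691 : allRange factP 7 (2691 * 2 ^ 7) = true := by decide +kernel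
theorem factP_blk2692 : allRange factP 7 (2692 * 2 ^ 7) = true := by decide +kernel
theorem factP_blk2693 : allRange factP 7 (2693 * 2 ^ 7) = true := by decide +kernel
theorem factP_blk2694 : allRange factP 7 (2694 * 2 ^ 7) = true := by decide +kernel
theorem factP_blk2695 : allRange factP 7 (2695 * 2 ^ 7) = true := by decide +kernel
theorem factP_blk2696 : allRange factP 7 (2696 * 2 ^ 7) = true := by decide +kernel
theorem factP_blk2697 : allRange factP 7 (2697 * 2 ^ 7) = true := by decide +kernel
theorem factP_blk2698 : allRange factP 7 (2698 * 2 ^ 7) = true := by decide +kernel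
theorem factP_blk2699 : allRange factP 7 (2699 * 2 ^ 7) = true := by decide +kernel
theorem factP_blk2700 : allRange factP 7 (2700 * 2 ^ 7) = true := by decide +kernel
theorem factP_blk2701 : allRange factP 7 (2701 * 2 ^ 7) = true := by decide +kernel
theorem factP_blk2702 : allRange factP 7 (2702 * 2 ^ 7) = true := by decide +kernel
theorem factP_blk2703 : allRange factP 7 (2703 * 2 ^ 7) = true := by decide +kernel
theorem factP_blk2704 : allRange factP 7 (2704 * 2 ^ 7) = true := by decide +kernel
theorem factP_blk2705 : allRange factP 7 (2705 * 2 ^ 7) = true := by decide +kernel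
theorem factP_blk2706 : allRange factP 7 (2706 * 2 ^ 7) = true := by decide +kernel
theorem factP_blk2707 : allRange factP 7 (2707 * 2 ^ 7) = true := by decide +kernel
theorem factP_blk2708 : allRange factP 7 (2708 * 2 ^ 7) = true := by decide +kernel
theorem factP_blk2709 : allRange factP 7 (2709 * 2 ^ 7) = true := by decide +kernel
theorem factP_blk2710 : allRange factP 7 (2710 * 2 ^ 7) = true := by decide +kernel
theorem factP_blk2711 : allRange factP 7 (2711 * 2 ^ 7) = true := by decide +kernel
theorem factP_blk2712 : allRange factP 7 (2712 * 2 ^ 7) = true := by decide +kernel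
theorem factP_blk2713 : allRange factP 7 (2713 * 2 ^ 7) = true := by decide +kernel
theorem factP_blk2714 : allRange factP 7 (2714 * 2 ^ 7) = true := by decide +kernel
theorem factP_blk2715 : allRange factP 7 (2715 * 2 ^ 7) = true := by decide +kernel
theorem factP_blk2716 : allRange factP 7 (2716 * 2 ^ 7) = true := by decide +kernel
theorem factP_blk2717 : allRange factP 7 (2717 * 2 ^ 7) = true := by decide +kernel
theorem factP_blk2718 : allRange factP 7 (2718 * 2 ^ 7) = true := by decide +kernel
theorem factP_blk2719 : allRange factP 7 (2719 * 2 ^ 7) = true := by decide +kernel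
theorem factP_blk2720 : allRange factP 7 (2720 * 2 ^ 7) = true := by decide +kernel
theorem factP_blk2721 : allRange factP 7 (2721 * 2 ^ 7) = true := by decide +kernel
theorem factP_blk2722 : allRange factP 7 (2722 * 2 ^ 7) = true := by decide +kernel
theorem factP_blk2723 : allRange factP 7 (2723 * 2 ^ 7) = true := by decide +kernel
theorem factP_blk2724 : allRange factP 7 (2724 * 2 ^ 7) = true := by decide +kernel
theorem factP_blk2725 : allRange factP 7 (2725 * 2 ^ 7) = true := by decide +kernel
theorem factP_blk2726 : allRange factP 7 (2726 * 2 ^ 7) = true := by decide +kernel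
theorem factP_blk2727 : allRange factP 7 (2727 * 2 ^ 7) = true := by decide +kernel
theorem factP_blk2728 : allRange factP 7 (2728 * 2 ^ 7) = true := by decide +kernel
theorem factP_blk2729 : allRange factP 7 (2729 * 2 ^ 7) = true := by decide +kernel
theorem factP_blk2730 : allRange factP 7 (2730 * 2 ^ 7) = true := by decide +kernel
theorem factP_blk2731 : allRange factP 7 (2731 * 2 ^ 7) = true := by decide +kernel
theorem factP_blk2732 : allRange factP 7 (2732 * 2 ^ 7) = true := by decide +kernel
theorem factP_blk2733 : allRange factP 7 (2733 * 2 ^ 7) = true := by decide +kernel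
theorem factP_blk2734 : allRange factP 7 (2734 * 2 ^ 7) = true := by decide +kernel
theorem factP_blk2735 : allRange factP 7 (2735 * 2 ^ 7) = true := by decide +kernel
theorem factP_f42 : ∀ k, 2688 ≤ k → k < 2736 → allRange factP 7 (k * 2 ^ 7) = true := by
  intro k h1 h2
  interval_cases k
  · exact factP_blk2688
  · exact factP_blk2689
  · exact factP_blk2690
  · exact factP_blk2691
  · exact factP_blk2692
  · exact factP_blk2693
  · exact factP_blk2694
  · exact factP_blk2695
  · exact factP_blk2696
  · exact factP_blk2697
  · exact factP_blk2698
  · exact factP_blk2699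
  · exact factP_blk2700
  · exact factP_blk2701
  · exact factP_blk2702
  · exact factP_blk2703
  · exact factP_blk2704
  · exact factP_blk2705
  · exact factP_blk2706
  · exact factP_blk2707
  · exact factP_blk2708
  · exact factP_blk2709
  · exact factP_blk2710
  · exact factP_blk2711
  · exact factP_blk2712
  · exact factP_blk2713
  · exact factP_blk2714
  · exact factP_blk2715
  · exact factP_blk2716
  · exact factP_blk2717
  · exact factP_blk2718
  · exact factP_blk2719
  · exact factP_blk2720
  · exact factP_blk2721
  · exact factP_blk2722
  · exact factP_blk2723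
  · exact factP_blk2724
  · exact factP_blk2725
  · exact factP_blk2726
  · exact factP_blk2727
  · exact factP_blk2728
  · exact factP_blk2729
  · exact factP_blk2730
  · exact factP_blk2731
  · exact factP_blk2732
  · exact factP_blk2733
  · exact factP_blk2734
  · exact factP_blk2735

end Cfsg.Agent.Lib.Helper28.Fi24x306936
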