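import Cfsg.Agent.Lib.Helper28.Fi24x306936.Defs

set_option autoImplicit false
set_option linter.unusedVariables false
set_option Elab.async false

namespace Cfsg.Agent.Lib.Helper28.Fi24x306936

open Cfsg.Spor.Fi24 (Gen)
open Cfsg.Agent.Lib.Helper28.TC
open Cfsg.Agent.Lib.Helper28.TC2

theorem factP_blk320 : allRange factP 7 (320 * 2 ^ 7) = true := by decide +kernel
theorem factP_blk321 : allRange factP 7 (321 * 2 ^ 7) = true := by decide +kernel
theorem factP_blk322 : allRange factP 7 (322 * 2 ^ 7) = true := by decide +kernel
theorem factP_blk323 : allRange factP 7 (323 * 2 ^ 7) = true := by decide +kernel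
theorem factP_blk324 : allRange factP 7 (324 * 2 ^ 7) = true := by decide +kernel
theorem factP_blk325 : allRange factP 7 (325 * 2 ^ 7) = true := by decide +kernel
theorem factP_blk326 : allRange factP 7 (326 * 2 ^ 7) = true := by decide +kernel
theorem factP_blk327 : allRange factP 7 (327 * 2 ^ 7) = true := by decide +kernel
theorem factP_blk328 : allRange factP 7 (328 * 2 ^ 7) = true := by decide +kernel
theorem factP_blk329 : allRange factP 7 (329 * 2 ^ 7) = true := by decide +kernel
theorem factP_blk330 : allRange factP 7 (330 * 2 ^ 7) = true := by decide +kernel
theorem factP_blk331 : allRange factP 7 (331 * 2 ^ 7) = true := by decide +kernel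
theorem factP_blk332 : allRange factP 7 (332 * 2 ^ 7) = true := by decide +kernel
theorem factP_blk333 : allRange factP 7 (333 * 2 ^ 7) = true := by decide +kernel
theorem factP_blk334 : allRange factP 7 (334 * 2 ^ 7) = true := by decide +kernel
theorem factP_blk335 : allRange factP 7 (335 * 2 ^ 7) = true := by decide +kernel
theorem factP_blk336 : allRange factP 7 (336 * 2 ^ 7) = true := by decide +kernel
theorem factP_blk337 : allRange factP 7 (337 * 2 ^ 7) = true := by decide +kernel
theorem factP_blk338 : allRange factP 7 (338 * 2 ^ 7) = true := by decide +kernel
theorem factP_blk339 : allRange factP 7 (339 * 2 ^ 7) = true := by decide +kernel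
theorem factP_blk340 : allRange factP 7 (340 * 2 ^ 7) = true := by decide +kernel
theorem factP_blk341 : allRange factP 7 (341 * 2 ^ 7) = true := by decide +kernel
theorem factP_blk342 : allRange factP 7 (342 * 2 ^ 7) = true := by decide +kernel
theorem factP_blk343 : allRange factP 7 (343 * 2 ^ 7) = true := by decide +kernel
theorem factP_blk344 : allRange factP 7 (344 * 2 ^ 7) = true := by decide +kernel
theorem factP_blk345 : allRange factP 7 (345 * 2 ^ 7) = true := by decide +kernel
theorem factP_blk346 : allRange factP 7 (346 * 2 ^ 7) = true := by decide +kernel
theorem factP_blk347 : allRange factP 7 (347 * 2 ^ 7) = true := by decide +kernel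
theorem factP_blk348 : allRange factP 7 (348 * 2 ^ 7) = true := by decide +kernel
theorem factP_blk349 : allRange factP 7 (349 * 2 ^ 7) = true := by decide +kernel
theorem factP_blk350 : allRange factP 7 (350 * 2 ^ 7) = true := by decide +kernel
theorem factP_blk351 : allRange factP 7 (351 * 2 ^ 7) = true := by decide +kernel
theorem factP_blk352 : allRange factP 7 (352 * 2 ^ 7) = true := by decide +kernel
theorem factP_blk353 : allRange factP 7 (353 * 2 ^ 7) = true := by decide +kernel
theorem factP_blk354 : allRange factP 7 (354 * 2 ^ 7) = true := by decide +kernel
theorem factP_blk355 : allRange factP 7 (355 * 2 ^ 7) = true := by decide +kernel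
theorem factP_blk356 : allRange factP 7 (356 * 2 ^ 7) = true := by decide +kernel
theorem factP_blk357 : allRange factP 7 (357 * 2 ^ 7) = true := by decide +kernel
theorem factP_blk358 : allRange factP 7 (358 * 2 ^ 7) = true := by decide +kernel
theorem factP_blk359 : allRange factP 7 (359 * 2 ^ 7) = true := by decide +kernel
theorem factP_blk360 : allRange factP 7 (360 * 2 ^ 7) = true := by decide +kernel
theorem factP_blk361 : allRange factP 7 (361 * 2 ^ 7) = true := by decide +kernel
theorem factP_blk362 : allRange factP 7 (362 * 2 ^ 7) = true := by decide +kernel
theorem factP_blk363 : allRange factP 7 (363 * 2 ^ 7) = true := by decide +kernel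
theorem factP_blk364 : allRange factP 7 (364 * 2 ^ 7) = true := by decide +kernel
theorem factP_blk365 : allRange factP 7 (365 * 2 ^ 7) = true := by decide +kernel
theorem factP_blk366 : allRange factP 7 (366 * 2 ^ 7) = true := by decide +kernel
theorem factP_blk367 : allRange factP 7 (367 * 2 ^ 7) = true := by decide +kernel
theorem factP_blk368 : allRange factP 7 (368 * 2 ^ 7) = true := by decide +kernel
theorem factP_blk369 : allRange factP 7 (369 * 2 ^ 7) = true := by decide +kernel
theorem factP_blk370 : allRange factP 7 (370 * 2 ^ 7) = true := by decide +kernel
theorem factP_blk371 : allRange factP 7 (371 * 2 ^ 7) = true := by decide +kernel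
theorem factP_blk372 : allRange factP 7 (372 * 2 ^ 7) = true := by decide +kernel
theorem factP_blk373 : allRange factP 7 (373 * 2 ^ 7) = true := by decide +kernel
theorem factP_blk374 : allRange factP 7 (374 * 2 ^ 7) = true := by decide +kernel
theorem factP_blk375 : allRange factP 7 (375 * 2 ^ 7) = true := by decide +kernel
theorem factP_blk376 : allRange factP 7 (376 * 2 ^ 7) = true := by decide +kernel
theorem factP_blk377 : allRange factP 7 (377 * 2 ^ 7) = true := by decide +kernel
theorem factP_blk378 : allRange factP 7 (378 * 2 ^ 7) = true := by decide +kernel
theorem factP_blk379 : allRange factP 7 (379 * 2 ^ 7) = true := by decide +kernel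
theorem factP_blk380 : allRange factP 7 (380 * 2 ^ 7) = true := by decide +kernel
theorem factP_blk381 : allRange factP 7 (381 * 2 ^ 7) = true := by decide +kernel
theorem factP_blk382 : allRange factP 7 (382 * 2 ^ 7) = true := by decide +kernel
theorem factP_blk383 : allRange factP 7 (383 * 2 ^ 7) = true := by decide +kernel
theorem factP_f5 : ∀ k, 320 ≤ k → k < 384 → allRange factP 7 (k * 2 ^ 7) = true := by
  intro k h1 h2
  interval_cases k
  · exact factP_blk320
  · exact factP_blk321
  · exact factP_blk322
  · exact factP_blk323
  · exact factP_blk324
  · exact factP_blk325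
  · exact factP_blk326
  · exact factP_blk327
  · exact factP_blk328
  · exact factP_blk329
  · exact factP_blk330
  · exact factP_blk331
  · exact factP_blk332
  · exact factP_blk333
  · exact factP_blk334
  · exact factP_blk335
  · exact factP_blk336
  · exact factP_blk337
  · exact factP_blk338
  · exact factP_blk339
  · exact factP_blk340
  · exact factP_blk341
  · exact factP_blk342
  · exact factP_blk343
  · exact factP_blk344
  · exact factP_blk345
  · exact factP_blk346
  · exact factP_blk347
  · exact factP_blk348
  · exact factP_blk349
  · exact factP_blk350
  · exact factP_blk351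
  · exact factP_blk352
  · exact factP_blk353
  · exact factP_blk354
  · exact factP_blk355
  · exact factP_blk356
  · exact factP_blk357
  · exact factP_blk358
  · exact factP_blk359
  · exact factP_blk360
  · exact factP_blk361
  · exact factP_blk362
  · exact factP_blk363
  · exact factP_blk364
  · exact factP_blk365
  · exact factP_blk366
  · exact factP_blk367
  · exact factP_blk368
  · exact factP_blk369
  · exact factP_blk370
  · exact factP_blk371
  · exact factP_blk372
  · exact factP_blk373
  · exact factP_blk374
  · exact factP_blk375
  · exact factP_blk376
  · exact factP_blk377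
  · exact factP_blk378
  · exact factP_blk379
  · exact factP_blk380
  · exact factP_blk381
  · exact factP_blk382
  · exact factP_blk383

end Cfsg.Agent.Lib.Helper28.Fi24x306936
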