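import Cfsg.Agent.Lib.Helper28.Fi24x306936.Defs

set_option autoImplicit false
set_option linter.unusedVariables false
set_option Elab.async false

namespace Cfsg.Agent.Lib.Helper28.Fi24x306936

open Cfsg.Spor.Fi24 (Gen)
open Cfsg.Agent.Lib.Helper28.TC
open Cfsg.Agent.Lib.Helper28.TC2

theorem factP_blk448 : allRange factP 7 (448 * 2 ^ 7) = true := by decide +kernel
theorem factP_blk449 : allRange factP 7 (449 * 2 ^ 7) = true := by decide +kernel
theorem factP_blk450 : allRange factP 7 (450 * 2 ^ 7) = true := by decide +kernel
theorem factP_blk451 : allRange factP 7 (451 * 2 ^ 7) = true := by decide +kernel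
theorem factP_blk452 : allRange factP 7 (452 * 2 ^ 7) = true := by decide +kernel
theorem factP_blk453 : allRange factP 7 (453 * 2 ^ 7) = true := by decide +kernel
theorem factP_blk454 : allRange factP 7 (454 * 2 ^ 7) = true := by decide +kernel
theorem factP_blk455 : allRange factP 7 (455 * 2 ^ 7) = true := by decide +kernel
theorem factP_blk456 : allRange factP 7 (456 * 2 ^ 7) = true := by decide +kernel
theorem factP_blk457 : allRange factP 7 (457 * 2 ^ 7) = true := by decide +kernel
theorem factP_blk458 : allRange factP 7 (458 * 2 ^ 7) = true := by decide +kernel
theorem factP_blk459 : allRange factP 7 (459 * 2 ^ 7) = true := by decide +kernel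
theorem factP_blk460 : allRange factP 7 (460 * 2 ^ 7) = true := by decide +kernel
theorem factP_blk461 : allRange factP 7 (461 * 2 ^ 7) = true := by decide +kernel
theorem factP_blk462 : allRange factP 7 (462 * 2 ^ 7) = true := by decide +kernel
theorem factP_blk463 : allRange factP 7 (463 * 2 ^ 7) = true := by decide +kernel
theorem factP_blk464 : allRange factP 7 (464 * 2 ^ 7) = true := by decide +kernel
theorem factP_blk465 : allRange factP 7 (465 * 2 ^ 7) = true := by decide +kernel
theorem factP_blk466 : allRange factP 7 (466 * 2 ^ 7) = true := by decide +kernel
theorem factP_blk467 : allRange factP 7 (467 * 2 ^ 7) = true := by decide +kernel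
theorem factP_blk468 : allRange factP 7 (468 * 2 ^ 7) = true := by decide +kernel
theorem factP_blk469 : allRange factP 7 (469 * 2 ^ 7) = true := by decide +kernel
theorem factP_blk470 : allRange factP 7 (470 * 2 ^ 7) = true := by decide +kernel
theorem factP_blk471 : allRange factP 7 (471 * 2 ^ 7) = true := by decide +kernel
theorem factP_blk472 : allRange factP 7 (472 * 2 ^ 7) = true := by decide +kernel
theorem factP_blk473 : allRange factP 7 (473 * 2 ^ 7) = true := by decide +kernel
theorem factP_blk474 : allRange factP 7 (474 * 2 ^ 7) = true := by decide +kernel
theorem factP_blk475 : allRange factP 7 (475 * 2 ^ 7) = true := by decide +kernel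
theorem factP_blk476 : allRange factP 7 (476 * 2 ^ 7) = true := by decide +kernel
theorem factP_blk477 : allRange factP 7 (477 * 2 ^ 7) = true := by decide +kernel
theorem factP_blk478 : allRange factP 7 (478 * 2 ^ 7) = true := by decide +kernel
theorem factP_blk479 : allRange factP 7 (479 * 2 ^ 7) = true := by decide +kernel
theorem factP_blk480 : allRange factP 7 (480 * 2 ^ 7) = true := by decide +kernel
theorem factP_blk481 : allRange factP 7 (481 * 2 ^ 7) = true := by decide +kernel
theorem factP_blk482 : allRange factP 7 (482 * 2 ^ 7) = true := by decide +kernel
theorem factP_blk483 : allRange factP 7 (483 * 2 ^ 7) = true := by decide +kernel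
theorem factP_blk484 : allRange factP 7 (484 * 2 ^ 7) = true := by decide +kernel
theorem factP_blk485 : allRange factP 7 (485 * 2 ^ 7) = true := by decide +kernel
theorem factP_blk486 : allRange factP 7 (486 * 2 ^ 7) = true := by decide +kernel
theorem factP_blk487 : allRange factP 7 (487 * 2 ^ 7) = true := by decide +kernel
theorem factP_blk488 : allRange factP 7 (488 * 2 ^ 7) = true := by decide +kernel
theorem factP_blk489 : allRange factP 7 (489 * 2 ^ 7) = true := by decide +kernel
theorem factP_blk490 : allRange factP 7 (490 * 2 ^ 7) = true := by decide +kernel
theorem factP_blk491 : allRange factP 7 (491 * 2 ^ 7) = true := by decide +kernel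
theorem factP_blk492 : allRange factP 7 (492 * 2 ^ 7) = true := by decide +kernel
theorem factP_blk493 : allRange factP 7 (493 * 2 ^ 7) = true := by decide +kernel
theorem factP_blk494 : allRange factP 7 (494 * 2 ^ 7) = true := by decide +kernel
theorem factP_blk495 : allRange factP 7 (495 * 2 ^ 7) = true := by decide +kernel
theorem factP_blk496 : allRange factP 7 (496 * 2 ^ 7) = true := by decide +kernel
theorem factP_blk497 : allRange factP 7 (497 * 2 ^ 7) = true := by decide +kernel
theorem factP_blk498 : allRange factP 7 (498 * 2 ^ 7) = true := by decide +kernel
theorem factP_blk499 : allRange factP 7 (499 * 2 ^ 7) = true := by decide +kernel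
theorem factP_blk500 : allRange factP 7 (500 * 2 ^ 7) = true := by decide +kernel
theorem factP_blk501 : allRange factP 7 (501 * 2 ^ 7) = true := by decide +kernel
theorem factP_blk502 : allRange factP 7 (502 * 2 ^ 7) = true := by decide +kernel
theorem factP_blk503 : allRange factP 7 (503 * 2 ^ 7) = true := by decide +kernel
theorem factP_blk504 : allRange factP 7 (504 * 2 ^ 7) = true := by decide +kernel
theorem factP_blk505 : allRange factP 7 (505 * 2 ^ 7) = true := by decide +kernel
theorem factP_blk506 : allRange factP 7 (506 * 2 ^ 7) = true := by decide +kernel
theorem factP_blk507 : allRange factP 7 (507 * 2 ^ 7) = true := by decide +kernel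
theorem factP_blk508 : allRange factP 7 (508 * 2 ^ 7) = true := by decide +kernel
theorem factP_blk509 : allRange factP 7 (509 * 2 ^ 7) = true := by decide +kernel
theorem factP_blk510 : allRange factP 7 (510 * 2 ^ 7) = true := by decide +kernel
theorem factP_blk511 : allRange factP 7 (511 * 2 ^ 7) = true := by decide +kernel
theorem factP_f7 : ∀ k, 448 ≤ k → k < 512 → allRange factP 7 (k * 2 ^ 7) = true := by
  intro k h1 h2
  interval_cases k
  · exact factP_blk448
  · exact factP_blk449
  · exact factP_blk450
  · exact factP_blk451
  · exact factP_blk452
  · exact factP_blk453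
  · exact factP_blk454
  · exact factP_blk455
  · exact factP_blk456
  · exact factP_blk457
  · exact factP_blk458
  · exact factP_blk459
  · exact factP_blk460
  · exact factP_blk461
  · exact factP_blk462
  · exact factP_blk463
  · exact factP_blk464
  · exact factP_blk465
  · exact factP_blk466
  · exact factP_blk467
  · exact factP_blk468
  · exact factP_blk469
  · exact factP_blk470
  · exact factP_blk471
  · exact factP_blk472
  · exact factP_blk473
  · exact factP_blk474
  · exact factP_blk475
  · exact factP_blk476
  · exact factP_blk477
  · exact factP_blk478
  · exact factP_blk479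
  · exact factP_blk480
  · exact factP_blk481
  · exact factP_blk482
  · exact factP_blk483
  · exact factP_blk484
  · exact factP_blk485
  · exact factP_blk486
  · exact factP_blk487
  · exact factP_blk488
  · exact factP_blk489
  · exact factP_blk490
  · exact factP_blk491
  · exact factP_blk492
  · exact factP_blk493
  · exact factP_blk494
  · exact factP_blk495
  · exact factP_blk496
  · exact factP_blk497
  · exact factP_blk498
  · exact factP_blk499
  · exact factP_blk500
  · exact factP_blk501
  · exact factP_blk502
  · exact factP_blk503
  · exact factP_blk504
  · exact factP_blk505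
  · exact factP_blk506
  · exact factP_blk507
  · exact factP_blk508
  · exact factP_blk509
  · exact factP_blk510
  · exact factP_blk511

end Cfsg.Agent.Lib.Helper28.Fi24x306936
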