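import Cfsg.Agent.Lib.Helper28.Fi24x306936.Defs

set_option autoImplicit false
set_option linter.unusedVariables false
set_option Elab.async false

namespace Cfsg.Agent.Lib.Helper28.Fi24x306936

open Cfsg.Spor.Fi24 (Gen)
open Cfsg.Agent.Lib.Helper28.TC
open Cfsg.Agent.Lib.Helper28.TC2

theorem permP_blk960 : allRange (guard nn permP) 7 (960 * 2 ^ 7) = true := by decide +kernel
theorem permP_blk961 : allRange (guard nn permP) 7 (961 * 2 ^ 7) = true := by decide +kernel
theorem permP_blk962 : allRange (guard nn permP) 7 (962 * 2 ^ 7) = true := by decide +kernel
theorem permP_blk963 : allRange (guard nn permP) 7 (963 * 2 ^ 7) = true := by decide +kernel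
theorem permP_blk964 : allRange (guard nn permP) 7 (964 * 2 ^ 7) = true := by decide +kernel
theorem permP_blk965 : allRange (guard nn permP) 7 (965 * 2 ^ 7) = true := by decide +kernel
theorem permP_blk966 : allRange (guard nn permP) 7 (966 * 2 ^ 7) = true := by decide +kernel
theorem permP_blk967 : allRange (guard nn permP) 7 (967 * 2 ^ 7) = true := by decide +kernel
theorem permP_blk968 : allRange (guard nn permP) 7 (968 * 2 ^ 7) = true := by decide +kernel
theorem permP_blk969 : allRange (guard nn permP) 7 (969 * 2 ^ 7) = true := by decide +kernel
theorem permP_blk970 : allRange (guard nn permP) 7 (970 * 2 ^ 7) = true := by decide +kernel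
theorem permP_blk971 : allRange (guard nn permP) 7 (971 * 2 ^ 7) = true := by decide +kernel
theorem permP_blk972 : allRange (guard nn permP) 7 (972 * 2 ^ 7) = true := by decide +kernel
theorem permP_blk973 : allRange (guard nn permP) 7 (973 * 2 ^ 7) = true := by decide +kernel
theorem permP_blk974 : allRange (guard nn permP) 7 (974 * 2 ^ 7) = true := by decide +kernel
theorem permP_blk975 : allRange (guard nn permP) 7 (975 * 2 ^ 7) = true := by decide +kernel
theorem permP_blk976 : allRange (guard nn permP) 7 (976 * 2 ^ 7) = true := by decide +kernel
theorem permP_blk977 : allRange (guard nn permP) 7 (977 * 2 ^ 7) = true := by decide +kernel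
theorem permP_blk978 : allRange (guard nn permP) 7 (978 * 2 ^ 7) = true := by decide +kernel
theorem permP_blk979 : allRange (guard nn permP) 7 (979 * 2 ^ 7) = true := by decide +kernel
theorem permP_blk980 : allRange (guard nn permP) 7 (980 * 2 ^ 7) = true := by decide +kernel
theorem permP_blk981 : allRange (guard nn permP) 7 (981 * 2 ^ 7) = true := by decide +kernel
theorem permP_blk982 : allRange (guard nn permP) 7 (982 * 2 ^ 7) = true := by decide +kernel
theorem permP_blk983 : allRange (guard nn permP) 7 (983 * 2 ^ 7) = true := by decide +kernel
theorem permP_blk984 : allRange (guard nn permP) 7 (984 * 2 ^ 7) = true := by decide +kernel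
theorem permP_blk985 : allRange (guard nn permP) 7 (985 * 2 ^ 7) = true := by decide +kernel
theorem permP_blk986 : allRange (guard nn permP) 7 (986 * 2 ^ 7) = true := by decide +kernel
theorem permP_blk987 : allRange (guard nn permP) 7 (987 * 2 ^ 7) = true := by decide +kernel
theorem permP_blk988 : allRange (guard nn permP) 7 (988 * 2 ^ 7) = true := by decide +kernel
theorem permP_blk989 : allRange (guard nn permP) 7 (989 * 2 ^ 7) = true := by decide +kernel
theorem permP_blk990 : allRange (guard nn permP) 7 (990 * 2 ^ 7) = true := by decide +kernel
theorem permP_blk991 : allRange (guard nn permP) 7 (991 * 2 ^ 7) = true := by decide +kernel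
theorem permP_blk992 : allRange (guard nn permP) 7 (992 * 2 ^ 7) = true := by decide +kernel
theorem permP_blk993 : allRange (guard nn permP) 7 (993 * 2 ^ 7) = true := by decide +kernel
theorem permP_blk994 : allRange (guard nn permP) 7 (994 * 2 ^ 7) = true := by decide +kernel
theorem permP_blk995 : allRange (guard nn permP) 7 (995 * 2 ^ 7) = true := by decide +kernel
theorem permP_blk996 : allRange (guard nn permP) 7 (996 * 2 ^ 7) = true := by decide +kernel
theorem permP_blk997 : allRange (guard nn permP) 7 (997 * 2 ^ 7) = true := by decide +kernel
theorem permP_blk998 : allRange (guard nn permP) 7 (998 * 2 ^ 7) = true := by decide +kernel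
theorem permP_blk999 : allRange (guard nn permP) 7 (999 * 2 ^ 7) = true := by decide +kernel
theorem permP_blk1000 : allRange (guard nn permP) 7 (1000 * 2 ^ 7) = true := by decide +kernel
theorem permP_blk1001 : allRange (guard nn permP) 7 (1001 * 2 ^ 7) = true := by decide +kernel
theorem permP_blk1002 : allRange (guard nn permP) 7 (1002 * 2 ^ 7) = true := by decide +kernel
theorem permP_blk1003 : allRange (guard nn permP) 7 (1003 * 2 ^ 7) = true := by decide +kernel
theorem permP_blk1004 : allRange (guard nn permP) 7 (1004 * 2 ^ 7) = true := by decide +kernel
theorem permP_blk1005 : allRange (guard nn permP) 7 (1005 * 2 ^ 7) = true := by decide +kernel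
theorem permP_blk1006 : allRange (guard nn permP) 7 (1006 * 2 ^ 7) = true := by decide +kernel
theorem permP_blk1007 : allRange (guard nn permP) 7 (1007 * 2 ^ 7) = true := by decide +kernel
theorem permP_blk1008 : allRange (guard nn permP) 7 (1008 * 2 ^ 7) = true := by decide +kernel
theorem permP_blk1009 : allRange (guard nn permP) 7 (1009 * 2 ^ 7) = true := by decide +kernel
theorem permP_blk1010 : allRange (guard nn permP) 7 (1010 * 2 ^ 7) = true := by decide +kernel
theorem permP_blk1011 : allRange (guard nn permP) 7 (1011 * 2 ^ 7) = true := by decide +kernel
theorem permP_blk1012 : allRange (guard nn permP) 7 (1012 * 2 ^ 7) = true := by decide +kernel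
theorem permP_blk1013 : allRange (guard nn permP) 7 (1013 * 2 ^ 7) = true := by decide +kernel
theorem permP_blk1014 : allRange (guard nn permP) 7 (1014 * 2 ^ 7) = true := by decide +kernel
theorem permP_blk1015 : allRange (guard nn permP) 7 (1015 * 2 ^ 7) = true := by decide +kernel
theorem permP_blk1016 : allRange (guard nn permP) 7 (1016 * 2 ^ 7) = true := by decide +kernel
theorem permP_blk1017 : allRange (guard nn permP) 7 (1017 * 2 ^ 7) = true := by decide +kernel
theorem permP_blk1018 : allRange (guard nn permP) 7 (1018 * 2 ^ 7) = true := by decide +kernel
theorem permP_blk1019 : allRange (guard nn permP) 7 (1019 * 2 ^ 7) = true := by decide +kernel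
theorem permP_blk1020 : allRange (guard nn permP) 7 (1020 * 2 ^ 7) = true := by decide +kernel
theorem permP_blk1021 : allRange (guard nn permP) 7 (1021 * 2 ^ 7) = true := by decide +kernel
theorem permP_blk1022 : allRange (guard nn permP) 7 (1022 * 2 ^ 7) = true := by decide +kernel
theorem permP_blk1023 : allRange (guard nn permP) 7 (1023 * 2 ^ 7) = true := by decide +kernel
theorem permP_f15 : ∀ k, 960 ≤ k → k < 1024 → allRange (guard nn permP) 7 (k * 2 ^ 7) = true := by
  intro k h1 h2
  interval_cases k
  · exact permP_blk960
  · exact permP_blk961
  · exact permP_blk962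
  · exact permP_blk963
  · exact permP_blk964
  · exact permP_blk965
  · exact permP_blk966
  · exact permP_blk967
  · exact permP_blk968
  · exact permP_blk969
  · exact permP_blk970
  · exact permP_blk971
  · exact permP_blk972
  · exact permP_blk973
  · exact permP_blk974
  · exact permP_blk975
  · exact permP_blk976
  · exact permP_blk977
  · exact permP_blk978
  · exact permP_blk979
  · exact permP_blk980
  · exact permP_blk981
  · exact permP_blk982
  · exact permP_blk983
  · exact permP_blk984
  · exact permP_blk985
  · exact permP_blk986
  · exact permP_blk987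
  · exact permP_blk988
  · exact permP_blk989
  · exact permP_blk990
  · exact permP_blk991
  · exact permP_blk992
  · exact permP_blk993
  · exact permP_blk994
  · exact permP_blk995
  · exact permP_blk996
  · exact permP_blk997
  · exact permP_blk998
  · exact permP_blk999
  · exact permP_blk1000
  · exact permP_blk1001
  · exact permP_blk1002
  · exact permP_blk1003
  · exact permP_blk1004
  · exact permP_blk1005
  · exact permP_blk1006
  · exact permP_blk1007
  · exact permP_blk1008
  · exact permP_blk1009
  · exact permP_blk1010
  · exact permP_blk1011
  · exact permP_blk1012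
  · exact permP_blk1013
  · exact permP_blk1014
  · exact permP_blk1015
  · exact permP_blk1016
  · exact permP_blk1017
  · exact permP_blk1018
  · exact permP_blk1019
  · exact permP_blk1020
  · exact permP_blk1021
  · exact permP_blk1022
  · exact permP_blk1023

end Cfsg.Agent.Lib.Helper28.Fi24x306936
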