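import Cfsg.Agent.Lib.Helper28.Fi24x306936.Defs

set_option autoImplicit false
set_option linter.unusedVariables false
set_option Elab.async false

namespace Cfsg.Agent.Lib.Helper28.Fi24x306936

open Cfsg.Spor.Fi24 (Gen)
open Cfsg.Agent.Lib.Helper28.TC
open Cfsg.Agent.Lib.Helper28.TC2

theorem permP_blk1088 : allRange (guard nn permP) 7 (1088 * 2 ^ 7) = true := by decide +kernel
theorem permP_blk1089 : allRange (guard nn permP) 7 (1089 * 2 ^ 7) = true := by decide +kernel
theorem permP_blk1090 : allRange (guard nn permP) 7 (1090 * 2 ^ 7) = true := by decide +kernel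
theorem permP_blk1091 : allRange (guard nn permP) 7 (1091 * 2 ^ 7) = true := by decide +kernel
theorem permP_blk1092 : allRange (guard nn permP) 7 (1092 * 2 ^ 7) = true := by decide +kernel
theorem permP_blk1093 : allRange (guard nn permP) 7 (1093 * 2 ^ 7) = true := by decide +kernel
theorem permP_blk1094 : allRange (guard nn permP) 7 (1094 * 2 ^ 7) = true := by decide +kernel
theorem permP_blk1095 : allRange (guard nn permP) 7 (1095 * 2 ^ 7) = true := by decide +kernel
theorem permP_blk1096 : allRange (guard nn permP) 7 (1096 * 2 ^ 7) = true := by decide +kernel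
theorem permP_blk1097 : allRange (guard nn permP) 7 (1097 * 2 ^ 7) = true := by decide +kernel
theorem permP_blk1098 : allRange (guard nn permP) 7 (1098 * 2 ^ 7) = true := by decide +kernel
theorem permP_blk1099 : allRange (guard nn permP) 7 (1099 * 2 ^ 7) = true := by decide +kernel
theorem permP_blk1100 : allRange (guard nn permP) 7 (1100 * 2 ^ 7) = true := by decide +kernel
theorem permP_blk1101 : allRange (guard nn permP) 7 (1101 * 2 ^ 7) = true := by decide +kernel
theorem permP_blk1102 : allRange (guard nn permP) 7 (1102 * 2 ^ 7) = true := by decide +kernel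
theorem permP_blk1103 : allRange (guard nn permP) 7 (1103 * 2 ^ 7) = true := by decide +kernel
theorem permP_blk1104 : allRange (guard nn permP) 7 (1104 * 2 ^ 7) = true := by decide +kernel
theorem permP_blk1105 : allRange (guard nn permP) 7 (1105 * 2 ^ 7) = true := by decide +kernel
theorem permP_blk1106 : allRange (guard nn permP) 7 (1106 * 2 ^ 7) = true := by decide +kernel
theorem permP_blk1107 : allRange (guard nn permP) 7 (1107 * 2 ^ 7) = true := by decide +kernel
theorem permP_blk1108 : allRange (guard nn permP) 7 (1108 * 2 ^ 7) = true := by decide +kernel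
theorem permP_blk1109 : allRange (guard nn permP) 7 (1109 * 2 ^ 7) = true := by decide +kernel
theorem permP_blk1110 : allRange (guard nn permP) 7 (1110 * 2 ^ 7) = true := by decide +kernel
theorem permP_blk1111 : allRange (guard nn permP) 7 (1111 * 2 ^ 7) = true := by decide +kernel
theorem permP_blk1112 : allRange (guard nn permP) 7 (1112 * 2 ^ 7) = true := by decide +kernel
theorem permP_blk1113 : allRange (guard nn permP) 7 (1113 * 2 ^ 7) = true := by decide +kernel
theorem permP_blk1114 : allRange (guard nn permP) 7 (1114 * 2 ^ 7) = true := by decide +kernel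
theorem permP_blk1115 : allRange (guard nn permP) 7 (1115 * 2 ^ 7) = true := by decide +kernel
theorem permP_blk1116 : allRange (guard nn permP) 7 (1116 * 2 ^ 7) = true := by decide +kernel
theorem permP_blk1117 : allRange (guard nn permP) 7 (1117 * 2 ^ 7) = true := by decide +kernel
theorem permP_blk1118 : allRange (guard nn permP) 7 (1118 * 2 ^ 7) = true := by decide +kernel
theorem permP_blk1119 : allRange (guard nn permP) 7 (1119 * 2 ^ 7) = true := by decide +kernel
theorem permP_blk1120 : allRange (guard nn permP) 7 (1120 * 2 ^ 7) = true := by decide +kernel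
theorem permP_blk1121 : allRange (guard nn permP) 7 (1121 * 2 ^ 7) = true := by decide +kernel
theorem permP_blk1122 : allRange (guard nn permP) 7 (1122 * 2 ^ 7) = true := by decide +kernel
theorem permP_blk1123 : allRange (guard nn permP) 7 (1123 * 2 ^ 7) = true := by decide +kernel
theorem permP_blk1124 : allRange (guard nn permP) 7 (1124 * 2 ^ 7) = true := by decide +kernel
theorem permP_blk1125 : allRange (guard nn permP) 7 (1125 * 2 ^ 7) = true := by decide +kernel
theorem permP_blk1126 : allRange (guard nn permP) 7 (1126 * 2 ^ 7) = true := by decide +kernel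
theorem permP_blk1127 : allRange (guard nn permP) 7 (1127 * 2 ^ 7) = true := by decide +kernel
theorem permP_blk1128 : allRange (guard nn permP) 7 (1128 * 2 ^ 7) = true := by decide +kernel
theorem permP_blk1129 : allRange (guard nn permP) 7 (1129 * 2 ^ 7) = true := by decide +kernel
theorem permP_blk1130 : allRange (guard nn permP) 7 (1130 * 2 ^ 7) = true := by decide +kernel
theorem permP_blk1131 : allRange (guard nn permP) 7 (1131 * 2 ^ 7) = true := by decide +kernel
theorem permP_blk1132 : allRange (guard nn permP) 7 (1132 * 2 ^ 7) = true := by decide +kernel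
theorem permP_blk1133 : allRange (guard nn permP) 7 (1133 * 2 ^ 7) = true := by decide +kernel
theorem permP_blk1134 : allRange (guard nn permP) 7 (1134 * 2 ^ 7) = true := by decide +kernel
theorem permP_blk1135 : allRange (guard nn permP) 7 (1135 * 2 ^ 7) = true := by decide +kernel
theorem permP_blk1136 : allRange (guard nn permP) 7 (1136 * 2 ^ 7) = true := by decide +kernel
theorem permP_blk1137 : allRange (guard nn permP) 7 (1137 * 2 ^ 7) = true := by decide +kernel
theorem permP_blk1138 : allRange (guard nn permP) 7 (1138 * 2 ^ 7) = true := by decide +kernel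
theorem permP_blk1139 : allRange (guard nn permP) 7 (1139 * 2 ^ 7) = true := by decide +kernel
theorem permP_blk1140 : allRange (guard nn permP) 7 (1140 * 2 ^ 7) = true := by decide +kernel
theorem permP_blk1141 : allRange (guard nn permP) 7 (1141 * 2 ^ 7) = true := by decide +kernel
theorem permP_blk1142 : allRange (guard nn permP) 7 (1142 * 2 ^ 7) = true := by decide +kernel
theorem permP_blk1143 : allRange (guard nn permP) 7 (1143 * 2 ^ 7) = true := by decide +kernel
theorem permP_blk1144 : allRange (guard nn permP) 7 (1144 * 2 ^ 7) = true := by decide +kernel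
theorem permP_blk1145 : allRange (guard nn permP) 7 (1145 * 2 ^ 7) = true := by decide +kernel
theorem permP_blk1146 : allRange (guard nn permP) 7 (1146 * 2 ^ 7) = true := by decide +kernel
theorem permP_blk1147 : allRange (guard nn permP) 7 (1147 * 2 ^ 7) = true := by decide +kernel
theorem permP_blk1148 : allRange (guard nn permP) 7 (1148 * 2 ^ 7) = true := by decide +kernel
theorem permP_blk1149 : allRange (guard nn permP) 7 (1149 * 2 ^ 7) = true := by decide +kernel
theorem permP_blk1150 : allRange (guard nn permP) 7 (1150 * 2 ^ 7) = true := by decide +kernel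
theorem permP_blk1151 : allRange (guard nn permP) 7 (1151 * 2 ^ 7) = true := by decide +kernel
theorem permP_f17 : ∀ k, 1088 ≤ k → k < 1152 → allRange (guard nn permP) 7 (k * 2 ^ 7) = true := by
  intro k h1 h2
  interval_cases k
  · exact permP_blk1088
  · exact permP_blk1089
  · exact permP_blk1090
  · exact permP_blk1091
  · exact permP_blk1092
  · exact permP_blk1093
  · exact permP_blk1094
  · exact permP_blk1095
  · exact permP_blk1096
  · exact permP_blk1097
  · exact permP_blk1098
  · exact permP_blk1099
  · exact permP_blk1100
  · exact permP_blk1101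
  · exact permP_blk1102
  · exact permP_blk1103
  · exact permP_blk1104
  · exact permP_blk1105
  · exact permP_blk1106
  · exact permP_blk1107
  · exact permP_blk1108
  · exact permP_blk1109
  · exact permP_blk1110
  · exact permP_blk1111
  · exact permP_blk1112
  · exact permP_blk1113
  · exact permP_blk1114
  · exact permP_blk1115
  · exact permP_blk1116
  · exact permP_blk1117
  · exact permP_blk1118
  · exact permP_blk1119
  · exact permP_blk1120
  · exact permP_blk1121
  · exact permP_blk1122
  · exact permP_blk1123
  · exact permP_blk1124
  · exact permP_blk1125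
  · exact permP_blk1126
  · exact permP_blk1127
  · exact permP_blk1128
  · exact permP_blk1129
  · exact permP_blk1130
  · exact permP_blk1131
  · exact permP_blk1132
  · exact permP_blk1133
  · exact permP_blk1134
  · exact permP_blk1135
  · exact permP_blk1136
  · exact permP_blk1137
  · exact permP_blk1138
  · exact permP_blk1139
  · exact permP_blk1140
  · exact permP_blk1141
  · exact permP_blk1142
  · exact permP_blk1143
  · exact permP_blk1144
  · exact permP_blk1145
  · exact permP_blk1146
  · exact permP_blk1147
  · exact permP_blk1148
  · exact permP_blk1149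
  · exact permP_blk1150
  · exact permP_blk1151

end Cfsg.Agent.Lib.Helper28.Fi24x306936
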