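import Cfsg.Agent.Lib.Helper28.Fi24x306936.Defs

set_option autoImplicit false
set_option linter.unusedVariables false
set_option Elab.async false

namespace Cfsg.Agent.Lib.Helper28.Fi24x306936

open Cfsg.Spor.Fi24 (Gen)
open Cfsg.Agent.Lib.Helper28.TC
open Cfsg.Agent.Lib.Helper28.TC2

theorem permP_blk1344 : allRange (guard nn permP) 7 (1344 * 2 ^ 7) = true := by decide +kernel
theorem permP_blk1345 : allRange (guard nn permP) 7 (1345 * 2 ^ 7) = true := by decide +kernel
theorem permP_blk1346 : allRange (guard nn permP) 7 (1346 * 2 ^ 7) = true := by decide +kernel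
theorem permP_blk1347 : allRange (guard nn permP) 7 (1347 * 2 ^ 7) = true := by decide +kernel
theorem permP_blk1348 : allRange (guard nn permP) 7 (1348 * 2 ^ 7) = true := by decide +kernel
theorem permP_blk1349 : allRange (guard nn permP) 7 (1349 * 2 ^ 7) = true := by decide +kernel
theorem permP_blk1350 : allRange (guard nn permP) 7 (1350 * 2 ^ 7) = true := by decide +kernel
theorem permP_blk1351 : allRange (guard nn permP) 7 (1351 * 2 ^ 7) = true := by decide +kernel
theorem permP_blk1352 : allRange (guard nn permP) 7 (1352 * 2 ^ 7) = true := by decide +kernel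
theorem permP_blk1353 : allRange (guard nn permP) 7 (1353 * 2 ^ 7) = true := by decide +kernel
theorem permP_blk1354 : allRange (guard nn permP) 7 (1354 * 2 ^ 7) = true := by decide +kernel
theorem permP_blk1355 : allRange (guard nn permP) 7 (1355 * 2 ^ 7) = true := by decide +kernel
theorem permP_blk1356 : allRange (guard nn permP) 7 (1356 * 2 ^ 7) = true := by decide +kernel
theorem permP_blk1357 : allRange (guard nn permP) 7 (1357 * 2 ^ 7) = true := by decide +kernel
theorem permP_blk1358 : allRange (guard nn permP) 7 (1358 * 2 ^ 7) = true := by decide +kernel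
theorem permP_blk1359 : allRange (guard nn permP) 7 (1359 * 2 ^ 7) = true := by decide +kernel
theorem permP_blk1360 : allRange (guard nn permP) 7 (1360 * 2 ^ 7) = true := by decide +kernel
theorem permP_blk1361 : allRange (guard nn permP) 7 (1361 * 2 ^ 7) = true := by decide +kernel
theorem permP_blk1362 : allRange (guard nn permP) 7 (1362 * 2 ^ 7) = true := by decide +kernel
theorem permP_blk1363 : allRange (guard nn permP) 7 (1363 * 2 ^ 7) = true := by decide +kernel
theorem permP_blk1364 : allRange (guard nn permP) 7 (1364 * 2 ^ 7) = true := by decide +kernel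
theorem permP_blk1365 : allRange (guard nn permP) 7 (1365 * 2 ^ 7) = true := by decide +kernel
theorem permP_blk1366 : allRange (guard nn permP) 7 (1366 * 2 ^ 7) = true := by decide +kernel
theorem permP_blk1367 : allRange (guard nn permP) 7 (1367 * 2 ^ 7) = true := by decide +kernel
theorem permP_blk1368 : allRange (guard nn permP) 7 (1368 * 2 ^ 7) = true := by decide +kernel
theorem permP_blk1369 : allRange (guard nn permP) 7 (1369 * 2 ^ 7) = true := by decide +kernel
theorem permP_blk1370 : allRange (guard nn permP) 7 (1370 * 2 ^ 7) = true := by decide +kernel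
theorem permP_blk1371 : allRange (guard nn permP) 7 (1371 * 2 ^ 7) = true := by decide +kernel
theorem permP_blk1372 : allRange (guard nn permP) 7 (1372 * 2 ^ 7) = true := by decide +kernel
theorem permP_blk1373 : allRange (guard nn permP) 7 (1373 * 2 ^ 7) = true := by decide +kernel
theorem permP_blk1374 : allRange (guard nn permP) 7 (1374 * 2 ^ 7) = true := by decide +kernel
theorem permP_blk1375 : allRange (guard nn permP) 7 (1375 * 2 ^ 7) = true := by decide +kernel
theorem permP_blk1376 : allRange (guard nn permP) 7 (1376 * 2 ^ 7) = true := by decide +kernel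
theorem permP_blk1377 : allRange (guard nn permP) 7 (1377 * 2 ^ 7) = true := by decide +kernel
theorem permP_blk1378 : allRange (guard nn permP) 7 (1378 * 2 ^ 7) = true := by decide +kernel
theorem permP_blk1379 : allRange (guard nn permP) 7 (1379 * 2 ^ 7) = true := by decide +kernel
theorem permP_blk1380 : allRange (guard nn permP) 7 (1380 * 2 ^ 7) = true := by decide +kernel
theorem permP_blk1381 : allRange (guard nn permP) 7 (1381 * 2 ^ 7) = true := by decide +kernel
theorem permP_blk1382 : allRange (guard nn permP) 7 (1382 * 2 ^ 7) = true := by decide +kernel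
theorem permP_blk1383 : allRange (guard nn permP) 7 (1383 * 2 ^ 7) = true := by decide +kernel
theorem permP_blk1384 : allRange (guard nn permP) 7 (1384 * 2 ^ 7) = true := by decide +kernel
theorem permP_blk1385 : allRange (guard nn permP) 7 (1385 * 2 ^ 7) = true := by decide +kernel
theorem permP_blk1386 : allRange (guard nn permP) 7 (1386 * 2 ^ 7) = true := by decide +kernel
theorem permP_blk1387 : allRange (guard nn permP) 7 (1387 * 2 ^ 7) = true := by decide +kernel
theorem permP_blk1388 : allRange (guard nn permP) 7 (1388 * 2 ^ 7) = true := by decide +kernel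
theorem permP_blk1389 : allRange (guard nn permP) 7 (1389 * 2 ^ 7) = true := by decide +kernel
theorem permP_blk1390 : allRange (guard nn permP) 7 (1390 * 2 ^ 7) = true := by decide +kernel
theorem permP_blk1391 : allRange (guard nn permP) 7 (1391 * 2 ^ 7) = true := by decide +kernel
theorem permP_blk1392 : allRange (guard nn permP) 7 (1392 * 2 ^ 7) = true := by decide +kernel
theorem permP_blk1393 : allRange (guard nn permP) 7 (1393 * 2 ^ 7) = true := by decide +kernel
theorem permP_blk1394 : allRange (guard nn permP) 7 (1394 * 2 ^ 7) = true := by decide +kernel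
theorem permP_blk1395 : allRange (guard nn permP) 7 (1395 * 2 ^ 7) = true := by decide +kernel
theorem permP_blk1396 : allRange (guard nn permP) 7 (1396 * 2 ^ 7) = true := by decide +kernel
theorem permP_blk1397 : allRange (guard nn permP) 7 (1397 * 2 ^ 7) = true := by decide +kernel
theorem permP_blk1398 : allRange (guard nn permP) 7 (1398 * 2 ^ 7) = true := by decide +kernel
theorem permP_blk1399 : allRange (guard nn permP) 7 (1399 * 2 ^ 7) = true := by decide +kernel
theorem permP_blk1400 : allRange (guard nn permP) 7 (1400 * 2 ^ 7) = true := by decide +kernel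
theorem permP_blk1401 : allRange (guard nn permP) 7 (1401 * 2 ^ 7) = true := by decide +kernel
theorem permP_blk1402 : allRange (guard nn permP) 7 (1402 * 2 ^ 7) = true := by decide +kernel
theorem permP_blk1403 : allRange (guard nn permP) 7 (1403 * 2 ^ 7) = true := by decide +kernel
theorem permP_blk1404 : allRange (guard nn permP) 7 (1404 * 2 ^ 7) = true := by decide +kernel
theorem permP_blk1405 : allRange (guard nn permP) 7 (1405 * 2 ^ 7) = true := by decide +kernel
theorem permP_blk1406 : allRange (guard nn permP) 7 (1406 * 2 ^ 7) = true := by decide +kernel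
theorem permP_blk1407 : allRange (guard nn permP) 7 (1407 * 2 ^ 7) = true := by decide +kernel
theorem permP_f21 : ∀ k, 1344 ≤ k → k < 1408 → allRange (guard nn permP) 7 (k * 2 ^ 7) = true := by
  intro k h1 h2
  interval_cases k
  · exact permP_blk1344
  · exact permP_blk1345
  · exact permP_blk1346
  · exact permP_blk1347
  · exact permP_blk1348
  · exact permP_blk1349
  · exact permP_blk1350
  · exact permP_blk1351
  · exact permP_blk1352
  · exact permP_blk1353
  · exact permP_blk1354
  · exact permP_blk1355
  · exact permP_blk1356
  · exact permP_blk1357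
  · exact permP_blk1358
  · exact permP_blk1359
  · exact permP_blk1360
  · exact permP_blk1361
  · exact permP_blk1362
  · exact permP_blk1363
  · exact permP_blk1364
  · exact permP_blk1365
  · exact permP_blk1366
  · exact permP_blk1367
  · exact permP_blk1368
  · exact permP_blk1369
  · exact permP_blk1370
  · exact permP_blk1371
  · exact permP_blk1372
  · exact permP_blk1373
  · exact permP_blk1374
  · exact permP_blk1375
  · exact permP_blk1376
  · exact permP_blk1377
  · exact permP_blk1378
  · exact permP_blk1379
  · exact permP_blk1380
  · exact permP_blk1381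
  · exact permP_blk1382
  · exact permP_blk1383
  · exact permP_blk1384
  · exact permP_blk1385
  · exact permP_blk1386
  · exact permP_blk1387
  · exact permP_blk1388
  · exact permP_blk1389
  · exact permP_blk1390
  · exact permP_blk1391
  · exact permP_blk1392
  · exact permP_blk1393
  · exact permP_blk1394
  · exact permP_blk1395
  · exact permP_blk1396
  · exact permP_blk1397
  · exact permP_blk1398
  · exact permP_blk1399
  · exact permP_blk1400
  · exact permP_blk1401
  · exact permP_blk1402
  · exact permP_blk1403
  · exact permP_blk1404
  · exact permP_blk1405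
  · exact permP_blk1406
  · exact permP_blk1407

end Cfsg.Agent.Lib.Helper28.Fi24x306936
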