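import Cfsg.Agent.Lib.Helper28.Fi24x306936.Defs

set_option autoImplicit false
set_option linter.unusedVariables false
set_option Elab.async false

namespace Cfsg.Agent.Lib.Helper28.Fi24x306936

open Cfsg.Spor.Fi24 (Gen)
open Cfsg.Agent.Lib.Helper28.TC
open Cfsg.Agent.Lib.Helper28.TC2

theorem permP_blk1536 : allRange (guard nn permP) 7 (1536 * 2 ^ 7) = true := by decide +kernel
theorem permP_blk1537 : allRange (guard nn permP) 7 (1537 * 2 ^ 7) = true := by decide +kernel
theorem permP_blk1538 : allRange (guard nn permP) 7 (1538 * 2 ^ 7) = true := by decide +kernel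
theorem permP_blk1539 : allRange (guard nn permP) 7 (1539 * 2 ^ 7) = true := by decide +kernel
theorem permP_blk1540 : allRange (guard nn permP) 7 (1540 * 2 ^ 7) = true := by decide +kernel
theorem permP_blk1541 : allRange (guard nn permP) 7 (1541 * 2 ^ 7) = true := by decide +kernel
theorem permP_blk1542 : allRange (guard nn permP) 7 (1542 * 2 ^ 7) = true := by decide +kernel
theorem permP_blk1543 : allRange (guard nn permP) 7 (1543 * 2 ^ 7) = true := by decide +kernel
theorem permP_blk1544 : allRange (guard nn permP) 7 (1544 * 2 ^ 7) = true := by decide +kernel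
theorem permP_blk1545 : allRange (guard nn permP) 7 (1545 * 2 ^ 7) = true := by decide +kernel
theorem permP_blk1546 : allRange (guard nn permP) 7 (1546 * 2 ^ 7) = true := by decide +kernel
theorem permP_blk1547 : allRange (guard nn permP) 7 (1547 * 2 ^ 7) = true := by decide +kernel
theorem permP_blk1548 : allRange (guard nn permP) 7 (1548 * 2 ^ 7) = true := by decide +kernel
theorem permP_blk1549 : allRange (guard nn permP) 7 (1549 * 2 ^ 7) = true := by decide +kernel
theorem permP_blk1550 : allRange (guard nn permP) 7 (1550 * 2 ^ 7) = true := by decide +kernel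
theorem permP_blk1551 : allRange (guard nn permP) 7 (1551 * 2 ^ 7) = true := by decide +kernel
theorem permP_blk1552 : allRange (guard nn permP) 7 (1552 * 2 ^ 7) = true := by decide +kernel
theorem permP_blk1553 : allRange (guard nn permP) 7 (1553 * 2 ^ 7) = true := by decide +kernel
theorem permP_blk1554 : allRange (guard nn permP) 7 (1554 * 2 ^ 7) = true := by decide +kernel
theorem permP_blk1555 : allRange (guard nn permP) 7 (1555 * 2 ^ 7) = true := by decide +kernel
theorem permP_blk1556 : allRange (guard nn permP) 7 (1556 * 2 ^ 7) = true := by decide +kernel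
theorem permP_blk1557 : allRange (guard nn permP) 7 (1557 * 2 ^ 7) = true := by decide +kernel
theorem permP_blk1558 : allRange (guard nn permP) 7 (1558 * 2 ^ 7) = true := by decide +kernel
theorem permP_blk1559 : allRange (guard nn permP) 7 (1559 * 2 ^ 7) = true := by decide +kernel
theorem permP_blk1560 : allRange (guard nn permP) 7 (1560 * 2 ^ 7) = true := by decide +kernel
theorem permP_blk1561 : allRange (guard nn permP) 7 (1561 * 2 ^ 7) = true := by decide +kernel
theorem permP_blk1562 : allRange (guard nn permP) 7 (1562 * 2 ^ 7) = true := by decide +kernel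
theorem permP_blk1563 : allRange (guard nn permP) 7 (1563 * 2 ^ 7) = true := by decide +kernel
theorem permP_blk1564 : allRange (guard nn permP) 7 (1564 * 2 ^ 7) = true := by decide +kernel
theorem permP_blk1565 : allRange (guard nn permP) 7 (1565 * 2 ^ 7) = true := by decide +kernel
theorem permP_blk1566 : allRange (guard nn permP) 7 (1566 * 2 ^ 7) = true := by decide +kernel
theorem permP_blk1567 : allRange (guard nn permP) 7 (1567 * 2 ^ 7) = true := by decide +kernel
theorem permP_blk1568 : allRange (guard nn permP) 7 (1568 * 2 ^ 7) = true := by decide +kernel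
theorem permP_blk1569 : allRange (guard nn permP) 7 (1569 * 2 ^ 7) = true := by decide +kernel
theorem permP_blk1570 : allRange (guard nn permP) 7 (1570 * 2 ^ 7) = true := by decide +kernel
theorem permP_blk1571 : allRange (guard nn permP) 7 (1571 * 2 ^ 7) = true := by decide +kernel
theorem permP_blk1572 : allRange (guard nn permP) 7 (1572 * 2 ^ 7) = true := by decide +kernel
theorem permP_blk1573 : allRange (guard nn permP) 7 (1573 * 2 ^ 7) = true := by decide +kernel
theorem permP_blk1574 : allRange (guard nn permP) 7 (1574 * 2 ^ 7) = true := by decide +kernel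
theorem permP_blk1575 : allRange (guard nn permP) 7 (1575 * 2 ^ 7) = true := by decide +kernel
theorem permP_blk1576 : allRange (guard nn permP) 7 (1576 * 2 ^ 7) = true := by decide +kernel
theorem permP_blk1577 : allRange (guard nn permP) 7 (1577 * 2 ^ 7) = true := by decide +kernel
theorem permP_blk1578 : allRange (guard nn permP) 7 (1578 * 2 ^ 7) = true := by decide +kernel
theorem permP_blk1579 : allRange (guard nn permP) 7 (1579 * 2 ^ 7) = true := by decide +kernel
theorem permP_blk1580 : allRange (guard nn permP) 7 (1580 * 2 ^ 7) = true := by decide +kernel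
theorem permP_blk1581 : allRange (guard nn permP) 7 (1581 * 2 ^ 7) = true := by decide +kernel
theorem permP_blk1582 : allRange (guard nn permP) 7 (1582 * 2 ^ 7) = true := by decide +kernel
theorem permP_blk1583 : allRange (guard nn permP) 7 (1583 * 2 ^ 7) = true := by decide +kernel
theorem permP_blk1584 : allRange (guard nn permP) 7 (1584 * 2 ^ 7) = true := by decide +kernel
theorem permP_blk1585 : allRange (guard nn permP) 7 (1585 * 2 ^ 7) = true := by decide +kernel
theorem permP_blk1586 : allRange (guard nn permP) 7 (1586 * 2 ^ 7) = true := by decide +kernel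
theorem permP_blk1587 : allRange (guard nn permP) 7 (1587 * 2 ^ 7) = true := by decide +kernel
theorem permP_blk1588 : allRange (guard nn permP) 7 (1588 * 2 ^ 7) = true := by decide +kernel
theorem permP_blk1589 : allRange (guard nn permP) 7 (1589 * 2 ^ 7) = true := by decide +kernel
theorem permP_blk1590 : allRange (guard nn permP) 7 (1590 * 2 ^ 7) = true := by decide +kernel
theorem permP_blk1591 : allRange (guard nn permP) 7 (1591 * 2 ^ 7) = true := by decide +kernel
theorem permP_blk1592 : allRange (guard nn permP) 7 (1592 * 2 ^ 7) = true := by decide +kernel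
theorem permP_blk1593 : allRange (guard nn permP) 7 (1593 * 2 ^ 7) = true := by decide +kernel
theorem permP_blk1594 : allRange (guard nn permP) 7 (1594 * 2 ^ 7) = true := by decide +kernel
theorem permP_blk1595 : allRange (guard nn permP) 7 (1595 * 2 ^ 7) = true := by decide +kernel
theorem permP_blk1596 : allRange (guard nn permP) 7 (1596 * 2 ^ 7) = true := by decide +kernel
theorem permP_blk1597 : allRange (guard nn permP) 7 (1597 * 2 ^ 7) = true := by decide +kernel
theorem permP_blk1598 : allRange (guard nn permP) 7 (1598 * 2 ^ 7) = true := by decide +kernel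
theorem permP_blk1599 : allRange (guard nn permP) 7 (1599 * 2 ^ 7) = true := by decide +kernel
theorem permP_f24 : ∀ k, 1536 ≤ k → k < 1600 → allRange (guard nn permP) 7 (k * 2 ^ 7) = true := by
  intro k h1 h2
  interval_cases k
  · exact permP_blk1536
  · exact permP_blk1537
  · exact permP_blk1538
  · exact permP_blk1539
  · exact permP_blk1540
  · exact permP_blk1541
  · exact permP_blk1542
  · exact permP_blk1543
  · exact permP_blk1544
  · exact permP_blk1545
  · exact permP_blk1546
  · exact permP_blk1547
  · exact permP_blk1548
  · exact permP_blk1549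
  · exact permP_blk1550
  · exact permP_blk1551
  · exact permP_blk1552
  · exact permP_blk1553
  · exact permP_blk1554
  · exact permP_blk1555
  · exact permP_blk1556
  · exact permP_blk1557
  · exact permP_blk1558
  · exact permP_blk1559
  · exact permP_blk1560
  · exact permP_blk1561
  · exact permP_blk1562
  · exact permP_blk1563
  · exact permP_blk1564
  · exact permP_blk1565
  · exact permP_blk1566
  · exact permP_blk1567
  · exact permP_blk1568
  · exact permP_blk1569
  · exact permP_blk1570
  · exact permP_blk1571
  · exact permP_blk1572
  · exact permP_blk1573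
  · exact permP_blk1574
  · exact permP_blk1575
  · exact permP_blk1576
  · exact permP_blk1577
  · exact permP_blk1578
  · exact permP_blk1579
  · exact permP_blk1580
  · exact permP_blk1581
  · exact permP_blk1582
  · exact permP_blk1583
  · exact permP_blk1584
  · exact permP_blk1585
  · exact permP_blk1586
  · exact permP_blk1587
  · exact permP_blk1588
  · exact permP_blk1589
  · exact permP_blk1590
  · exact permP_blk1591
  · exact permP_blk1592
  · exact permP_blk1593
  · exact permP_blk1594
  · exact permP_blk1595
  · exact permP_blk1596
  · exact permP_blk1597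
  · exact permP_blk1598
  · exact permP_blk1599

end Cfsg.Agent.Lib.Helper28.Fi24x306936
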