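import Cfsg.Agent.Lib.Helper28.Fi24x306936.Defs

set_option autoImplicit false
set_option linter.unusedVariables false
set_option Elab.async false

namespace Cfsg.Agent.Lib.Helper28.Fi24x306936

open Cfsg.Spor.Fi24 (Gen)
open Cfsg.Agent.Lib.Helper28.TC
open Cfsg.Agent.Lib.Helper28.TC2

theorem permP_blk1600 : allRange (guard nn permP) 7 (1600 * 2 ^ 7) = true := by decide +kernel
theorem permP_blk1601 : allRange (guard nn permP) 7 (1601 * 2 ^ 7) = true := by decide +kernel
theorem permP_blk1602 : allRange (guard nn permP) 7 (1602 * 2 ^ 7) = true := by decide +kernel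
theorem permP_blk1603 : allRange (guard nn permP) 7 (1603 * 2 ^ 7) = true := by decide +kernel
theorem permP_blk1604 : allRange (guard nn permP) 7 (1604 * 2 ^ 7) = true := by decide +kernel
theorem permP_blk1605 : allRange (guard nn permP) 7 (1605 * 2 ^ 7) = true := by decide +kernel
theorem permP_blk1606 : allRange (guard nn permP) 7 (1606 * 2 ^ 7) = true := by decide +kernel
theorem permP_blk1607 : allRange (guard nn permP) 7 (1607 * 2 ^ 7) = true := by decide +kernel
theorem permP_blk1608 : allRange (guard nn permP) 7 (1608 * 2 ^ 7) = true := by decide +kernel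
theorem permP_blk1609 : allRange (guard nn permP) 7 (1609 * 2 ^ 7) = true := by decide +kernel
theorem permP_blk1610 : allRange (guard nn permP) 7 (1610 * 2 ^ 7) = true := by decide +kernel
theorem permP_blk1611 : allRange (guard nn permP) 7 (1611 * 2 ^ 7) = true := by decide +kernel
theorem permP_blk1612 : allRange (guard nn permP) 7 (1612 * 2 ^ 7) = true := by decide +kernel
theorem permP_blk1613 : allRange (guard nn permP) 7 (1613 * 2 ^ 7) = true := by decide +kernel
theorem permP_blk1614 : allRange (guard nn permP) 7 (1614 * 2 ^ 7) = true := by decide +kernel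
theorem permP_blk1615 : allRange (guard nn permP) 7 (1615 * 2 ^ 7) = true := by decide +kernel
theorem permP_blk1616 : allRange (guard nn permP) 7 (1616 * 2 ^ 7) = true := by decide +kernel
theorem permP_blk1617 : allRange (guard nn permP) 7 (1617 * 2 ^ 7) = true := by decide +kernel
theorem permP_blk1618 : allRange (guard nn permP) 7 (1618 * 2 ^ 7) = true := by decide +kernel
theorem permP_blk1619 : allRange (guard nn permP) 7 (1619 * 2 ^ 7) = true := by decide +kernel
theorem permP_blk1620 : allRange (guard nn permP) 7 (1620 * 2 ^ 7) = true := by decide +kernel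
theorem permP_blk1621 : allRange (guard nn permP) 7 (1621 * 2 ^ 7) = true := by decide +kernel
theorem permP_blk1622 : allRange (guard nn permP) 7 (1622 * 2 ^ 7) = true := by decide +kernel
theorem permP_blk1623 : allRange (guard nn permP) 7 (1623 * 2 ^ 7) = true := by decide +kernel
theorem permP_blk1624 : allRange (guard nn permP) 7 (1624 * 2 ^ 7) = true := by decide +kernel
theorem permP_blk1625 : allRange (guard nn permP) 7 (1625 * 2 ^ 7) = true := by decide +kernel
theorem permP_blk1626 : allRange (guard nn permP) 7 (1626 * 2 ^ 7) = true := by decide +kernel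
theorem permP_blk1627 : allRange (guard nn permP) 7 (1627 * 2 ^ 7) = true := by decide +kernel
theorem permP_blk1628 : allRange (guard nn permP) 7 (1628 * 2 ^ 7) = true := by decide +kernel
theorem permP_blk1629 : allRange (guard nn permP) 7 (1629 * 2 ^ 7) = true := by decide +kernel
theorem permP_blk1630 : allRange (guard nn permP) 7 (1630 * 2 ^ 7) = true := by decide +kernel
theorem permP_blk1631 : allRange (guard nn permP) 7 (1631 * 2 ^ 7) = true := by decide +kernel
theorem permP_blk1632 : allRange (guard nn permP) 7 (1632 * 2 ^ 7) = true := by decide +kernel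
theorem permP_blk1633 : allRange (guard nn permP) 7 (1633 * 2 ^ 7) = true := by decide +kernel
theorem permP_blk1634 : allRange (guard nn permP) 7 (1634 * 2 ^ 7) = true := by decide +kernel
theorem permP_blk1635 : allRange (guard nn permP) 7 (1635 * 2 ^ 7) = true := by decide +kernel
theorem permP_blk1636 : allRange (guard nn permP) 7 (1636 * 2 ^ 7) = true := by decide +kernel
theorem permP_blk1637 : allRange (guard nn permP) 7 (1637 * 2 ^ 7) = true := by decide +kernel
theorem permP_blk1638 : allRange (guard nn permP) 7 (1638 * 2 ^ 7) = true := by decide +kernel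
theorem permP_blk1639 : allRange (guard nn permP) 7 (1639 * 2 ^ 7) = true := by decide +kernel
theorem permP_blk1640 : allRange (guard nn permP) 7 (1640 * 2 ^ 7) = true := by decide +kernel
theorem permP_blk1641 : allRange (guard nn permP) 7 (1641 * 2 ^ 7) = true := by decide +kernel
theorem permP_blk1642 : allRange (guard nn permP) 7 (1642 * 2 ^ 7) = true := by decide +kernel
theorem permP_blk1643 : allRange (guard nn permP) 7 (1643 * 2 ^ 7) = true := by decide +kernel
theorem permP_blk1644 : allRange (guard nn permP) 7 (1644 * 2 ^ 7) = true := by decide +kernel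
theorem permP_blk1645 : allRange (guard nn permP) 7 (1645 * 2 ^ 7) = true := by decide +kernel
theorem permP_blk1646 : allRange (guard nn permP) 7 (1646 * 2 ^ 7) = true := by decide +kernel
theorem permP_blk1647 : allRange (guard nn permP) 7 (1647 * 2 ^ 7) = true := by decide +kernel
theorem permP_blk1648 : allRange (guard nn permP) 7 (1648 * 2 ^ 7) = true := by decide +kernel
theorem permP_blk1649 : allRange (guard nn permP) 7 (1649 * 2 ^ 7) = true := by decide +kernel
theorem permP_blk1650 : allRange (guard nn permP) 7 (1650 * 2 ^ 7) = true := by decide +kernel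
theorem permP_blk1651 : allRange (guard nn permP) 7 (1651 * 2 ^ 7) = true := by decide +kernel
theorem permP_blk1652 : allRange (guard nn permP) 7 (1652 * 2 ^ 7) = true := by decide +kernel
theorem permP_blk1653 : allRange (guard nn permP) 7 (1653 * 2 ^ 7) = true := by decide +kernel
theorem permP_blk1654 : allRange (guard nn permP) 7 (1654 * 2 ^ 7) = true := by decide +kernel
theorem permP_blk1655 : allRange (guard nn permP) 7 (1655 * 2 ^ 7) = true := by decide +kernel
theorem permP_blk1656 : allRange (guard nn permP) 7 (1656 * 2 ^ 7) = true := by decide +kernel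
theorem permP_blk1657 : allRange (guard nn permP) 7 (1657 * 2 ^ 7) = true := by decide +kernel
theorem permP_blk1658 : allRange (guard nn permP) 7 (1658 * 2 ^ 7) = true := by decide +kernel
theorem permP_blk1659 : allRange (guard nn permP) 7 (1659 * 2 ^ 7) = true := by decide +kernel
theorem permP_blk1660 : allRange (guard nn permP) 7 (1660 * 2 ^ 7) = true := by decide +kernel
theorem permP_blk1661 : allRange (guard nn permP) 7 (1661 * 2 ^ 7) = true := by decide +kernel
theorem permP_blk1662 : allRange (guard nn permP) 7 (1662 * 2 ^ 7) = true := by decide +kernel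
theorem permP_blk1663 : allRange (guard nn permP) 7 (1663 * 2 ^ 7) = true := by decide +kernel
theorem permP_f25 : ∀ k, 1600 ≤ k → k < 1664 → allRange (guard nn permP) 7 (k * 2 ^ 7) = true := by
  intro k h1 h2
  interval_cases k
  · exact permP_blk1600
  · exact permP_blk1601
  · exact permP_blk1602
  · exact permP_blk1603
  · exact permP_blk1604
  · exact permP_blk1605
  · exact permP_blk1606
  · exact permP_blk1607
  · exact permP_blk1608
  · exact permP_blk1609
  · exact permP_blk1610
  · exact permP_blk1611
  · exact permP_blk1612
  · exact permP_blk1613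
  · exact permP_blk1614
  · exact permP_blk1615
  · exact permP_blk1616
  · exact permP_blk1617
  · exact permP_blk1618
  · exact permP_blk1619
  · exact permP_blk1620
  · exact permP_blk1621
  · exact permP_blk1622
  · exact permP_blk1623
  · exact permP_blk1624
  · exact permP_blk1625
  · exact permP_blk1626
  · exact permP_blk1627
  · exact permP_blk1628
  · exact permP_blk1629
  · exact permP_blk1630
  · exact permP_blk1631
  · exact permP_blk1632
  · exact permP_blk1633
  · exact permP_blk1634
  · exact permP_blk1635
  · exact permP_blk1636
  · exact permP_blk1637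
  · exact permP_blk1638
  · exact permP_blk1639
  · exact permP_blk1640
  · exact permP_blk1641
  · exact permP_blk1642
  · exact permP_blk1643
  · exact permP_blk1644
  · exact permP_blk1645
  · exact permP_blk1646
  · exact permP_blk1647
  · exact permP_blk1648
  · exact permP_blk1649
  · exact permP_blk1650
  · exact permP_blk1651
  · exact permP_blk1652
  · exact permP_blk1653
  · exact permP_blk1654
  · exact permP_blk1655
  · exact permP_blk1656
  · exact permP_blk1657
  · exact permP_blk1658
  · exact permP_blk1659
  · exact permP_blk1660
  · exact permP_blk1661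
  · exact permP_blk1662
  · exact permP_blk1663

end Cfsg.Agent.Lib.Helper28.Fi24x306936
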