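import Cfsg.Agent.Lib.Helper28.Fi24x306936.Defs

set_option autoImplicit false
set_option linter.unusedVariables false
set_option Elab.async false

namespace Cfsg.Agent.Lib.Helper28.Fi24x306936

open Cfsg.Spor.Fi24 (Gen)
open Cfsg.Agent.Lib.Helper28.TC
open Cfsg.Agent.Lib.Helper28.TC2

theorem permP_blk1664 : allRange (guard nn permP) 7 (1664 * 2 ^ 7) = true := by decide +kernel
theorem permP_blk1665 : allRange (guard nn permP) 7 (1665 * 2 ^ 7) = true := by decide +kernel
theorem permP_blk1666 : allRange (guard nn permP) 7 (1666 * 2 ^ 7) = true := by decide +kernel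
theorem permP_blk1667 : allRange (guard nn permP) 7 (1667 * 2 ^ 7) = true := by decide +kernel
theorem permP_blk1668 : allRange (guard nn permP) 7 (1668 * 2 ^ 7) = true := by decide +kernel
theorem permP_blk1669 : allRange (guard nn permP) 7 (1669 * 2 ^ 7) = true := by decide +kernel
theorem permP_blk1670 : allRange (guard nn permP) 7 (1670 * 2 ^ 7) = true := by decide +kernel
theorem permP_blk1671 : allRange (guard nn permP) 7 (1671 * 2 ^ 7) = true := by decide +kernel
theorem permP_blk1672 : allRange (guard nn permP) 7 (1672 * 2 ^ 7) = true := by decide +kernel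
theorem permP_blk1673 : allRange (guard nn permP) 7 (1673 * 2 ^ 7) = true := by decide +kernel
theorem permP_blk1674 : allRange (guard nn permP) 7 (1674 * 2 ^ 7) = true := by decide +kernel
theorem permP_blk1675 : allRange (guard nn permP) 7 (1675 * 2 ^ 7) = true := by decide +kernel
theorem permP_blk1676 : allRange (guard nn permP) 7 (1676 * 2 ^ 7) = true := by decide +kernel
theorem permP_blk1677 : allRange (guard nn permP) 7 (1677 * 2 ^ 7) = true := by decide +kernel
theorem permP_blk1678 : allRange (guard nn permP) 7 (1678 * 2 ^ 7) = true := by decide +kernel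
theorem permP_blk1679 : allRange (guard nn permP) 7 (1679 * 2 ^ 7) = true := by decide +kernel
theorem permP_blk1680 : allRange (guard nn permP) 7 (1680 * 2 ^ 7) = true := by decide +kernel
theorem permP_blk1681 : allRange (guard nn permP) 7 (1681 * 2 ^ 7) = true := by decide +kernel
theorem permP_blk1682 : allRange (guard nn permP) 7 (1682 * 2 ^ 7) = true := by decide +kernel
theorem permP_blk1683 : allRange (guard nn permP) 7 (1683 * 2 ^ 7) = true := by decide +kernel
theorem permP_blk1684 : allRange (guard nn permP) 7 (1684 * 2 ^ 7) = true := by decide +kernel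
theorem permP_blk1685 : allRange (guard nn permP) 7 (1685 * 2 ^ 7) = true := by decide +kernel
theorem permP_blk1686 : allRange (guard nn permP) 7 (1686 * 2 ^ 7) = true := by decide +kernel
theorem permP_blk1687 : allRange (guard nn permP) 7 (1687 * 2 ^ 7) = true := by decide +kernel
theorem permP_blk1688 : allRange (guard nn permP) 7 (1688 * 2 ^ 7) = true := by decide +kernel
theorem permP_blk1689 : allRange (guard nn permP) 7 (1689 * 2 ^ 7) = true := by decide +kernel
theorem permP_blk1690 : allRange (guard nn permP) 7 (1690 * 2 ^ 7) = true := by decide +kernel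
theorem permP_blk1691 : allRange (guard nn permP) 7 (1691 * 2 ^ 7) = true := by decide +kernel
theorem permP_blk1692 : allRange (guard nn permP) 7 (1692 * 2 ^ 7) = true := by decide +kernel
theorem permP_blk1693 : allRange (guard nn permP) 7 (1693 * 2 ^ 7) = true := by decide +kernel
theorem permP_blk1694 : allRange (guard nn permP) 7 (1694 * 2 ^ 7) = true := by decide +kernel
theorem permP_blk1695 : allRange (guard nn permP) 7 (1695 * 2 ^ 7) = true := by decide +kernel
theorem permP_blk1696 : allRange (guard nn permP) 7 (1696 * 2 ^ 7) = true := by decide +kernel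
theorem permP_blk1697 : allRange (guard nn permP) 7 (1697 * 2 ^ 7) = true := by decide +kernel
theorem permP_blk1698 : allRange (guard nn permP) 7 (1698 * 2 ^ 7) = true := by decide +kernel
theorem permP_blk1699 : allRange (guard nn permP) 7 (1699 * 2 ^ 7) = true := by decide +kernel
theorem permP_blk1700 : allRange (guard nn permP) 7 (1700 * 2 ^ 7) = true := by decide +kernel
theorem permP_blk1701 : allRange (guard nn permP) 7 (1701 * 2 ^ 7) = true := by decide +kernel
theorem permP_blk1702 : allRange (guard nn permP) 7 (1702 * 2 ^ 7) = true := by decide +kernel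
theorem permP_blk1703 : allRange (guard nn permP) 7 (1703 * 2 ^ 7) = true := by decide +kernel
theorem permP_blk1704 : allRange (guard nn permP) 7 (1704 * 2 ^ 7) = true := by decide +kernel
theorem permP_blk1705 : allRange (guard nn permP) 7 (1705 * 2 ^ 7) = true := by decide +kernel
theorem permP_blk1706 : allRange (guard nn permP) 7 (1706 * 2 ^ 7) = true := by decide +kernel
theorem permP_blk1707 : allRange (guard nn permP) 7 (1707 * 2 ^ 7) = true := by decide +kernel
theorem permP_blk1708 : allRange (guard nn permP) 7 (1708 * 2 ^ 7) = true := by decide +kernel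
theorem permP_blk1709 : allRange (guard nn permP) 7 (1709 * 2 ^ 7) = true := by decide +kernel
theorem permP_blk1710 : allRange (guard nn permP) 7 (1710 * 2 ^ 7) = true := by decide +kernel
theorem permP_blk1711 : allRange (guard nn permP) 7 (1711 * 2 ^ 7) = true := by decide +kernel
theorem permP_blk1712 : allRange (guard nn permP) 7 (1712 * 2 ^ 7) = true := by decide +kernel
theorem permP_blk1713 : allRange (guard nn permP) 7 (1713 * 2 ^ 7) = true := by decide +kernel
theorem permP_blk1714 : allRange (guard nn permP) 7 (1714 * 2 ^ 7) = true := by decide +kernel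
theorem permP_blk1715 : allRange (guard nn permP) 7 (1715 * 2 ^ 7) = true := by decide +kernel
theorem permP_blk1716 : allRange (guard nn permP) 7 (1716 * 2 ^ 7) = true := by decide +kernel
theorem permP_blk1717 : allRange (guard nn permP) 7 (1717 * 2 ^ 7) = true := by decide +kernel
theorem permP_blk1718 : allRange (guard nn permP) 7 (1718 * 2 ^ 7) = true := by decide +kernel
theorem permP_blk1719 : allRange (guard nn permP) 7 (1719 * 2 ^ 7) = true := by decide +kernel
theorem permP_blk1720 : allRange (guard nn permP) 7 (1720 * 2 ^ 7) = true := by decide +kernel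
theorem permP_blk1721 : allRange (guard nn permP) 7 (1721 * 2 ^ 7) = true := by decide +kernel
theorem permP_blk1722 : allRange (guard nn permP) 7 (1722 * 2 ^ 7) = true := by decide +kernel
theorem permP_blk1723 : allRange (guard nn permP) 7 (1723 * 2 ^ 7) = true := by decide +kernel
theorem permP_blk1724 : allRange (guard nn permP) 7 (1724 * 2 ^ 7) = true := by decide +kernel
theorem permP_blk1725 : allRange (guard nn permP) 7 (1725 * 2 ^ 7) = true := by decide +kernel
theorem permP_blk1726 : allRange (guard nn permP) 7 (1726 * 2 ^ 7) = true := by decide +kernel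
theorem permP_blk1727 : allRange (guard nn permP) 7 (1727 * 2 ^ 7) = true := by decide +kernel
theorem permP_f26 : ∀ k, 1664 ≤ k → k < 1728 → allRange (guard nn permP) 7 (k * 2 ^ 7) = true := by
  intro k h1 h2
  interval_cases k
  · exact permP_blk1664
  · exact permP_blk1665
  · exact permP_blk1666
  · exact permP_blk1667
  · exact permP_blk1668
  · exact permP_blk1669
  · exact permP_blk1670
  · exact permP_blk1671
  · exact permP_blk1672
  · exact permP_blk1673
  · exact permP_blk1674
  · exact permP_blk1675
  · exact permP_blk1676
  · exact permP_blk1677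
  · exact permP_blk1678
  · exact permP_blk1679
  · exact permP_blk1680
  · exact permP_blk1681
  · exact permP_blk1682
  · exact permP_blk1683
  · exact permP_blk1684
  · exact permP_blk1685
  · exact permP_blk1686
  · exact permP_blk1687
  · exact permP_blk1688
  · exact permP_blk1689
  · exact permP_blk1690
  · exact permP_blk1691
  · exact permP_blk1692
  · exact permP_blk1693
  · exact permP_blk1694
  · exact permP_blk1695
  · exact permP_blk1696
  · exact permP_blk1697
  · exact permP_blk1698
  · exact permP_blk1699
  · exact permP_blk1700
  · exact permP_blk1701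
  · exact permP_blk1702
  · exact permP_blk1703
  · exact permP_blk1704
  · exact permP_blk1705
  · exact permP_blk1706
  · exact permP_blk1707
  · exact permP_blk1708
  · exact permP_blk1709
  · exact permP_blk1710
  · exact permP_blk1711
  · exact permP_blk1712
  · exact permP_blk1713
  · exact permP_blk1714
  · exact permP_blk1715
  · exact permP_blk1716
  · exact permP_blk1717
  · exact permP_blk1718
  · exact permP_blk1719
  · exact permP_blk1720
  · exact permP_blk1721
  · exact permP_blk1722
  · exact permP_blk1723
  · exact permP_blk1724
  · exact permP_blk1725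
  · exact permP_blk1726
  · exact permP_blk1727

end Cfsg.Agent.Lib.Helper28.Fi24x306936
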