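import Cfsg.Agent.Lib.Helper28.Fi24x306936.Defs

set_option autoImplicit false
set_option linter.unusedVariables false
set_option Elab.async false

namespace Cfsg.Agent.Lib.Helper28.Fi24x306936

open Cfsg.Spor.Fi24 (Gen)
open Cfsg.Agent.Lib.Helper28.TC
open Cfsg.Agent.Lib.Helper28.TC2

theorem permP_blk1728 : allRange (guard nn permP) 7 (1728 * 2 ^ 7) = true := by decide +kernel
theorem permP_blk1729 : allRange (guard nn permP) 7 (1729 * 2 ^ 7) = true := by decide +kernel
theorem permP_blk1730 : allRange (guard nn permP) 7 (1730 * 2 ^ 7) = true := by decide +kernel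
theorem permP_blk1731 : allRange (guard nn permP) 7 (1731 * 2 ^ 7) = true := by decide +kernel
theorem permP_blk1732 : allRange (guard nn permP) 7 (1732 * 2 ^ 7) = true := by decide +kernel
theorem permP_blk1733 : allRange (guard nn permP) 7 (1733 * 2 ^ 7) = true := by decide +kernel
theorem permP_blk1734 : allRange (guard nn permP) 7 (1734 * 2 ^ 7) = true := by decide +kernel
theorem permP_blk1735 : allRange (guard nn permP) 7 (1735 * 2 ^ 7) = true := by decide +kernel
theorem permP_blk1736 : allRange (guard nn permP) 7 (1736 * 2 ^ 7) = true := by decide +kernel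
theorem permP_blk1737 : allRange (guard nn permP) 7 (1737 * 2 ^ 7) = true := by decide +kernel
theorem permP_blk1738 : allRange (guard nn permP) 7 (1738 * 2 ^ 7) = true := by decide +kernel
theorem permP_blk1739 : allRange (guard nn permP) 7 (1739 * 2 ^ 7) = true := by decide +kernel
theorem permP_blk1740 : allRange (guard nn permP) 7 (1740 * 2 ^ 7) = true := by decide +kernel
theorem permP_blk1741 : allRange (guard nn permP) 7 (1741 * 2 ^ 7) = true := by decide +kernel
theorem permP_blk1742 : allRange (guard nn permP) 7 (1742 * 2 ^ 7) = true := by decide +kernel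
theorem permP_blk1743 : allRange (guard nn permP) 7 (1743 * 2 ^ 7) = true := by decide +kernel
theorem permP_blk1744 : allRange (guard nn permP) 7 (1744 * 2 ^ 7) = true := by decide +kernel
theorem permP_blk1745 : allRange (guard nn permP) 7 (1745 * 2 ^ 7) = true := by decide +kernel
theorem permP_blk1746 : allRange (guard nn permP) 7 (1746 * 2 ^ 7) = true := by decide +kernel
theorem permP_blk1747 : allRange (guard nn permP) 7 (1747 * 2 ^ 7) = true := by decide +kernel
theorem permP_blk1748 : allRange (guard nn permP) 7 (1748 * 2 ^ 7) = true := by decide +kernel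
theorem permP_blk1749 : allRange (guard nn permP) 7 (1749 * 2 ^ 7) = true := by decide +kernel
theorem permP_blk1750 : allRange (guard nn permP) 7 (1750 * 2 ^ 7) = true := by decide +kernel
theorem permP_blk1751 : allRange (guard nn permP) 7 (1751 * 2 ^ 7) = true := by decide +kernel
theorem permP_blk1752 : allRange (guard nn permP) 7 (1752 * 2 ^ 7) = true := by decide +kernel
theorem permP_blk1753 : allRange (guard nn permP) 7 (1753 * 2 ^ 7) = true := by decide +kernel
theorem permP_blk1754 : allRange (guard nn permP) 7 (1754 * 2 ^ 7) = true := by decide +kernel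
theorem permP_blk1755 : allRange (guard nn permP) 7 (1755 * 2 ^ 7) = true := by decide +kernel
theorem permP_blk1756 : allRange (guard nn permP) 7 (1756 * 2 ^ 7) = true := by decide +kernel
theorem permP_blk1757 : allRange (guard nn permP) 7 (1757 * 2 ^ 7) = true := by decide +kernel
theorem permP_blk1758 : allRange (guard nn permP) 7 (1758 * 2 ^ 7) = true := by decide +kernel
theorem permP_blk1759 : allRange (guard nn permP) 7 (1759 * 2 ^ 7) = true := by decide +kernel
theorem permP_blk1760 : allRange (guard nn permP) 7 (1760 * 2 ^ 7) = true := by decide +kernel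
theorem permP_blk1761 : allRange (guard nn permP) 7 (1761 * 2 ^ 7) = true := by decide +kernel
theorem permP_blk1762 : allRange (guard nn permP) 7 (1762 * 2 ^ 7) = true := by decide +kernel
theorem permP_blk1763 : allRange (guard nn permP) 7 (1763 * 2 ^ 7) = true := by decide +kernel
theorem permP_blk1764 : allRange (guard nn permP) 7 (1764 * 2 ^ 7) = true := by decide +kernel
theorem permP_blk1765 : allRange (guard nn permP) 7 (1765 * 2 ^ 7) = true := by decide +kernel
theorem permP_blk1766 : allRange (guard nn permP) 7 (1766 * 2 ^ 7) = true := by decide +kernel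
theorem permP_blk1767 : allRange (guard nn permP) 7 (1767 * 2 ^ 7) = true := by decide +kernel
theorem permP_blk1768 : allRange (guard nn permP) 7 (1768 * 2 ^ 7) = true := by decide +kernel
theorem permP_blk1769 : allRange (guard nn permP) 7 (1769 * 2 ^ 7) = true := by decide +kernel
theorem permP_blk1770 : allRange (guard nn permP) 7 (1770 * 2 ^ 7) = true := by decide +kernel
theorem permP_blk1771 : allRange (guard nn permP) 7 (1771 * 2 ^ 7) = true := by decide +kernel
theorem permP_blk1772 : allRange (guard nn permP) 7 (1772 * 2 ^ 7) = true := by decide +kernel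
theorem permP_blk1773 : allRange (guard nn permP) 7 (1773 * 2 ^ 7) = true := by decide +kernel
theorem permP_blk1774 : allRange (guard nn permP) 7 (1774 * 2 ^ 7) = true := by decide +kernel
theorem permP_blk1775 : allRange (guard nn permP) 7 (1775 * 2 ^ 7) = true := by decide +kernel
theorem permP_blk1776 : allRange (guard nn permP) 7 (1776 * 2 ^ 7) = true := by decide +kernel
theorem permP_blk1777 : allRange (guard nn permP) 7 (1777 * 2 ^ 7) = true := by decide +kernel
theorem permP_blk1778 : allRange (guard nn permP) 7 (1778 * 2 ^ 7) = true := by decide +kernel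
theorem permP_blk1779 : allRange (guard nn permP) 7 (1779 * 2 ^ 7) = true := by decide +kernel
theorem permP_blk1780 : allRange (guard nn permP) 7 (1780 * 2 ^ 7) = true := by decide +kernel
theorem permP_blk1781 : allRange (guard nn permP) 7 (1781 * 2 ^ 7) = true := by decide +kernel
theorem permP_blk1782 : allRange (guard nn permP) 7 (1782 * 2 ^ 7) = true := by decide +kernel
theorem permP_blk1783 : allRange (guard nn permP) 7 (1783 * 2 ^ 7) = true := by decide +kernel
theorem permP_blk1784 : allRange (guard nn permP) 7 (1784 * 2 ^ 7) = true := by decide +kernel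
theorem permP_blk1785 : allRange (guard nn permP) 7 (1785 * 2 ^ 7) = true := by decide +kernel
theorem permP_blk1786 : allRange (guard nn permP) 7 (1786 * 2 ^ 7) = true := by decide +kernel
theorem permP_blk1787 : allRange (guard nn permP) 7 (1787 * 2 ^ 7) = true := by decide +kernel
theorem permP_blk1788 : allRange (guard nn permP) 7 (1788 * 2 ^ 7) = true := by decide +kernel
theorem permP_blk1789 : allRange (guard nn permP) 7 (1789 * 2 ^ 7) = true := by decide +kernel
theorem permP_blk1790 : allRange (guard nn permP) 7 (1790 * 2 ^ 7) = true := by decide +kernel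
theorem permP_blk1791 : allRange (guard nn permP) 7 (1791 * 2 ^ 7) = true := by decide +kernel
theorem permP_f27 : ∀ k, 1728 ≤ k → k < 1792 → allRange (guard nn permP) 7 (k * 2 ^ 7) = true := by
  intro k h1 h2
  interval_cases k
  · exact permP_blk1728
  · exact permP_blk1729
  · exact permP_blk1730
  · exact permP_blk1731
  · exact permP_blk1732
  · exact permP_blk1733
  · exact permP_blk1734
  · exact permP_blk1735
  · exact permP_blk1736
  · exact permP_blk1737
  · exact permP_blk1738
  · exact permP_blk1739
  · exact permP_blk1740
  · exact permP_blk1741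
  · exact permP_blk1742
  · exact permP_blk1743
  · exact permP_blk1744
  · exact permP_blk1745
  · exact permP_blk1746
  · exact permP_blk1747
  · exact permP_blk1748
  · exact permP_blk1749
  · exact permP_blk1750
  · exact permP_blk1751
  · exact permP_blk1752
  · exact permP_blk1753
  · exact permP_blk1754
  · exact permP_blk1755
  · exact permP_blk1756
  · exact permP_blk1757
  · exact permP_blk1758
  · exact permP_blk1759
  · exact permP_blk1760
  · exact permP_blk1761
  · exact permP_blk1762
  · exact permP_blk1763
  · exact permP_blk1764
  · exact permP_blk1765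
  · exact permP_blk1766
  · exact permP_blk1767
  · exact permP_blk1768
  · exact permP_blk1769
  · exact permP_blk1770
  · exact permP_blk1771
  · exact permP_blk1772
  · exact permP_blk1773
  · exact permP_blk1774
  · exact permP_blk1775
  · exact permP_blk1776
  · exact permP_blk1777
  · exact permP_blk1778
  · exact permP_blk1779
  · exact permP_blk1780
  · exact permP_blk1781
  · exact permP_blk1782
  · exact permP_blk1783
  · exact permP_blk1784
  · exact permP_blk1785
  · exact permP_blk1786
  · exact permP_blk1787
  · exact permP_blk1788
  · exact permP_blk1789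
  · exact permP_blk1790
  · exact permP_blk1791

end Cfsg.Agent.Lib.Helper28.Fi24x306936
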