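import Cfsg.Agent.Lib.Helper28.Fi24x306936.Defs

set_option autoImplicit false
set_option linter.unusedVariables false
set_option Elab.async false

namespace Cfsg.Agent.Lib.Helper28.Fi24x306936

open Cfsg.Spor.Fi24 (Gen)
open Cfsg.Agent.Lib.Helper28.TC
open Cfsg.Agent.Lib.Helper28.TC2

theorem permP_blk192 : allRange (guard nn permP) 7 (192 * 2 ^ 7) = true := by decide +kernel
theorem permP_blk193 : allRange (guard nn permP) 7 (193 * 2 ^ 7) = true := by decide +kernel
theorem permP_blk194 : allRange (guard nn permP) 7 (194 * 2 ^ 7) = true := by decide +kernel
theorem permP_blk195 : allRange (guard nn permP) 7 (195 * 2 ^ 7) = true := by decide +kernel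
theorem permP_blk196 : allRange (guard nn permP) 7 (196 * 2 ^ 7) = true := by decide +kernel
theorem permP_blk197 : allRange (guard nn permP) 7 (197 * 2 ^ 7) = true := by decide +kernel
theorem permP_blk198 : allRange (guard nn permP) 7 (198 * 2 ^ 7) = true := by decide +kernel
theorem permP_blk199 : allRange (guard nn permP) 7 (199 * 2 ^ 7) = true := by decide +kernel
theorem permP_blk200 : allRange (guard nn permP) 7 (200 * 2 ^ 7) = true := by decide +kernel
theorem permP_blk201 : allRange (guard nn permP) 7 (201 * 2 ^ 7) = true := by decide +kernel
theorem permP_blk202 : allRange (guard nn permP) 7 (202 * 2 ^ 7) = true := by decide +kernel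
theorem permP_blk203 : allRange (guard nn permP) 7 (203 * 2 ^ 7) = true := by decide +kernel
theorem permP_blk204 : allRange (guard nn permP) 7 (204 * 2 ^ 7) = true := by decide +kernel
theorem permP_blk205 : allRange (guard nn permP) 7 (205 * 2 ^ 7) = true := by decide +kernel
theorem permP_blk206 : allRange (guard nn permP) 7 (206 * 2 ^ 7) = true := by decide +kernel
theorem permP_blk207 : allRange (guard nn permP) 7 (207 * 2 ^ 7) = true := by decide +kernel
theorem permP_blk208 : allRange (guard nn permP) 7 (208 * 2 ^ 7) = true := by decide +kernel
theorem permP_blk209 : allRange (guard nn permP) 7 (209 * 2 ^ 7) = true := by decide +kernel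
theorem permP_blk210 : allRange (guard nn permP) 7 (210 * 2 ^ 7) = true := by decide +kernel
theorem permP_blk211 : allRange (guard nn permP) 7 (211 * 2 ^ 7) = true := by decide +kernel
theorem permP_blk212 : allRange (guard nn permP) 7 (212 * 2 ^ 7) = true := by decide +kernel
theorem permP_blk213 : allRange (guard nn permP) 7 (213 * 2 ^ 7) = true := by decide +kernel
theorem permP_blk214 : allRange (guard nn permP) 7 (214 * 2 ^ 7) = true := by decide +kernel
theorem permP_blk215 : allRange (guard nn permP) 7 (215 * 2 ^ 7) = true := by decide +kernel
theorem permP_blk216 : allRange (guard nn permP) 7 (216 * 2 ^ 7) = true := by decide +kernel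
theorem permP_blk217 : allRange (guard nn permP) 7 (217 * 2 ^ 7) = true := by decide +kernel
theorem permP_blk218 : allRange (guard nn permP) 7 (218 * 2 ^ 7) = true := by decide +kernel
theorem permP_blk219 : allRange (guard nn permP) 7 (219 * 2 ^ 7) = true := by decide +kernel
theorem permP_blk220 : allRange (guard nn permP) 7 (220 * 2 ^ 7) = true := by decide +kernel
theorem permP_blk221 : allRange (guard nn permP) 7 (221 * 2 ^ 7) = true := by decide +kernel
theorem permP_blk222 : allRange (guard nn permP) 7 (222 * 2 ^ 7) = true := by decide +kernel
theorem permP_blk223 : allRange (guard nn permP) 7 (223 * 2 ^ 7) = true := by decide +kernel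
theorem permP_blk224 : allRange (guard nn permP) 7 (224 * 2 ^ 7) = true := by decide +kernel
theorem permP_blk225 : allRange (guard nn permP) 7 (225 * 2 ^ 7) = true := by decide +kernel
theorem permP_blk226 : allRange (guard nn permP) 7 (226 * 2 ^ 7) = true := by decide +kernel
theorem permP_blk227 : allRange (guard nn permP) 7 (227 * 2 ^ 7) = true := by decide +kernel
theorem permP_blk228 : allRange (guard nn permP) 7 (228 * 2 ^ 7) = true := by decide +kernel
theorem permP_blk229 : allRange (guard nn permP) 7 (229 * 2 ^ 7) = true := by decide +kernel
theorem permP_blk230 : allRange (guard nn permP) 7 (230 * 2 ^ 7) = true := by decide +kernel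
theorem permP_blk231 : allRange (guard nn permP) 7 (231 * 2 ^ 7) = true := by decide +kernel
theorem permP_blk232 : allRange (guard nn permP) 7 (232 * 2 ^ 7) = true := by decide +kernel
theorem permP_blk233 : allRange (guard nn permP) 7 (233 * 2 ^ 7) = true := by decide +kernel
theorem permP_blk234 : allRange (guard nn permP) 7 (234 * 2 ^ 7) = true := by decide +kernel
theorem permP_blk235 : allRange (guard nn permP) 7 (235 * 2 ^ 7) = true := by decide +kernel
theorem permP_blk236 : allRange (guard nn permP) 7 (236 * 2 ^ 7) = true := by decide +kernel
theorem permP_blk237 : allRange (guard nn permP) 7 (237 * 2 ^ 7) = true := by decide +kernel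
theorem permP_blk238 : allRange (guard nn permP) 7 (238 * 2 ^ 7) = true := by decide +kernel
theorem permP_blk239 : allRange (guard nn permP) 7 (239 * 2 ^ 7) = true := by decide +kernel
theorem permP_blk240 : allRange (guard nn permP) 7 (240 * 2 ^ 7) = true := by decide +kernel
theorem permP_blk241 : allRange (guard nn permP) 7 (241 * 2 ^ 7) = true := by decide +kernel
theorem permP_blk242 : allRange (guard nn permP) 7 (242 * 2 ^ 7) = true := by decide +kernel
theorem permP_blk243 : allRange (guard nn permP) 7 (243 * 2 ^ 7) = true := by decide +kernel
theorem permP_blk244 : allRange (guard nn permP) 7 (244 * 2 ^ 7) = true := by decide +kernel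
theorem permP_blk245 : allRange (guard nn permP) 7 (245 * 2 ^ 7) = true := by decide +kernel
theorem permP_blk246 : allRange (guard nn permP) 7 (246 * 2 ^ 7) = true := by decide +kernel
theorem permP_blk247 : allRange (guard nn permP) 7 (247 * 2 ^ 7) = true := by decide +kernel
theorem permP_blk248 : allRange (guard nn permP) 7 (248 * 2 ^ 7) = true := by decide +kernel
theorem permP_blk249 : allRange (guard nn permP) 7 (249 * 2 ^ 7) = true := by decide +kernel
theorem permP_blk250 : allRange (guard nn permP) 7 (250 * 2 ^ 7) = true := by decide +kernel
theorem permP_blk251 : allRange (guard nn permP) 7 (251 * 2 ^ 7) = true := by decide +kernel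
theorem permP_blk252 : allRange (guard nn permP) 7 (252 * 2 ^ 7) = true := by decide +kernel
theorem permP_blk253 : allRange (guard nn permP) 7 (253 * 2 ^ 7) = true := by decide +kernel
theorem permP_blk254 : allRange (guard nn permP) 7 (254 * 2 ^ 7) = true := by decide +kernel
theorem permP_blk255 : allRange (guard nn permP) 7 (255 * 2 ^ 7) = true := by decide +kernel
theorem permP_f3 : ∀ k, 192 ≤ k → k < 256 → allRange (guard nn permP) 7 (k * 2 ^ 7) = true := by
  intro k h1 h2
  interval_cases k
  · exact permP_blk192
  · exact permP_blk193
  · exact permP_blk194
  · exact permP_blk195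
  · exact permP_blk196
  · exact permP_blk197
  · exact permP_blk198
  · exact permP_blk199
  · exact permP_blk200
  · exact permP_blk201
  · exact permP_blk202
  · exact permP_blk203
  · exact permP_blk204
  · exact permP_blk205
  · exact permP_blk206
  · exact permP_blk207
  · exact permP_blk208
  · exact permP_blk209
  · exact permP_blk210
  · exact permP_blk211
  · exact permP_blk212
  · exact permP_blk213
  · exact permP_blk214
  · exact permP_blk215
  · exact permP_blk216
  · exact permP_blk217
  · exact permP_blk218
  · exact permP_blk219
  · exact permP_blk220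
  · exact permP_blk221
  · exact permP_blk222
  · exact permP_blk223
  · exact permP_blk224
  · exact permP_blk225
  · exact permP_blk226
  · exact permP_blk227
  · exact permP_blk228
  · exact permP_blk229
  · exact permP_blk230
  · exact permP_blk231
  · exact permP_blk232
  · exact permP_blk233
  · exact permP_blk234
  · exact permP_blk235
  · exact permP_blk236
  · exact permP_blk237
  · exact permP_blk238
  · exact permP_blk239
  · exact permP_blk240
  · exact permP_blk241
  · exact permP_blk242
  · exact permP_blk243
  · exact permP_blk244
  · exact permP_blk245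
  · exact permP_blk246
  · exact permP_blk247
  · exact permP_blk248
  · exact permP_blk249
  · exact permP_blk250
  · exact permP_blk251
  · exact permP_blk252
  · exact permP_blk253
  · exact permP_blk254
  · exact permP_blk255

end Cfsg.Agent.Lib.Helper28.Fi24x306936
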