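import Cfsg.Agent.Lib.Helper28.Fi24x306936.Defs

set_option autoImplicit false
set_option linter.unusedVariables false
set_option Elab.async false

namespace Cfsg.Agent.Lib.Helper28.Fi24x306936

open Cfsg.Spor.Fi24 (Gen)
open Cfsg.Agent.Lib.Helper28.TC
open Cfsg.Agent.Lib.Helper28.TC2

theorem permP_blk1984 : allRange (guard nn permP) 7 (1984 * 2 ^ 7) = true := by decide +kernel
theorem permP_blk1985 : allRange (guard nn permP) 7 (1985 * 2 ^ 7) = true := by decide +kernel
theorem permP_blk1986 : allRange (guard nn permP) 7 (1986 * 2 ^ 7) = true := by decide +kernel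
theorem permP_blk1987 : allRange (guard nn permP) 7 (1987 * 2 ^ 7) = true := by decide +kernel
theorem permP_blk1988 : allRange (guard nn permP) 7 (1988 * 2 ^ 7) = true := by decide +kernel
theorem permP_blk1989 : allRange (guard nn permP) 7 (1989 * 2 ^ 7) = true := by decide +kernel
theorem permP_blk1990 : allRange (guard nn permP) 7 (1990 * 2 ^ 7) = true := by decide +kernel
theorem permP_blk1991 : allRange (guard nn permP) 7 (1991 * 2 ^ 7) = true := by decide +kernel
theorem permP_blk1992 : allRange (guard nn permP) 7 (1992 * 2 ^ 7) = true := by decide +kernel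
theorem permP_blk1993 : allRange (guard nn permP) 7 (1993 * 2 ^ 7) = true := by decide +kernel
theorem permP_blk1994 : allRange (guard nn permP) 7 (1994 * 2 ^ 7) = true := by decide +kernel
theorem permP_blk1995 : allRange (guard nn permP) 7 (1995 * 2 ^ 7) = true := by decide +kernel
theorem permP_blk1996 : allRange (guard nn permP) 7 (1996 * 2 ^ 7) = true := by decide +kernel
theorem permP_blk1997 : allRange (guard nn permP) 7 (1997 * 2 ^ 7) = true := by decide +kernel
theorem permP_blk1998 : allRange (guard nn permP) 7 (1998 * 2 ^ 7) = true := by decide +kernel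
theorem permP_blk1999 : allRange (guard nn permP) 7 (1999 * 2 ^ 7) = true := by decide +kernel
theorem permP_blk2000 : allRange (guard nn permP) 7 (2000 * 2 ^ 7) = true := by decide +kernel
theorem permP_blk2001 : allRange (guard nn permP) 7 (2001 * 2 ^ 7) = true := by decide +kernel
theorem permP_blk2002 : allRange (guard nn permP) 7 (2002 * 2 ^ 7) = true := by decide +kernel
theorem permP_blk2003 : allRange (guard nn permP) 7 (2003 * 2 ^ 7) = true := by decide +kernel
theorem permP_blk2004 : allRange (guard nn permP) 7 (2004 * 2 ^ 7) = true := by decide +kernel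
theorem permP_blk2005 : allRange (guard nn permP) 7 (2005 * 2 ^ 7) = true := by decide +kernel
theorem permP_blk2006 : allRange (guard nn permP) 7 (2006 * 2 ^ 7) = true := by decide +kernel
theorem permP_blk2007 : allRange (guard nn permP) 7 (2007 * 2 ^ 7) = true := by decide +kernel
theorem permP_blk2008 : allRange (guard nn permP) 7 (2008 * 2 ^ 7) = true := by decide +kernel
theorem permP_blk2009 : allRange (guard nn permP) 7 (2009 * 2 ^ 7) = true := by decide +kernel
theorem permP_blk2010 : allRange (guard nn permP) 7 (2010 * 2 ^ 7) = true := by decide +kernel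
theorem permP_blk2011 : allRange (guard nn permP) 7 (2011 * 2 ^ 7) = true := by decide +kernel
theorem permP_blk2012 : allRange (guard nn permP) 7 (2012 * 2 ^ 7) = true := by decide +kernel
theorem permP_blk2013 : allRange (guard nn permP) 7 (2013 * 2 ^ 7) = true := by decide +kernel
theorem permP_blk2014 : allRange (guard nn permP) 7 (2014 * 2 ^ 7) = true := by decide +kernel
theorem permP_blk2015 : allRange (guard nn permP) 7 (2015 * 2 ^ 7) = true := by decide +kernel
theorem permP_blk2016 : allRange (guard nn permP) 7 (2016 * 2 ^ 7) = true := by decide +kernel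
theorem permP_blk2017 : allRange (guard nn permP) 7 (2017 * 2 ^ 7) = true := by decide +kernel
theorem permP_blk2018 : allRange (guard nn permP) 7 (2018 * 2 ^ 7) = true := by decide +kernel
theorem permP_blk2019 : allRange (guard nn permP) 7 (2019 * 2 ^ 7) = true := by decide +kernel
theorem permP_blk2020 : allRange (guard nn permP) 7 (2020 * 2 ^ 7) = true := by decide +kernel
theorem permP_blk2021 : allRange (guard nn permP) 7 (2021 * 2 ^ 7) = true := by decide +kernel
theorem permP_blk2022 : allRange (guard nn permP) 7 (2022 * 2 ^ 7) = true := by decide +kernel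
theorem permP_blk2023 : allRange (guard nn permP) 7 (2023 * 2 ^ 7) = true := by decide +kernel
theorem permP_blk2024 : allRange (guard nn permP) 7 (2024 * 2 ^ 7) = true := by decide +kernel
theorem permP_blk2025 : allRange (guard nn permP) 7 (2025 * 2 ^ 7) = true := by decide +kernel
theorem permP_blk2026 : allRange (guard nn permP) 7 (2026 * 2 ^ 7) = true := by decide +kernel
theorem permP_blk2027 : allRange (guard nn permP) 7 (2027 * 2 ^ 7) = true := by decide +kernel
theorem permP_blk2028 : allRange (guard nn permP) 7 (2028 * 2 ^ 7) = true := by decide +kernel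
theorem permP_blk2029 : allRange (guard nn permP) 7 (2029 * 2 ^ 7) = true := by decide +kernel
theorem permP_blk2030 : allRange (guard nn permP) 7 (2030 * 2 ^ 7) = true := by decide +kernel
theorem permP_blk2031 : allRange (guard nn permP) 7 (2031 * 2 ^ 7) = true := by decide +kernel
theorem permP_blk2032 : allRange (guard nn permP) 7 (2032 * 2 ^ 7) = true := by decide +kernel
theorem permP_blk2033 : allRange (guard nn permP) 7 (2033 * 2 ^ 7) = true := by decide +kernel
theorem permP_blk2034 : allRange (guard nn permP) 7 (2034 * 2 ^ 7) = true := by decide +kernel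
theorem permP_blk2035 : allRange (guard nn permP) 7 (2035 * 2 ^ 7) = true := by decide +kernel
theorem permP_blk2036 : allRange (guard nn permP) 7 (2036 * 2 ^ 7) = true := by decide +kernel
theorem permP_blk2037 : allRange (guard nn permP) 7 (2037 * 2 ^ 7) = true := by decide +kernel
theorem permP_blk2038 : allRange (guard nn permP) 7 (2038 * 2 ^ 7) = true := by decide +kernel
theorem permP_blk2039 : allRange (guard nn permP) 7 (2039 * 2 ^ 7) = true := by decide +kernel
theorem permP_blk2040 : allRange (guard nn permP) 7 (2040 * 2 ^ 7) = true := by decide +kernel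
theorem permP_blk2041 : allRange (guard nn permP) 7 (2041 * 2 ^ 7) = true := by decide +kernel
theorem permP_blk2042 : allRange (guard nn permP) 7 (2042 * 2 ^ 7) = true := by decide +kernel
theorem permP_blk2043 : allRange (guard nn permP) 7 (2043 * 2 ^ 7) = true := by decide +kernel
theorem permP_blk2044 : allRange (guard nn permP) 7 (2044 * 2 ^ 7) = true := by decide +kernel
theorem permP_blk2045 : allRange (guard nn permP) 7 (2045 * 2 ^ 7) = true := by decide +kernel
theorem permP_blk2046 : allRange (guard nn permP) 7 (2046 * 2 ^ 7) = true := by decide +kernel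
theorem permP_blk2047 : allRange (guard nn permP) 7 (2047 * 2 ^ 7) = true := by decide +kernel
theorem permP_f31 : ∀ k, 1984 ≤ k → k < 2048 → allRange (guard nn permP) 7 (k * 2 ^ 7) = true := by
  intro k h1 h2
  interval_cases k
  · exact permP_blk1984
  · exact permP_blk1985
  · exact permP_blk1986
  · exact permP_blk1987
  · exact permP_blk1988
  · exact permP_blk1989
  · exact permP_blk1990
  · exact permP_blk1991
  · exact permP_blk1992
  · exact permP_blk1993
  · exact permP_blk1994
  · exact permP_blk1995
  · exact permP_blk1996
  · exact permP_blk1997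
  · exact permP_blk1998
  · exact permP_blk1999
  · exact permP_blk2000
  · exact permP_blk2001
  · exact permP_blk2002
  · exact permP_blk2003
  · exact permP_blk2004
  · exact permP_blk2005
  · exact permP_blk2006
  · exact permP_blk2007
  · exact permP_blk2008
  · exact permP_blk2009
  · exact permP_blk2010
  · exact permP_blk2011
  · exact permP_blk2012
  · exact permP_blk2013
  · exact permP_blk2014
  · exact permP_blk2015
  · exact permP_blk2016
  · exact permP_blk2017
  · exact permP_blk2018
  · exact permP_blk2019
  · exact permP_blk2020
  · exact permP_blk2021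
  · exact permP_blk2022
  · exact permP_blk2023
  · exact permP_blk2024
  · exact permP_blk2025
  · exact permP_blk2026
  · exact permP_blk2027
  · exact permP_blk2028
  · exact permP_blk2029
  · exact permP_blk2030
  · exact permP_blk2031
  · exact permP_blk2032
  · exact permP_blk2033
  · exact permP_blk2034
  · exact permP_blk2035
  · exact permP_blk2036
  · exact permP_blk2037
  · exact permP_blk2038
  · exact permP_blk2039
  · exact permP_blk2040
  · exact permP_blk2041
  · exact permP_blk2042
  · exact permP_blk2043
  · exact permP_blk2044
  · exact permP_blk2045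
  · exact permP_blk2046
  · exact permP_blk2047

end Cfsg.Agent.Lib.Helper28.Fi24x306936
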