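import Cfsg.Agent.Lib.Helper28.Fi24x306936.Defs

set_option autoImplicit false
set_option linter.unusedVariables false
set_option Elab.async false

namespace Cfsg.Agent.Lib.Helper28.Fi24x306936

open Cfsg.Spor.Fi24 (Gen)
open Cfsg.Agent.Lib.Helper28.TC
open Cfsg.Agent.Lib.Helper28.TC2

theorem permP_blk2112 : allRange (guard nn permP) 7 (2112 * 2 ^ 7) = true := by decide +kernel
theorem permP_blk2113 : allRange (guard nn permP) 7 (2113 * 2 ^ 7) = true := by decide +kernel
theorem permP_blk2114 : allRange (guard nn permP) 7 (2114 * 2 ^ 7) = true := by decide +kernel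
theorem permP_blk2115 : allRange (guard nn permP) 7 (2115 * 2 ^ 7) = true := by decide +kernel
theorem permP_blk2116 : allRange (guard nn permP) 7 (2116 * 2 ^ 7) = true := by decide +kernel
theorem permP_blk2117 : allRange (guard nn permP) 7 (2117 * 2 ^ 7) = true := by decide +kernel
theorem permP_blk2118 : allRange (guard nn permP) 7 (2118 * 2 ^ 7) = true := by decide +kernel
theorem permP_blk2119 : allRange (guard nn permP) 7 (2119 * 2 ^ 7) = true := by decide +kernel
theorem permP_blk2120 : allRange (guard nn permP) 7 (2120 * 2 ^ 7) = true := by decide +kernel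
theorem permP_blk2121 : allRange (guard nn permP) 7 (2121 * 2 ^ 7) = true := by decide +kernel
theorem permP_blk2122 : allRange (guard nn permP) 7 (2122 * 2 ^ 7) = true := by decide +kernel
theorem permP_blk2123 : allRange (guard nn permP) 7 (2123 * 2 ^ 7) = true := by decide +kernel
theorem permP_blk2124 : allRange (guard nn permP) 7 (2124 * 2 ^ 7) = true := by decide +kernel
theorem permP_blk2125 : allRange (guard nn permP) 7 (2125 * 2 ^ 7) = true := by decide +kernel
theorem permP_blk2126 : allRange (guard nn permP) 7 (2126 * 2 ^ 7) = true := by decide +kernel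
theorem permP_blk2127 : allRange (guard nn permP) 7 (2127 * 2 ^ 7) = true := by decide +kernel
theorem permP_blk2128 : allRange (guard nn permP) 7 (2128 * 2 ^ 7) = true := by decide +kernel
theorem permP_blk2129 : allRange (guard nn permP) 7 (2129 * 2 ^ 7) = true := by decide +kernel
theorem permP_blk2130 : allRange (guard nn permP) 7 (2130 * 2 ^ 7) = true := by decide +kernel
theorem permP_blk2131 : allRange (guard nn permP) 7 (2131 * 2 ^ 7) = true := by decide +kernel
theorem permP_blk2132 : allRange (guard nn permP) 7 (2132 * 2 ^ 7) = true := by decide +kernel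
theorem permP_blk2133 : allRange (guard nn permP) 7 (2133 * 2 ^ 7) = true := by decide +kernel
theorem permP_blk2134 : allRange (guard nn permP) 7 (2134 * 2 ^ 7) = true := by decide +kernel
theorem permP_blk2135 : allRange (guard nn permP) 7 (2135 * 2 ^ 7) = true := by decide +kernel
theorem permP_blk2136 : allRange (guard nn permP) 7 (2136 * 2 ^ 7) = true := by decide +kernel
theorem permP_blk2137 : allRange (guard nn permP) 7 (2137 * 2 ^ 7) = true := by decide +kernel
theorem permP_blk2138 : allRange (guard nn permP) 7 (2138 * 2 ^ 7) = true := by decide +kernel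
theorem permP_blk2139 : allRange (guard nn permP) 7 (2139 * 2 ^ 7) = true := by decide +kernel
theorem permP_blk2140 : allRange (guard nn permP) 7 (2140 * 2 ^ 7) = true := by decide +kernel
theorem permP_blk2141 : allRange (guard nn permP) 7 (2141 * 2 ^ 7) = true := by decide +kernel
theorem permP_blk2142 : allRange (guard nn permP) 7 (2142 * 2 ^ 7) = true := by decide +kernel
theorem permP_blk2143 : allRange (guard nn permP) 7 (2143 * 2 ^ 7) = true := by decide +kernel
theorem permP_blk2144 : allRange (guard nn permP) 7 (2144 * 2 ^ 7) = true := by decide +kernel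
theorem permP_blk2145 : allRange (guard nn permP) 7 (2145 * 2 ^ 7) = true := by decide +kernel
theorem permP_blk2146 : allRange (guard nn permP) 7 (2146 * 2 ^ 7) = true := by decide +kernel
theorem permP_blk2147 : allRange (guard nn permP) 7 (2147 * 2 ^ 7) = true := by decide +kernel
theorem permP_blk2148 : allRange (guard nn permP) 7 (2148 * 2 ^ 7) = true := by decide +kernel
theorem permP_blk2149 : allRange (guard nn permP) 7 (2149 * 2 ^ 7) = true := by decide +kernel
theorem permP_blk2150 : allRange (guard nn permP) 7 (2150 * 2 ^ 7) = true := by decide +kernel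
theorem permP_blk2151 : allRange (guard nn permP) 7 (2151 * 2 ^ 7) = true := by decide +kernel
theorem permP_blk2152 : allRange (guard nn permP) 7 (2152 * 2 ^ 7) = true := by decide +kernel
theorem permP_blk2153 : allRange (guard nn permP) 7 (2153 * 2 ^ 7) = true := by decide +kernel
theorem permP_blk2154 : allRange (guard nn permP) 7 (2154 * 2 ^ 7) = true := by decide +kernel
theorem permP_blk2155 : allRange (guard nn permP) 7 (2155 * 2 ^ 7) = true := by decide +kernel
theorem permP_blk2156 : allRange (guard nn permP) 7 (2156 * 2 ^ 7) = true := by decide +kernel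
theorem permP_blk2157 : allRange (guard nn permP) 7 (2157 * 2 ^ 7) = true := by decide +kernel
theorem permP_blk2158 : allRange (guard nn permP) 7 (2158 * 2 ^ 7) = true := by decide +kernel
theorem permP_blk2159 : allRange (guard nn permP) 7 (2159 * 2 ^ 7) = true := by decide +kernel
theorem permP_blk2160 : allRange (guard nn permP) 7 (2160 * 2 ^ 7) = true := by decide +kernel
theorem permP_blk2161 : allRange (guard nn permP) 7 (2161 * 2 ^ 7) = true := by decide +kernel
theorem permP_blk2162 : allRange (guard nn permP) 7 (2162 * 2 ^ 7) = true := by decide +kernel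
theorem permP_blk2163 : allRange (guard nn permP) 7 (2163 * 2 ^ 7) = true := by decide +kernel
theorem permP_blk2164 : allRange (guard nn permP) 7 (2164 * 2 ^ 7) = true := by decide +kernel
theorem permP_blk2165 : allRange (guard nn permP) 7 (2165 * 2 ^ 7) = true := by decide +kernel
theorem permP_blk2166 : allRange (guard nn permP) 7 (2166 * 2 ^ 7) = true := by decide +kernel
theorem permP_blk2167 : allRange (guard nn permP) 7 (2167 * 2 ^ 7) = true := by decide +kernel
theorem permP_blk2168 : allRange (guard nn permP) 7 (2168 * 2 ^ 7) = true := by decide +kernel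
theorem permP_blk2169 : allRange (guard nn permP) 7 (2169 * 2 ^ 7) = true := by decide +kernel
theorem permP_blk2170 : allRange (guard nn permP) 7 (2170 * 2 ^ 7) = true := by decide +kernel
theorem permP_blk2171 : allRange (guard nn permP) 7 (2171 * 2 ^ 7) = true := by decide +kernel
theorem permP_blk2172 : allRange (guard nn permP) 7 (2172 * 2 ^ 7) = true := by decide +kernel
theorem permP_blk2173 : allRange (guard nn permP) 7 (2173 * 2 ^ 7) = true := by decide +kernel
theorem permP_blk2174 : allRange (guard nn permP) 7 (2174 * 2 ^ 7) = true := by decide +kernel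
theorem permP_blk2175 : allRange (guard nn permP) 7 (2175 * 2 ^ 7) = true := by decide +kernel
theorem permP_f33 : ∀ k, 2112 ≤ k → k < 2176 → allRange (guard nn permP) 7 (k * 2 ^ 7) = true := by
  intro k h1 h2
  interval_cases k
  · exact permP_blk2112
  · exact permP_blk2113
  · exact permP_blk2114
  · exact permP_blk2115
  · exact permP_blk2116
  · exact permP_blk2117
  · exact permP_blk2118
  · exact permP_blk2119
  · exact permP_blk2120
  · exact permP_blk2121
  · exact permP_blk2122
  · exact permP_blk2123
  · exact permP_blk2124
  · exact permP_blk2125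
  · exact permP_blk2126
  · exact permP_blk2127
  · exact permP_blk2128
  · exact permP_blk2129
  · exact permP_blk2130
  · exact permP_blk2131
  · exact permP_blk2132
  · exact permP_blk2133
  · exact permP_blk2134
  · exact permP_blk2135
  · exact permP_blk2136
  · exact permP_blk2137
  · exact permP_blk2138
  · exact permP_blk2139
  · exact permP_blk2140
  · exact permP_blk2141
  · exact permP_blk2142
  · exact permP_blk2143
  · exact permP_blk2144
  · exact permP_blk2145
  · exact permP_blk2146
  · exact permP_blk2147
  · exact permP_blk2148
  · exact permP_blk2149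
  · exact permP_blk2150
  · exact permP_blk2151
  · exact permP_blk2152
  · exact permP_blk2153
  · exact permP_blk2154
  · exact permP_blk2155
  · exact permP_blk2156
  · exact permP_blk2157
  · exact permP_blk2158
  · exact permP_blk2159
  · exact permP_blk2160
  · exact permP_blk2161
  · exact permP_blk2162
  · exact permP_blk2163
  · exact permP_blk2164
  · exact permP_blk2165
  · exact permP_blk2166
  · exact permP_blk2167
  · exact permP_blk2168
  · exact permP_blk2169
  · exact permP_blk2170
  · exact permP_blk2171
  · exact permP_blk2172
  · exact permP_blk2173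
  · exact permP_blk2174
  · exact permP_blk2175

end Cfsg.Agent.Lib.Helper28.Fi24x306936
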