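import Cfsg.Agent.Lib.Helper28.Fi24x306936.Defs

set_option autoImplicit false
set_option linter.unusedVariables false
set_option Elab.async false

namespace Cfsg.Agent.Lib.Helper28.Fi24x306936

open Cfsg.Spor.Fi24 (Gen)
open Cfsg.Agent.Lib.Helper28.TC
open Cfsg.Agent.Lib.Helper28.TC2

theorem permP_blk2176 : allRange (guard nn permP) 7 (2176 * 2 ^ 7) = true := by decide +kernel
theorem permP_blk2177 : allRange (guard nn permP) 7 (2177 * 2 ^ 7) = true := by decide +kernel
theorem permP_blk2178 : allRange (guard nn permP) 7 (2178 * 2 ^ 7) = true := by decide +kernel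
theorem permP_blk2179 : allRange (guard nn permP) 7 (2179 * 2 ^ 7) = true := by decide +kernel
theorem permP_blk2180 : allRange (guard nn permP) 7 (2180 * 2 ^ 7) = true := by decide +kernel
theorem permP_blk2181 : allRange (guard nn permP) 7 (2181 * 2 ^ 7) = true := by decide +kernel
theorem permP_blk2182 : allRange (guard nn permP) 7 (2182 * 2 ^ 7) = true := by decide +kernel
theorem permP_blk2183 : allRange (guard nn permP) 7 (2183 * 2 ^ 7) = true := by decide +kernel
theorem permP_blk2184 : allRange (guard nn permP) 7 (2184 * 2 ^ 7) = true := by decide +kernel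
theorem permP_blk2185 : allRange (guard nn permP) 7 (2185 * 2 ^ 7) = true := by decide +kernel
theorem permP_blk2186 : allRange (guard nn permP) 7 (2186 * 2 ^ 7) = true := by decide +kernel
theorem permP_blk2187 : allRange (guard nn permP) 7 (2187 * 2 ^ 7) = true := by decide +kernel
theorem permP_blk2188 : allRange (guard nn permP) 7 (2188 * 2 ^ 7) = true := by decide +kernel
theorem permP_blk2189 : allRange (guard nn permP) 7 (2189 * 2 ^ 7) = true := by decide +kernel
theorem permP_blk2190 : allRange (guard nn permP) 7 (2190 * 2 ^ 7) = true := by decide +kernel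
theorem permP_blk2191 : allRange (guard nn permP) 7 (2191 * 2 ^ 7) = true := by decide +kernel
theorem permP_blk2192 : allRange (guard nn permP) 7 (2192 * 2 ^ 7) = true := by decide +kernel
theorem permP_blk2193 : allRange (guard nn permP) 7 (2193 * 2 ^ 7) = true := by decide +kernel
theorem permP_blk2194 : allRange (guard nn permP) 7 (2194 * 2 ^ 7) = true := by decide +kernel
theorem permP_blk2195 : allRange (guard nn permP) 7 (2195 * 2 ^ 7) = true := by decide +kernel
theorem permP_blk2196 : allRange (guard nn permP) 7 (2196 * 2 ^ 7) = true := by decide +kernel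
theorem permP_blk2197 : allRange (guard nn permP) 7 (2197 * 2 ^ 7) = true := by decide +kernel
theorem permP_blk2198 : allRange (guard nn permP) 7 (2198 * 2 ^ 7) = true := by decide +kernel
theorem permP_blk2199 : allRange (guard nn permP) 7 (2199 * 2 ^ 7) = true := by decide +kernel
theorem permP_blk2200 : allRange (guard nn permP) 7 (2200 * 2 ^ 7) = true := by decide +kernel
theorem permP_blk2201 : allRange (guard nn permP) 7 (2201 * 2 ^ 7) = true := by decide +kernel
theorem permP_blk2202 : allRange (guard nn permP) 7 (2202 * 2 ^ 7) = true := by decide +kernel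
theorem permP_blk2203 : allRange (guard nn permP) 7 (2203 * 2 ^ 7) = true := by decide +kernel
theorem permP_blk2204 : allRange (guard nn permP) 7 (2204 * 2 ^ 7) = true := by decide +kernel
theorem permP_blk2205 : allRange (guard nn permP) 7 (2205 * 2 ^ 7) = true := by decide +kernel
theorem permP_blk2206 : allRange (guard nn permP) 7 (2206 * 2 ^ 7) = true := by decide +kernel
theorem permP_blk2207 : allRange (guard nn permP) 7 (2207 * 2 ^ 7) = true := by decide +kernel
theorem permP_blk2208 : allRange (guard nn permP) 7 (2208 * 2 ^ 7) = true := by decide +kernel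
theorem permP_blk2209 : allRange (guard nn permP) 7 (2209 * 2 ^ 7) = true := by decide +kernel
theorem permP_blk2210 : allRange (guard nn permP) 7 (2210 * 2 ^ 7) = true := by decide +kernel
theorem permP_blk2211 : allRange (guard nn permP) 7 (2211 * 2 ^ 7) = true := by decide +kernel
theorem permP_blk2212 : allRange (guard nn permP) 7 (2212 * 2 ^ 7) = true := by decide +kernel
theorem permP_blk2213 : allRange (guard nn permP) 7 (2213 * 2 ^ 7) = true := by decide +kernel
theorem permP_blk2214 : allRange (guard nn permP) 7 (2214 * 2 ^ 7) = true := by decide +kernel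
theorem permP_blk2215 : allRange (guard nn permP) 7 (2215 * 2 ^ 7) = true := by decide +kernel
theorem permP_blk2216 : allRange (guard nn permP) 7 (2216 * 2 ^ 7) = true := by decide +kernel
theorem permP_blk2217 : allRange (guard nn permP) 7 (2217 * 2 ^ 7) = true := by decide +kernel
theorem permP_blk2218 : allRange (guard nn permP) 7 (2218 * 2 ^ 7) = true := by decide +kernel
theorem permP_blk2219 : allRange (guard nn permP) 7 (2219 * 2 ^ 7) = true := by decide +kernel
theorem permP_blk2220 : allRange (guard nn permP) 7 (2220 * 2 ^ 7) = true := by decide +kernel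
theorem permP_blk2221 : allRange (guard nn permP) 7 (2221 * 2 ^ 7) = true := by decide +kernel
theorem permP_blk2222 : allRange (guard nn permP) 7 (2222 * 2 ^ 7) = true := by decide +kernel
theorem permP_blk2223 : allRange (guard nn permP) 7 (2223 * 2 ^ 7) = true := by decide +kernel
theorem permP_blk2224 : allRange (guard nn permP) 7 (2224 * 2 ^ 7) = true := by decide +kernel
theorem permP_blk2225 : allRange (guard nn permP) 7 (2225 * 2 ^ 7) = true := by decide +kernel
theorem permP_blk2226 : allRange (guard nn permP) 7 (2226 * 2 ^ 7) = true := by decide +kernel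
theorem permP_blk2227 : allRange (guard nn permP) 7 (2227 * 2 ^ 7) = true := by decide +kernel
theorem permP_blk2228 : allRange (guard nn permP) 7 (2228 * 2 ^ 7) = true := by decide +kernel
theorem permP_blk2229 : allRange (guard nn permP) 7 (2229 * 2 ^ 7) = true := by decide +kernel
theorem permP_blk2230 : allRange (guard nn permP) 7 (2230 * 2 ^ 7) = true := by decide +kernel
theorem permP_blk2231 : allRange (guard nn permP) 7 (2231 * 2 ^ 7) = true := by decide +kernel
theorem permP_blk2232 : allRange (guard nn permP) 7 (2232 * 2 ^ 7) = true := by decide +kernel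
theorem permP_blk2233 : allRange (guard nn permP) 7 (2233 * 2 ^ 7) = true := by decide +kernel
theorem permP_blk2234 : allRange (guard nn permP) 7 (2234 * 2 ^ 7) = true := by decide +kernel
theorem permP_blk2235 : allRange (guard nn permP) 7 (2235 * 2 ^ 7) = true := by decide +kernel
theorem permP_blk2236 : allRange (guard nn permP) 7 (2236 * 2 ^ 7) = true := by decide +kernel
theorem permP_blk2237 : allRange (guard nn permP) 7 (2237 * 2 ^ 7) = true := by decide +kernel
theorem permP_blk2238 : allRange (guard nn permP) 7 (2238 * 2 ^ 7) = true := by decide +kernel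
theorem permP_blk2239 : allRange (guard nn permP) 7 (2239 * 2 ^ 7) = true := by decide +kernel
theorem permP_f34 : ∀ k, 2176 ≤ k → k < 2240 → allRange (guard nn permP) 7 (k * 2 ^ 7) = true := by
  intro k h1 h2
  interval_cases k
  · exact permP_blk2176
  · exact permP_blk2177
  · exact permP_blk2178
  · exact permP_blk2179
  · exact permP_blk2180
  · exact permP_blk2181
  · exact permP_blk2182
  · exact permP_blk2183
  · exact permP_blk2184
  · exact permP_blk2185
  · exact permP_blk2186
  · exact permP_blk2187
  · exact permP_blk2188
  · exact permP_blk2189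
  · exact permP_blk2190
  · exact permP_blk2191
  · exact permP_blk2192
  · exact permP_blk2193
  · exact permP_blk2194
  · exact permP_blk2195
  · exact permP_blk2196
  · exact permP_blk2197
  · exact permP_blk2198
  · exact permP_blk2199
  · exact permP_blk2200
  · exact permP_blk2201
  · exact permP_blk2202
  · exact permP_blk2203
  · exact permP_blk2204
  · exact permP_blk2205
  · exact permP_blk2206
  · exact permP_blk2207
  · exact permP_blk2208
  · exact permP_blk2209
  · exact permP_blk2210
  · exact permP_blk2211
  · exact permP_blk2212
  · exact permP_blk2213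
  · exact permP_blk2214
  · exact permP_blk2215
  · exact permP_blk2216
  · exact permP_blk2217
  · exact permP_blk2218
  · exact permP_blk2219
  · exact permP_blk2220
  · exact permP_blk2221
  · exact permP_blk2222
  · exact permP_blk2223
  · exact permP_blk2224
  · exact permP_blk2225
  · exact permP_blk2226
  · exact permP_blk2227
  · exact permP_blk2228
  · exact permP_blk2229
  · exact permP_blk2230
  · exact permP_blk2231
  · exact permP_blk2232
  · exact permP_blk2233
  · exact permP_blk2234
  · exact permP_blk2235
  · exact permP_blk2236
  · exact permP_blk2237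
  · exact permP_blk2238
  · exact permP_blk2239

end Cfsg.Agent.Lib.Helper28.Fi24x306936
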