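import Cfsg.Agent.Lib.Helper28.Fi24x306936.Defs

set_option autoImplicit false
set_option linter.unusedVariables false
set_option Elab.async false

namespace Cfsg.Agent.Lib.Helper28.Fi24x306936

open Cfsg.Spor.Fi24 (Gen)
open Cfsg.Agent.Lib.Helper28.TC
open Cfsg.Agent.Lib.Helper28.TC2

theorem permP_blk2240 : allRange (guard nn permP) 7 (2240 * 2 ^ 7) = true := by decide +kernel
theorem permP_blk2241 : allRange (guard nn permP) 7 (2241 * 2 ^ 7) = true := by decide +kernel
theorem permP_blk2242 : allRange (guard nn permP) 7 (2242 * 2 ^ 7) = true := by decide +kernel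
theorem permP_blk2243 : allRange (guard nn permP) 7 (2243 * 2 ^ 7) = true := by decide +kernel
theorem permP_blk2244 : allRange (guard nn permP) 7 (2244 * 2 ^ 7) = true := by decide +kernel
theorem permP_blk2245 : allRange (guard nn permP) 7 (2245 * 2 ^ 7) = true := by decide +kernel
theorem permP_blk2246 : allRange (guard nn permP) 7 (2246 * 2 ^ 7) = true := by decide +kernel
theorem permP_blk2247 : allRange (guard nn permP) 7 (2247 * 2 ^ 7) = true := by decide +kernel
theorem permP_blk2248 : allRange (guard nn permP) 7 (2248 * 2 ^ 7) = true := by decide +kernel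
theorem permP_blk2249 : allRange (guard nn permP) 7 (2249 * 2 ^ 7) = true := by decide +kernel
theorem permP_blk2250 : allRange (guard nn permP) 7 (2250 * 2 ^ 7) = true := by decide +kernel
theorem permP_blk2251 : allRange (guard nn permP) 7 (2251 * 2 ^ 7) = true := by decide +kernel
theorem permP_blk2252 : allRange (guard nn permP) 7 (2252 * 2 ^ 7) = true := by decide +kernel
theorem permP_blk2253 : allRange (guard nn permP) 7 (2253 * 2 ^ 7) = true := by decide +kernel
theorem permP_blk2254 : allRange (guard nn permP) 7 (2254 * 2 ^ 7) = true := by decide +kernel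
theorem permP_blk2255 : allRange (guard nn permP) 7 (2255 * 2 ^ 7) = true := by decide +kernel
theorem permP_blk2256 : allRange (guard nn permP) 7 (2256 * 2 ^ 7) = true := by decide +kernel
theorem permP_blk2257 : allRange (guard nn permP) 7 (2257 * 2 ^ 7) = true := by decide +kernel
theorem permP_blk2258 : allRange (guard nn permP) 7 (2258 * 2 ^ 7) = true := by decide +kernel
theorem permP_blk2259 : allRange (guard nn permP) 7 (2259 * 2 ^ 7) = true := by decide +kernel
theorem permP_blk2260 : allRange (guard nn permP) 7 (2260 * 2 ^ 7) = true := by decide +kernel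
theorem permP_blk2261 : allRange (guard nn permP) 7 (2261 * 2 ^ 7) = true := by decide +kernel
theorem permP_blk2262 : allRange (guard nn permP) 7 (2262 * 2 ^ 7) = true := by decide +kernel
theorem permP_blk2263 : allRange (guard nn permP) 7 (2263 * 2 ^ 7) = true := by decide +kernel
theorem permP_blk2264 : allRange (guard nn permP) 7 (2264 * 2 ^ 7) = true := by decide +kernel
theorem permP_blk2265 : allRange (guard nn permP) 7 (2265 * 2 ^ 7) = true := by decide +kernel
theorem permP_blk2266 : allRange (guard nn permP) 7 (2266 * 2 ^ 7) = true := by decide +kernel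
theorem permP_blk2267 : allRange (guard nn permP) 7 (2267 * 2 ^ 7) = true := by decide +kernel
theorem permP_blk2268 : allRange (guard nn permP) 7 (2268 * 2 ^ 7) = true := by decide +kernel
theorem permP_blk2269 : allRange (guard nn permP) 7 (2269 * 2 ^ 7) = true := by decide +kernel
theorem permP_blk2270 : allRange (guard nn permP) 7 (2270 * 2 ^ 7) = true := by decide +kernel
theorem permP_blk2271 : allRange (guard nn permP) 7 (2271 * 2 ^ 7) = true := by decide +kernel
theorem permP_blk2272 : allRange (guard nn permP) 7 (2272 * 2 ^ 7) = true := by decide +kernel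
theorem permP_blk2273 : allRange (guard nn permP) 7 (2273 * 2 ^ 7) = true := by decide +kernel
theorem permP_blk2274 : allRange (guard nn permP) 7 (2274 * 2 ^ 7) = true := by decide +kernel
theorem permP_blk2275 : allRange (guard nn permP) 7 (2275 * 2 ^ 7) = true := by decide +kernel
theorem permP_blk2276 : allRange (guard nn permP) 7 (2276 * 2 ^ 7) = true := by decide +kernel
theorem permP_blk2277 : allRange (guard nn permP) 7 (2277 * 2 ^ 7) = true := by decide +kernel
theorem permP_blk2278 : allRange (guard nn permP) 7 (2278 * 2 ^ 7) = true := by decide +kernel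
theorem permP_blk2279 : allRange (guard nn permP) 7 (2279 * 2 ^ 7) = true := by decide +kernel
theorem permP_blk2280 : allRange (guard nn permP) 7 (2280 * 2 ^ 7) = true := by decide +kernel
theorem permP_blk2281 : allRange (guard nn permP) 7 (2281 * 2 ^ 7) = true := by decide +kernel
theorem permP_blk2282 : allRange (guard nn permP) 7 (2282 * 2 ^ 7) = true := by decide +kernel
theorem permP_blk2283 : allRange (guard nn permP) 7 (2283 * 2 ^ 7) = true := by decide +kernel
theorem permP_blk2284 : allRange (guard nn permP) 7 (2284 * 2 ^ 7) = true := by decide +kernel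
theorem permP_blk2285 : allRange (guard nn permP) 7 (2285 * 2 ^ 7) = true := by decide +kernel
theorem permP_blk2286 : allRange (guard nn permP) 7 (2286 * 2 ^ 7) = true := by decide +kernel
theorem permP_blk2287 : allRange (guard nn permP) 7 (2287 * 2 ^ 7) = true := by decide +kernel
theorem permP_blk2288 : allRange (guard nn permP) 7 (2288 * 2 ^ 7) = true := by decide +kernel
theorem permP_blk2289 : allRange (guard nn permP) 7 (2289 * 2 ^ 7) = true := by decide +kernel
theorem permP_blk2290 : allRange (guard nn permP) 7 (2290 * 2 ^ 7) = true := by decide +kernel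
theorem permP_blk2291 : allRange (guard nn permP) 7 (2291 * 2 ^ 7) = true := by decide +kernel
theorem permP_blk2292 : allRange (guard nn permP) 7 (2292 * 2 ^ 7) = true := by decide +kernel
theorem permP_blk2293 : allRange (guard nn permP) 7 (2293 * 2 ^ 7) = true := by decide +kernel
theorem permP_blk2294 : allRange (guard nn permP) 7 (2294 * 2 ^ 7) = true := by decide +kernel
theorem permP_blk2295 : allRange (guard nn permP) 7 (2295 * 2 ^ 7) = true := by decide +kernel
theorem permP_blk2296 : allRange (guard nn permP) 7 (2296 * 2 ^ 7) = true := by decide +kernel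
theorem permP_blk2297 : allRange (guard nn permP) 7 (2297 * 2 ^ 7) = true := by decide +kernel
theorem permP_blk2298 : allRange (guard nn permP) 7 (2298 * 2 ^ 7) = true := by decide +kernel
theorem permP_blk2299 : allRange (guard nn permP) 7 (2299 * 2 ^ 7) = true := by decide +kernel
theorem permP_blk2300 : allRange (guard nn permP) 7 (2300 * 2 ^ 7) = true := by decide +kernel
theorem permP_blk2301 : allRange (guard nn permP) 7 (2301 * 2 ^ 7) = true := by decide +kernel
theorem permP_blk2302 : allRange (guard nn permP) 7 (2302 * 2 ^ 7) = true := by decide +kernel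
theorem permP_blk2303 : allRange (guard nn permP) 7 (2303 * 2 ^ 7) = true := by decide +kernel
theorem permP_f35 : ∀ k, 2240 ≤ k → k < 2304 → allRange (guard nn permP) 7 (k * 2 ^ 7) = true := by
  intro k h1 h2
  interval_cases k
  · exact permP_blk2240
  · exact permP_blk2241
  · exact permP_blk2242
  · exact permP_blk2243
  · exact permP_blk2244
  · exact permP_blk2245
  · exact permP_blk2246
  · exact permP_blk2247
  · exact permP_blk2248
  · exact permP_blk2249
  · exact permP_blk2250
  · exact permP_blk2251
  · exact permP_blk2252
  · exact permP_blk2253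
  · exact permP_blk2254
  · exact permP_blk2255
  · exact permP_blk2256
  · exact permP_blk2257
  · exact permP_blk2258
  · exact permP_blk2259
  · exact permP_blk2260
  · exact permP_blk2261
  · exact permP_blk2262
  · exact permP_blk2263
  · exact permP_blk2264
  · exact permP_blk2265
  · exact permP_blk2266
  · exact permP_blk2267
  · exact permP_blk2268
  · exact permP_blk2269
  · exact permP_blk2270
  · exact permP_blk2271
  · exact permP_blk2272
  · exact permP_blk2273
  · exact permP_blk2274
  · exact permP_blk2275
  · exact permP_blk2276
  · exact permP_blk2277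
  · exact permP_blk2278
  · exact permP_blk2279
  · exact permP_blk2280
  · exact permP_blk2281
  · exact permP_blk2282
  · exact permP_blk2283
  · exact permP_blk2284
  · exact permP_blk2285
  · exact permP_blk2286
  · exact permP_blk2287
  · exact permP_blk2288
  · exact permP_blk2289
  · exact permP_blk2290
  · exact permP_blk2291
  · exact permP_blk2292
  · exact permP_blk2293
  · exact permP_blk2294
  · exact permP_blk2295
  · exact permP_blk2296
  · exact permP_blk2297
  · exact permP_blk2298
  · exact permP_blk2299
  · exact permP_blk2300
  · exact permP_blk2301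
  · exact permP_blk2302
  · exact permP_blk2303

end Cfsg.Agent.Lib.Helper28.Fi24x306936
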