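import Cfsg.Agent.Lib.Helper28.Fi24x306936.Defs

set_option autoImplicit false
set_option linter.unusedVariables false
set_option Elab.async false

namespace Cfsg.Agent.Lib.Helper28.Fi24x306936

open Cfsg.Spor.Fi24 (Gen)
open Cfsg.Agent.Lib.Helper28.TC
open Cfsg.Agent.Lib.Helper28.TC2

theorem permP_blk2304 : allRange (guard nn permP) 7 (2304 * 2 ^ 7) = true := by decide +kernel
theorem permP_blk2305 : allRange (guard nn permP) 7 (2305 * 2 ^ 7) = true := by decide +kernel
theorem permP_blk2306 : allRange (guard nn permP) 7 (2306 * 2 ^ 7) = true := by decide +kernel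
theorem permP_blk2307 : allRange (guard nn permP) 7 (2307 * 2 ^ 7) = true := by decide +kernel
theorem permP_blk2308 : allRange (guard nn permP) 7 (2308 * 2 ^ 7) = true := by decide +kernel
theorem permP_blk2309 : allRange (guard nn permP) 7 (2309 * 2 ^ 7) = true := by decide +kernel
theorem permP_blk2310 : allRange (guard nn permP) 7 (2310 * 2 ^ 7) = true := by decide +kernel
theorem permP_blk2311 : allRange (guard nn permP) 7 (2311 * 2 ^ 7) = true := by decide +kernel
theorem permP_blk2312 : allRange (guard nn permP) 7 (2312 * 2 ^ 7) = true := by decide +kernel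
theorem permP_blk2313 : allRange (guard nn permP) 7 (2313 * 2 ^ 7) = true := by decide +kernel
theorem permP_blk2314 : allRange (guard nn permP) 7 (2314 * 2 ^ 7) = true := by decide +kernel
theorem permP_blk2315 : allRange (guard nn permP) 7 (2315 * 2 ^ 7) = true := by decide +kernel
theorem permP_blk2316 : allRange (guard nn permP) 7 (2316 * 2 ^ 7) = true := by decide +kernel
theorem permP_blk2317 : allRange (guard nn permP) 7 (2317 * 2 ^ 7) = true := by decide +kernel
theorem permP_blk2318 : allRange (guard nn permP) 7 (2318 * 2 ^ 7) = true := by decide +kernel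
theorem permP_blk2319 : allRange (guard nn permP) 7 (2319 * 2 ^ 7) = true := by decide +kernel
theorem permP_blk2320 : allRange (guard nn permP) 7 (2320 * 2 ^ 7) = true := by decide +kernel
theorem permP_blk2321 : allRange (guard nn permP) 7 (2321 * 2 ^ 7) = true := by decide +kernel
theorem permP_blk2322 : allRange (guard nn permP) 7 (2322 * 2 ^ 7) = true := by decide +kernel
theorem permP_blk2323 : allRange (guard nn permP) 7 (2323 * 2 ^ 7) = true := by decide +kernel
theorem permP_blk2324 : allRange (guard nn permP) 7 (2324 * 2 ^ 7) = true := by decide +kernel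
theorem permP_blk2325 : allRange (guard nn permP) 7 (2325 * 2 ^ 7) = true := by decide +kernel
theorem permP_blk2326 : allRange (guard nn permP) 7 (2326 * 2 ^ 7) = true := by decide +kernel
theorem permP_blk2327 : allRange (guard nn permP) 7 (2327 * 2 ^ 7) = true := by decide +kernel
theorem permP_blk2328 : allRange (guard nn permP) 7 (2328 * 2 ^ 7) = true := by decide +kernel
theorem permP_blk2329 : allRange (guard nn permP) 7 (2329 * 2 ^ 7) = true := by decide +kernel
theorem permP_blk2330 : allRange (guard nn permP) 7 (2330 * 2 ^ 7) = true := by decide +kernel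
theorem permP_blk2331 : allRange (guard nn permP) 7 (2331 * 2 ^ 7) = true := by decide +kernel
theorem permP_blk2332 : allRange (guard nn permP) 7 (2332 * 2 ^ 7) = true := by decide +kernel
theorem permP_blk2333 : allRange (guard nn permP) 7 (2333 * 2 ^ 7) = true := by decide +kernel
theorem permP_blk2334 : allRange (guard nn permP) 7 (2334 * 2 ^ 7) = true := by decide +kernel
theorem permP_blk2335 : allRange (guard nn permP) 7 (2335 * 2 ^ 7) = true := by decide +kernel
theorem permP_blk2336 : allRange (guard nn permP) 7 (2336 * 2 ^ 7) = true := by decide +kernel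
theorem permP_blk2337 : allRange (guard nn permP) 7 (2337 * 2 ^ 7) = true := by decide +kernel
theorem permP_blk2338 : allRange (guard nn permP) 7 (2338 * 2 ^ 7) = true := by decide +kernel
theorem permP_blk2339 : allRange (guard nn permP) 7 (2339 * 2 ^ 7) = true := by decide +kernel
theorem permP_blk2340 : allRange (guard nn permP) 7 (2340 * 2 ^ 7) = true := by decide +kernel
theorem permP_blk2341 : allRange (guard nn permP) 7 (2341 * 2 ^ 7) = true := by decide +kernel
theorem permP_blk2342 : allRange (guard nn permP) 7 (2342 * 2 ^ 7) = true := by decide +kernel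
theorem permP_blk2343 : allRange (guard nn permP) 7 (2343 * 2 ^ 7) = true := by decide +kernel
theorem permP_blk2344 : allRange (guard nn permP) 7 (2344 * 2 ^ 7) = true := by decide +kernel
theorem permP_blk2345 : allRange (guard nn permP) 7 (2345 * 2 ^ 7) = true := by decide +kernel
theorem permP_blk2346 : allRange (guard nn permP) 7 (2346 * 2 ^ 7) = true := by decide +kernel
theorem permP_blk2347 : allRange (guard nn permP) 7 (2347 * 2 ^ 7) = true := by decide +kernel
theorem permP_blk2348 : allRange (guard nn permP) 7 (2348 * 2 ^ 7) = true := by decide +kernel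
theorem permP_blk2349 : allRange (guard nn permP) 7 (2349 * 2 ^ 7) = true := by decide +kernel
theorem permP_blk2350 : allRange (guard nn permP) 7 (2350 * 2 ^ 7) = true := by decide +kernel
theorem permP_blk2351 : allRange (guard nn permP) 7 (2351 * 2 ^ 7) = true := by decide +kernel
theorem permP_blk2352 : allRange (guard nn permP) 7 (2352 * 2 ^ 7) = true := by decide +kernel
theorem permP_blk2353 : allRange (guard nn permP) 7 (2353 * 2 ^ 7) = true := by decide +kernel
theorem permP_blk2354 : allRange (guard nn permP) 7 (2354 * 2 ^ 7) = true := by decide +kernel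
theorem permP_blk2355 : allRange (guard nn permP) 7 (2355 * 2 ^ 7) = true := by decide +kernel
theorem permP_blk2356 : allRange (guard nn permP) 7 (2356 * 2 ^ 7) = true := by decide +kernel
theorem permP_blk2357 : allRange (guard nn permP) 7 (2357 * 2 ^ 7) = true := by decide +kernel
theorem permP_blk2358 : allRange (guard nn permP) 7 (2358 * 2 ^ 7) = true := by decide +kernel
theorem permP_blk2359 : allRange (guard nn permP) 7 (2359 * 2 ^ 7) = true := by decide +kernel
theorem permP_blk2360 : allRange (guard nn permP) 7 (2360 * 2 ^ 7) = true := by decide +kernel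
theorem permP_blk2361 : allRange (guard nn permP) 7 (2361 * 2 ^ 7) = true := by decide +kernel
theorem permP_blk2362 : allRange (guard nn permP) 7 (2362 * 2 ^ 7) = true := by decide +kernel
theorem permP_blk2363 : allRange (guard nn permP) 7 (2363 * 2 ^ 7) = true := by decide +kernel
theorem permP_blk2364 : allRange (guard nn permP) 7 (2364 * 2 ^ 7) = true := by decide +kernel
theorem permP_blk2365 : allRange (guard nn permP) 7 (2365 * 2 ^ 7) = true := by decide +kernel
theorem permP_blk2366 : allRange (guard nn permP) 7 (2366 * 2 ^ 7) = true := by decide +kernel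
theorem permP_blk2367 : allRange (guard nn permP) 7 (2367 * 2 ^ 7) = true := by decide +kernel
theorem permP_f36 : ∀ k, 2304 ≤ k → k < 2368 → allRange (guard nn permP) 7 (k * 2 ^ 7) = true := by
  intro k h1 h2
  interval_cases k
  · exact permP_blk2304
  · exact permP_blk2305
  · exact permP_blk2306
  · exact permP_blk2307
  · exact permP_blk2308
  · exact permP_blk2309
  · exact permP_blk2310
  · exact permP_blk2311
  · exact permP_blk2312
  · exact permP_blk2313
  · exact permP_blk2314
  · exact permP_blk2315
  · exact permP_blk2316
  · exact permP_blk2317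
  · exact permP_blk2318
  · exact permP_blk2319
  · exact permP_blk2320
  · exact permP_blk2321
  · exact permP_blk2322
  · exact permP_blk2323
  · exact permP_blk2324
  · exact permP_blk2325
  · exact permP_blk2326
  · exact permP_blk2327
  · exact permP_blk2328
  · exact permP_blk2329
  · exact permP_blk2330
  · exact permP_blk2331
  · exact permP_blk2332
  · exact permP_blk2333
  · exact permP_blk2334
  · exact permP_blk2335
  · exact permP_blk2336
  · exact permP_blk2337
  · exact permP_blk2338
  · exact permP_blk2339
  · exact permP_blk2340
  · exact permP_blk2341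
  · exact permP_blk2342
  · exact permP_blk2343
  · exact permP_blk2344
  · exact permP_blk2345
  · exact permP_blk2346
  · exact permP_blk2347
  · exact permP_blk2348
  · exact permP_blk2349
  · exact permP_blk2350
  · exact permP_blk2351
  · exact permP_blk2352
  · exact permP_blk2353
  · exact permP_blk2354
  · exact permP_blk2355
  · exact permP_blk2356
  · exact permP_blk2357
  · exact permP_blk2358
  · exact permP_blk2359
  · exact permP_blk2360
  · exact permP_blk2361
  · exact permP_blk2362
  · exact permP_blk2363
  · exact permP_blk2364
  · exact permP_blk2365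
  · exact permP_blk2366
  · exact permP_blk2367

end Cfsg.Agent.Lib.Helper28.Fi24x306936
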