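import Cfsg.Agent.Lib.Helper28.Fi24x306936.Defs

set_option autoImplicit false
set_option linter.unusedVariables false
set_option Elab.async false

namespace Cfsg.Agent.Lib.Helper28.Fi24x306936

open Cfsg.Spor.Fi24 (Gen)
open Cfsg.Agent.Lib.Helper28.TC
open Cfsg.Agent.Lib.Helper28.TC2

theorem permP_blk2368 : allRange (guard nn permP) 7 (2368 * 2 ^ 7) = true := by decide +kernel
theorem permP_blk2369 : allRange (guard nn permP) 7 (2369 * 2 ^ 7) = true := by decide +kernel
theorem permP_blk2370 : allRange (guard nn permP) 7 (2370 * 2 ^ 7) = true := by decide +kernel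
theorem permP_blk2371 : allRange (guard nn permP) 7 (2371 * 2 ^ 7) = true := by decide +kernel
theorem permP_blk2372 : allRange (guard nn permP) 7 (2372 * 2 ^ 7) = true := by decide +kernel
theorem permP_blk2373 : allRange (guard nn permP) 7 (2373 * 2 ^ 7) = true := by decide +kernel
theorem permP_blk2374 : allRange (guard nn permP) 7 (2374 * 2 ^ 7) = true := by decide +kernel
theorem permP_blk2375 : allRange (guard nn permP) 7 (2375 * 2 ^ 7) = true := by decide +kernel
theorem permP_blk2376 : allRange (guard nn permP) 7 (2376 * 2 ^ 7) = true := by decide +kernel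
theorem permP_blk2377 : allRange (guard nn permP) 7 (2377 * 2 ^ 7) = true := by decide +kernel
theorem permP_blk2378 : allRange (guard nn permP) 7 (2378 * 2 ^ 7) = true := by decide +kernel
theorem permP_blk2379 : allRange (guard nn permP) 7 (2379 * 2 ^ 7) = true := by decide +kernel
theorem permP_blk2380 : allRange (guard nn permP) 7 (2380 * 2 ^ 7) = true := by decide +kernel
theorem permP_blk2381 : allRange (guard nn permP) 7 (2381 * 2 ^ 7) = true := by decide +kernel
theorem permP_blk2382 : allRange (guard nn permP) 7 (2382 * 2 ^ 7) = true := by decide +kernel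
theorem permP_blk2383 : allRange (guard nn permP) 7 (2383 * 2 ^ 7) = true := by decide +kernel
theorem permP_blk2384 : allRange (guard nn permP) 7 (2384 * 2 ^ 7) = true := by decide +kernel
theorem permP_blk2385 : allRange (guard nn permP) 7 (2385 * 2 ^ 7) = true := by decide +kernel
theorem permP_blk2386 : allRange (guard nn permP) 7 (2386 * 2 ^ 7) = true := by decide +kernel
theorem permP_blk2387 : allRange (guard nn permP) 7 (2387 * 2 ^ 7) = true := by decide +kernel
theorem permP_blk2388 : allRange (guard nn permP) 7 (2388 * 2 ^ 7) = true := by decide +kernel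
theorem permP_blk2389 : allRange (guard nn permP) 7 (2389 * 2 ^ 7) = true := by decide +kernel
theorem permP_blk2390 : allRange (guard nn permP) 7 (2390 * 2 ^ 7) = true := by decide +kernel
theorem permP_blk2391 : allRange (guard nn permP) 7 (2391 * 2 ^ 7) = true := by decide +kernel
theorem permP_blk2392 : allRange (guard nn permP) 7 (2392 * 2 ^ 7) = true := by decide +kernel
theorem permP_blk2393 : allRange (guard nn permP) 7 (2393 * 2 ^ 7) = true := by decide +kernel
theorem permP_blk2394 : allRange (guard nn permP) 7 (2394 * 2 ^ 7) = true := by decide +kernel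
theorem permP_blk2395 : allRange (guard nn permP) 7 (2395 * 2 ^ 7) = true := by decide +kernel
theorem permP_blk2396 : allRange (guard nn permP) 7 (2396 * 2 ^ 7) = true := by decide +kernel
theorem permP_blk2397 : allRange (guard nn permP) 7 (2397 * 2 ^ 7) = true := by decide +kernel
theorem permP_f37 : ∀ k, 2368 ≤ k → k < 2398 → allRange (guard nn permP) 7 (k * 2 ^ 7) = true := by
  intro k h1 h2
  interval_cases k
  · exact permP_blk2368
  · exact permP_blk2369
  · exact permP_blk2370
  · exact permP_blk2371
  · exact permP_blk2372
  · exact permP_blk2373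
  · exact permP_blk2374
  · exact permP_blk2375
  · exact permP_blk2376
  · exact permP_blk2377
  · exact permP_blk2378
  · exact permP_blk2379
  · exact permP_blk2380
  · exact permP_blk2381
  · exact permP_blk2382
  · exact permP_blk2383
  · exact permP_blk2384
  · exact permP_blk2385
  · exact permP_blk2386
  · exact permP_blk2387
  · exact permP_blk2388
  · exact permP_blk2389
  · exact permP_blk2390
  · exact permP_blk2391
  · exact permP_blk2392
  · exact permP_blk2393
  · exact permP_blk2394
  · exact permP_blk2395
  · exact permP_blk2396
  · exact permP_blk2397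

end Cfsg.Agent.Lib.Helper28.Fi24x306936
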