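import Cfsg.Agent.Lib.Helper28.Fi24x306936.Defs

set_option autoImplicit false
set_option linter.unusedVariables false
set_option Elab.async false

namespace Cfsg.Agent.Lib.Helper28.Fi24x306936

open Cfsg.Spor.Fi24 (Gen)
open Cfsg.Agent.Lib.Helper28.TC
open Cfsg.Agent.Lib.Helper28.TC2

theorem permP_blk256 : allRange (guard nn permP) 7 (256 * 2 ^ 7) = true := by decide +kernel
theorem permP_blk257 : allRange (guard nn permP) 7 (257 * 2 ^ 7) = true := by decide +kernel
theorem permP_blk258 : allRange (guard nn permP) 7 (258 * 2 ^ 7) = true := by decide +kernel
theorem permP_blk259 : allRange (guard nn permP) 7 (259 * 2 ^ 7) = true := by decide +kernel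
theorem permP_blk260 : allRange (guard nn permP) 7 (260 * 2 ^ 7) = true := by decide +kernel
theorem permP_blk261 : allRange (guard nn permP) 7 (261 * 2 ^ 7) = true := by decide +kernel
theorem permP_blk262 : allRange (guard nn permP) 7 (262 * 2 ^ 7) = true := by decide +kernel
theorem permP_blk263 : allRange (guard nn permP) 7 (263 * 2 ^ 7) = true := by decide +kernel
theorem permP_blk264 : allRange (guard nn permP) 7 (264 * 2 ^ 7) = true := by decide +kernel
theorem permP_blk265 : allRange (guard nn permP) 7 (265 * 2 ^ 7) = true := by decide +kernel
theorem permP_blk266 : allRange (guard nn permP) 7 (266 * 2 ^ 7) = true := by decide +kernel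
theorem permP_blk267 : allRange (guard nn permP) 7 (267 * 2 ^ 7) = true := by decide +kernel
theorem permP_blk268 : allRange (guard nn permP) 7 (268 * 2 ^ 7) = true := by decide +kernel
theorem permP_blk269 : allRange (guard nn permP) 7 (269 * 2 ^ 7) = true := by decide +kernel
theorem permP_blk270 : allRange (guard nn permP) 7 (270 * 2 ^ 7) = true := by decide +kernel
theorem permP_blk271 : allRange (guard nn permP) 7 (271 * 2 ^ 7) = true := by decide +kernel
theorem permP_blk272 : allRange (guard nn permP) 7 (272 * 2 ^ 7) = true := by decide +kernel
theorem permP_blk273 : allRange (guard nn permP) 7 (273 * 2 ^ 7) = true := by decide +kernel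
theorem permP_blk274 : allRange (guard nn permP) 7 (274 * 2 ^ 7) = true := by decide +kernel
theorem permP_blk275 : allRange (guard nn permP) 7 (275 * 2 ^ 7) = true := by decide +kernel
theorem permP_blk276 : allRange (guard nn permP) 7 (276 * 2 ^ 7) = true := by decide +kernel
theorem permP_blk277 : allRange (guard nn permP) 7 (277 * 2 ^ 7) = true := by decide +kernel
theorem permP_blk278 : allRange (guard nn permP) 7 (278 * 2 ^ 7) = true := by decide +kernel
theorem permP_blk279 : allRange (guard nn permP) 7 (279 * 2 ^ 7) = true := by decide +kernel
theorem permP_blk280 : allRange (guard nn permP) 7 (280 * 2 ^ 7) = true := by decide +kernel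
theorem permP_blk281 : allRange (guard nn permP) 7 (281 * 2 ^ 7) = true := by decide +kernel
theorem permP_blk282 : allRange (guard nn permP) 7 (282 * 2 ^ 7) = true := by decide +kernel
theorem permP_blk283 : allRange (guard nn permP) 7 (283 * 2 ^ 7) = true := by decide +kernel
theorem permP_blk284 : allRange (guard nn permP) 7 (284 * 2 ^ 7) = true := by decide +kernel
theorem permP_blk285 : allRange (guard nn permP) 7 (285 * 2 ^ 7) = true := by decide +kernel
theorem permP_blk286 : allRange (guard nn permP) 7 (286 * 2 ^ 7) = true := by decide +kernel
theorem permP_blk287 : allRange (guard nn permP) 7 (287 * 2 ^ 7) = true := by decide +kernel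
theorem permP_blk288 : allRange (guard nn permP) 7 (288 * 2 ^ 7) = true := by decide +kernel
theorem permP_blk289 : allRange (guard nn permP) 7 (289 * 2 ^ 7) = true := by decide +kernel
theorem permP_blk290 : allRange (guard nn permP) 7 (290 * 2 ^ 7) = true := by decide +kernel
theorem permP_blk291 : allRange (guard nn permP) 7 (291 * 2 ^ 7) = true := by decide +kernel
theorem permP_blk292 : allRange (guard nn permP) 7 (292 * 2 ^ 7) = true := by decide +kernel
theorem permP_blk293 : allRange (guard nn permP) 7 (293 * 2 ^ 7) = true := by decide +kernel
theorem permP_blk294 : allRange (guard nn permP) 7 (294 * 2 ^ 7) = true := by decide +kernel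
theorem permP_blk295 : allRange (guard nn permP) 7 (295 * 2 ^ 7) = true := by decide +kernel
theorem permP_blk296 : allRange (guard nn permP) 7 (296 * 2 ^ 7) = true := by decide +kernel
theorem permP_blk297 : allRange (guard nn permP) 7 (297 * 2 ^ 7) = true := by decide +kernel
theorem permP_blk298 : allRange (guard nn permP) 7 (298 * 2 ^ 7) = true := by decide +kernel
theorem permP_blk299 : allRange (guard nn permP) 7 (299 * 2 ^ 7) = true := by decide +kernel
theorem permP_blk300 : allRange (guard nn permP) 7 (300 * 2 ^ 7) = true := by decide +kernel
theorem permP_blk301 : allRange (guard nn permP) 7 (301 * 2 ^ 7) = true := by decide +kernel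
theorem permP_blk302 : allRange (guard nn permP) 7 (302 * 2 ^ 7) = true := by decide +kernel
theorem permP_blk303 : allRange (guard nn permP) 7 (303 * 2 ^ 7) = true := by decide +kernel
theorem permP_blk304 : allRange (guard nn permP) 7 (304 * 2 ^ 7) = true := by decide +kernel
theorem permP_blk305 : allRange (guard nn permP) 7 (305 * 2 ^ 7) = true := by decide +kernel
theorem permP_blk306 : allRange (guard nn permP) 7 (306 * 2 ^ 7) = true := by decide +kernel
theorem permP_blk307 : allRange (guard nn permP) 7 (307 * 2 ^ 7) = true := by decide +kernel
theorem permP_blk308 : allRange (guard nn permP) 7 (308 * 2 ^ 7) = true := by decide +kernel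
theorem permP_blk309 : allRange (guard nn permP) 7 (309 * 2 ^ 7) = true := by decide +kernel
theorem permP_blk310 : allRange (guard nn permP) 7 (310 * 2 ^ 7) = true := by decide +kernel
theorem permP_blk311 : allRange (guard nn permP) 7 (311 * 2 ^ 7) = true := by decide +kernel
theorem permP_blk312 : allRange (guard nn permP) 7 (312 * 2 ^ 7) = true := by decide +kernel
theorem permP_blk313 : allRange (guard nn permP) 7 (313 * 2 ^ 7) = true := by decide +kernel
theorem permP_blk314 : allRange (guard nn permP) 7 (314 * 2 ^ 7) = true := by decide +kernel
theorem permP_blk315 : allRange (guard nn permP) 7 (315 * 2 ^ 7) = true := by decide +kernel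
theorem permP_blk316 : allRange (guard nn permP) 7 (316 * 2 ^ 7) = true := by decide +kernel
theorem permP_blk317 : allRange (guard nn permP) 7 (317 * 2 ^ 7) = true := by decide +kernel
theorem permP_blk318 : allRange (guard nn permP) 7 (318 * 2 ^ 7) = true := by decide +kernel
theorem permP_blk319 : allRange (guard nn permP) 7 (319 * 2 ^ 7) = true := by decide +kernel
theorem permP_f4 : ∀ k, 256 ≤ k → k < 320 → allRange (guard nn permP) 7 (k * 2 ^ 7) = true := by
  intro k h1 h2
  interval_cases k
  · exact permP_blk256
  · exact permP_blk257
  · exact permP_blk258
  · exact permP_blk259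
  · exact permP_blk260
  · exact permP_blk261
  · exact permP_blk262
  · exact permP_blk263
  · exact permP_blk264
  · exact permP_blk265
  · exact permP_blk266
  · exact permP_blk267
  · exact permP_blk268
  · exact permP_blk269
  · exact permP_blk270
  · exact permP_blk271
  · exact permP_blk272
  · exact permP_blk273
  · exact permP_blk274
  · exact permP_blk275
  · exact permP_blk276
  · exact permP_blk277
  · exact permP_blk278
  · exact permP_blk279
  · exact permP_blk280
  · exact permP_blk281
  · exact permP_blk282
  · exact permP_blk283
  · exact permP_blk284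
  · exact permP_blk285
  · exact permP_blk286
  · exact permP_blk287
  · exact permP_blk288
  · exact permP_blk289
  · exact permP_blk290
  · exact permP_blk291
  · exact permP_blk292
  · exact permP_blk293
  · exact permP_blk294
  · exact permP_blk295
  · exact permP_blk296
  · exact permP_blk297
  · exact permP_blk298
  · exact permP_blk299
  · exact permP_blk300
  · exact permP_blk301
  · exact permP_blk302
  · exact permP_blk303
  · exact permP_blk304
  · exact permP_blk305
  · exact permP_blk306
  · exact permP_blk307
  · exact permP_blk308
  · exact permP_blk309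
  · exact permP_blk310
  · exact permP_blk311
  · exact permP_blk312
  · exact permP_blk313
  · exact permP_blk314
  · exact permP_blk315
  · exact permP_blk316
  · exact permP_blk317
  · exact permP_blk318
  · exact permP_blk319

end Cfsg.Agent.Lib.Helper28.Fi24x306936
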