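import Cfsg.Agent.Lib.Helper28.Fi24x306936.Defs

set_option autoImplicit false
set_option linter.unusedVariables false
set_option Elab.async false

namespace Cfsg.Agent.Lib.Helper28.Fi24x306936

open Cfsg.Spor.Fi24 (Gen)
open Cfsg.Agent.Lib.Helper28.TC
open Cfsg.Agent.Lib.Helper28.TC2

theorem permP_blk448 : allRange (guard nn permP) 7 (448 * 2 ^ 7) = true := by decide +kernel
theorem permP_blk449 : allRange (guard nn permP) 7 (449 * 2 ^ 7) = true := by decide +kernel
theorem permP_blk450 : allRange (guard nn permP) 7 (450 * 2 ^ 7) = true := by decide +kernel
theorem permP_blk451 : allRange (guard nn permP) 7 (451 * 2 ^ 7) = true := by decide +kernel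
theorem permP_blk452 : allRange (guard nn permP) 7 (452 * 2 ^ 7) = true := by decide +kernel
theorem permP_blk453 : allRange (guard nn permP) 7 (453 * 2 ^ 7) = true := by decide +kernel
theorem permP_blk454 : allRange (guard nn permP) 7 (454 * 2 ^ 7) = true := by decide +kernel
theorem permP_blk455 : allRange (guard nn permP) 7 (455 * 2 ^ 7) = true := by decide +kernel
theorem permP_blk456 : allRange (guard nn permP) 7 (456 * 2 ^ 7) = true := by decide +kernel
theorem permP_blk457 : allRange (guard nn permP) 7 (457 * 2 ^ 7) = true := by decide +kernel
theorem permP_blk458 : allRange (guard nn permP) 7 (458 * 2 ^ 7) = true := by decide +kernel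
theorem permP_blk459 : allRange (guard nn permP) 7 (459 * 2 ^ 7) = true := by decide +kernel
theorem permP_blk460 : allRange (guard nn permP) 7 (460 * 2 ^ 7) = true := by decide +kernel
theorem permP_blk461 : allRange (guard nn permP) 7 (461 * 2 ^ 7) = true := by decide +kernel
theorem permP_blk462 : allRange (guard nn permP) 7 (462 * 2 ^ 7) = true := by decide +kernel
theorem permP_blk463 : allRange (guard nn permP) 7 (463 * 2 ^ 7) = true := by decide +kernel
theorem permP_blk464 : allRange (guard nn permP) 7 (464 * 2 ^ 7) = true := by decide +kernel
theorem permP_blk465 : allRange (guard nn permP) 7 (465 * 2 ^ 7) = true := by decide +kernel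
theorem permP_blk466 : allRange (guard nn permP) 7 (466 * 2 ^ 7) = true := by decide +kernel
theorem permP_blk467 : allRange (guard nn permP) 7 (467 * 2 ^ 7) = true := by decide +kernel
theorem permP_blk468 : allRange (guard nn permP) 7 (468 * 2 ^ 7) = true := by decide +kernel
theorem permP_blk469 : allRange (guard nn permP) 7 (469 * 2 ^ 7) = true := by decide +kernel
theorem permP_blk470 : allRange (guard nn permP) 7 (470 * 2 ^ 7) = true := by decide +kernel
theorem permP_blk471 : allRange (guard nn permP) 7 (471 * 2 ^ 7) = true := by decide +kernel
theorem permP_blk472 : allRange (guard nn permP) 7 (472 * 2 ^ 7) = true := by decide +kernel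
theorem permP_blk473 : allRange (guard nn permP) 7 (473 * 2 ^ 7) = true := by decide +kernel
theorem permP_blk474 : allRange (guard nn permP) 7 (474 * 2 ^ 7) = true := by decide +kernel
theorem permP_blk475 : allRange (guard nn permP) 7 (475 * 2 ^ 7) = true := by decide +kernel
theorem permP_blk476 : allRange (guard nn permP) 7 (476 * 2 ^ 7) = true := by decide +kernel
theorem permP_blk477 : allRange (guard nn permP) 7 (477 * 2 ^ 7) = true := by decide +kernel
theorem permP_blk478 : allRange (guard nn permP) 7 (478 * 2 ^ 7) = true := by decide +kernel
theorem permP_blk479 : allRange (guard nn permP) 7 (479 * 2 ^ 7) = true := by decide +kernel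
theorem permP_blk480 : allRange (guard nn permP) 7 (480 * 2 ^ 7) = true := by decide +kernel
theorem permP_blk481 : allRange (guard nn permP) 7 (481 * 2 ^ 7) = true := by decide +kernel
theorem permP_blk482 : allRange (guard nn permP) 7 (482 * 2 ^ 7) = true := by decide +kernel
theorem permP_blk483 : allRange (guard nn permP) 7 (483 * 2 ^ 7) = true := by decide +kernel
theorem permP_blk484 : allRange (guard nn permP) 7 (484 * 2 ^ 7) = true := by decide +kernel
theorem permP_blk485 : allRange (guard nn permP) 7 (485 * 2 ^ 7) = true := by decide +kernel
theorem permP_blk486 : allRange (guard nn permP) 7 (486 * 2 ^ 7) = true := by decide +kernel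
theorem permP_blk487 : allRange (guard nn permP) 7 (487 * 2 ^ 7) = true := by decide +kernel
theorem permP_blk488 : allRange (guard nn permP) 7 (488 * 2 ^ 7) = true := by decide +kernel
theorem permP_blk489 : allRange (guard nn permP) 7 (489 * 2 ^ 7) = true := by decide +kernel
theorem permP_blk490 : allRange (guard nn permP) 7 (490 * 2 ^ 7) = true := by decide +kernel
theorem permP_blk491 : allRange (guard nn permP) 7 (491 * 2 ^ 7) = true := by decide +kernel
theorem permP_blk492 : allRange (guard nn permP) 7 (492 * 2 ^ 7) = true := by decide +kernel
theorem permP_blk493 : allRange (guard nn permP) 7 (493 * 2 ^ 7) = true := by decide +kernel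
theorem permP_blk494 : allRange (guard nn permP) 7 (494 * 2 ^ 7) = true := by decide +kernel
theorem permP_blk495 : allRange (guard nn permP) 7 (495 * 2 ^ 7) = true := by decide +kernel
theorem permP_blk496 : allRange (guard nn permP) 7 (496 * 2 ^ 7) = true := by decide +kernel
theorem permP_blk497 : allRange (guard nn permP) 7 (497 * 2 ^ 7) = true := by decide +kernel
theorem permP_blk498 : allRange (guard nn permP) 7 (498 * 2 ^ 7) = true := by decide +kernel
theorem permP_blk499 : allRange (guard nn permP) 7 (499 * 2 ^ 7) = true := by decide +kernel
theorem permP_blk500 : allRange (guard nn permP) 7 (500 * 2 ^ 7) = true := by decide +kernel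
theorem permP_blk501 : allRange (guard nn permP) 7 (501 * 2 ^ 7) = true := by decide +kernel
theorem permP_blk502 : allRange (guard nn permP) 7 (502 * 2 ^ 7) = true := by decide +kernel
theorem permP_blk503 : allRange (guard nn permP) 7 (503 * 2 ^ 7) = true := by decide +kernel
theorem permP_blk504 : allRange (guard nn permP) 7 (504 * 2 ^ 7) = true := by decide +kernel
theorem permP_blk505 : allRange (guard nn permP) 7 (505 * 2 ^ 7) = true := by decide +kernel
theorem permP_blk506 : allRange (guard nn permP) 7 (506 * 2 ^ 7) = true := by decide +kernel
theorem permP_blk507 : allRange (guard nn permP) 7 (507 * 2 ^ 7) = true := by decide +kernel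
theorem permP_blk508 : allRange (guard nn permP) 7 (508 * 2 ^ 7) = true := by decide +kernel
theorem permP_blk509 : allRange (guard nn permP) 7 (509 * 2 ^ 7) = true := by decide +kernel
theorem permP_blk510 : allRange (guard nn permP) 7 (510 * 2 ^ 7) = true := by decide +kernel
theorem permP_blk511 : allRange (guard nn permP) 7 (511 * 2 ^ 7) = true := by decide +kernel
theorem permP_f7 : ∀ k, 448 ≤ k → k < 512 → allRange (guard nn permP) 7 (k * 2 ^ 7) = true := by
  intro k h1 h2
  interval_cases k
  · exact permP_blk448
  · exact permP_blk449
  · exact permP_blk450
  · exact permP_blk451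
  · exact permP_blk452
  · exact permP_blk453
  · exact permP_blk454
  · exact permP_blk455
  · exact permP_blk456
  · exact permP_blk457
  · exact permP_blk458
  · exact permP_blk459
  · exact permP_blk460
  · exact permP_blk461
  · exact permP_blk462
  · exact permP_blk463
  · exact permP_blk464
  · exact permP_blk465
  · exact permP_blk466
  · exact permP_blk467
  · exact permP_blk468
  · exact permP_blk469
  · exact permP_blk470
  · exact permP_blk471
  · exact permP_blk472
  · exact permP_blk473
  · exact permP_blk474
  · exact permP_blk475
  · exact permP_blk476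
  · exact permP_blk477
  · exact permP_blk478
  · exact permP_blk479
  · exact permP_blk480
  · exact permP_blk481
  · exact permP_blk482
  · exact permP_blk483
  · exact permP_blk484
  · exact permP_blk485
  · exact permP_blk486
  · exact permP_blk487
  · exact permP_blk488
  · exact permP_blk489
  · exact permP_blk490
  · exact permP_blk491
  · exact permP_blk492
  · exact permP_blk493
  · exact permP_blk494
  · exact permP_blk495
  · exact permP_blk496
  · exact permP_blk497
  · exact permP_blk498
  · exact permP_blk499
  · exact permP_blk500
  · exact permP_blk501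
  · exact permP_blk502
  · exact permP_blk503
  · exact permP_blk504
  · exact permP_blk505
  · exact permP_blk506
  · exact permP_blk507
  · exact permP_blk508
  · exact permP_blk509
  · exact permP_blk510
  · exact permP_blk511

end Cfsg.Agent.Lib.Helper28.Fi24x306936
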