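import Cfsg.Agent.Lib.Helper28.Fi24x306936.ChkP0
import Cfsg.Agent.Lib.Helper28.Fi24x306936.ChkP1
import Cfsg.Agent.Lib.Helper28.Fi24x306936.ChkP2
import Cfsg.Agent.Lib.Helper28.Fi24x306936.ChkP3
import Cfsg.Agent.Lib.Helper28.Fi24x306936.ChkP4
import Cfsg.Agent.Lib.Helper28.Fi24x306936.ChkP5
import Cfsg.Agent.Lib.Helper28.Fi24x306936.ChkP6
import Cfsg.Agent.Lib.Helper28.Fi24x306936.ChkP7
import Cfsg.Agent.Lib.Helper28.Fi24x306936.ChkP8
import Cfsg.Agent.Lib.Helper28.Fi24x306936.ChkP9
import Cfsg.Agent.Lib.Helper28.Fi24x306936.ChkP10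
import Cfsg.Agent.Lib.Helper28.Fi24x306936.ChkP11
import Cfsg.Agent.Lib.Helper28.Fi24x306936.ChkP12
import Cfsg.Agent.Lib.Helper28.Fi24x306936.ChkP13
import Cfsg.Agent.Lib.Helper28.Fi24x306936.ChkP14
import Cfsg.Agent.Lib.Helper28.Fi24x306936.ChkP15
import Cfsg.Agent.Lib.Helper28.Fi24x306936.ChkP16
import Cfsg.Agent.Lib.Helper28.Fi24x306936.ChkP17
import Cfsg.Agent.Lib.Helper28.Fi24x306936.ChkP18
import Cfsg.Agent.Lib.Helper28.Fi24x306936.ChkP19
import Cfsg.Agent.Lib.Helper28.Fi24x306936.ChkP20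
import Cfsg.Agent.Lib.Helper28.Fi24x306936.ChkP21
import Cfsg.Agent.Lib.Helper28.Fi24x306936.ChkP22
import Cfsg.Agent.Lib.Helper28.Fi24x306936.ChkP23
import Cfsg.Agent.Lib.Helper28.Fi24x306936.ChkP24
import Cfsg.Agent.Lib.Helper28.Fi24x306936.ChkP25
import Cfsg.Agent.Lib.Helper28.Fi24x306936.ChkP26
import Cfsg.Agent.Lib.Helper28.Fi24x306936.ChkP27
import Cfsg.Agent.Lib.Helper28.Fi24x306936.ChkP28
import Cfsg.Agent.Lib.Helper28.Fi24x306936.ChkP29
import Cfsg.Agent.Lib.Helper28.Fi24x306936.ChkP30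
import Cfsg.Agent.Lib.Helper28.Fi24x306936.ChkP31
import Cfsg.Agent.Lib.Helper28.Fi24x306936.ChkP32
import Cfsg.Agent.Lib.Helper28.Fi24x306936.ChkP33
import Cfsg.Agent.Lib.Helper28.Fi24x306936.ChkP34
import Cfsg.Agent.Lib.Helper28.Fi24x306936.ChkP35
import Cfsg.Agent.Lib.Helper28.Fi24x306936.ChkP36
import Cfsg.Agent.Lib.Helper28.Fi24x306936.ChkP37
import Cfsg.Agent.Lib.Helper28.Fi24x306936.ChkF0
import Cfsg.Agent.Lib.Helper28.Fi24x306936.ChkF1
import Cfsg.Agent.Lib.Helper28.Fi24x306936.ChkF2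
import Cfsg.Agent.Lib.Helper28.Fi24x306936.ChkF3
import Cfsg.Agent.Lib.Helper28.Fi24x306936.ChkF4
import Cfsg.Agent.Lib.Helper28.Fi24x306936.ChkF5
import Cfsg.Agent.Lib.Helper28.Fi24x306936.ChkF6
import Cfsg.Agent.Lib.Helper28.Fi24x306936.ChkF7
import Cfsg.Agent.Lib.Helper28.Fi24x306936.ChkF8
import Cfsg.Agent.Lib.Helper28.Fi24x306936.ChkF9
import Cfsg.Agent.Lib.Helper28.Fi24x306936.ChkF10
import Cfsg.Agent.Lib.Helper28.Fi24x306936.ChkF11
import Cfsg.Agent.Lib.Helper28.Fi24x306936.ChkF12
import Cfsg.Agent.Lib.Helper28.Fi24x306936.ChkF13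
import Cfsg.Agent.Lib.Helper28.Fi24x306936.ChkF14
import Cfsg.Agent.Lib.Helper28.Fi24x306936.ChkF15
import Cfsg.Agent.Lib.Helper28.Fi24x306936.ChkF16
import Cfsg.Agent.Lib.Helper28.Fi24x306936.ChkF17
import Cfsg.Agent.Lib.Helper28.Fi24x306936.ChkF18
import Cfsg.Agent.Lib.Helper28.Fi24x306936.ChkF19
import Cfsg.Agent.Lib.Helper28.Fi24x306936.ChkF20
import Cfsg.Agent.Lib.Helper28.Fi24x306936.ChkF21
import Cfsg.Agent.Lib.Helper28.Fi24x306936.ChkF22
import Cfsg.Agent.Lib.Helper28.Fi24x306936.ChkF23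
import Cfsg.Agent.Lib.Helper28.Fi24x306936.ChkF24
import Cfsg.Agent.Lib.Helper28.Fi24x306936.ChkF25
import Cfsg.Agent.Lib.Helper28.Fi24x306936.ChkF26
import Cfsg.Agent.Lib.Helper28.Fi24x306936.ChkF27
import Cfsg.Agent.Lib.Helper28.Fi24x306936.ChkF28
import Cfsg.Agent.Lib.Helper28.Fi24x306936.ChkF29
import Cfsg.Agent.Lib.Helper28.Fi24x306936.ChkF30
import Cfsg.Agent.Lib.Helper28.Fi24x306936.ChkF31
import Cfsg.Agent.Lib.Helper28.Fi24x306936.ChkF32
import Cfsg.Agent.Lib.Helper28.Fi24x306936.ChkF33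
import Cfsg.Agent.Lib.Helper28.Fi24x306936.ChkF34
import Cfsg.Agent.Lib.Helper28.Fi24x306936.ChkF35
import Cfsg.Agent.Lib.Helper28.Fi24x306936.ChkF36
import Cfsg.Agent.Lib.Helper28.Fi24x306936.ChkF37
import Cfsg.Agent.Lib.Helper28.Fi24x306936.ChkF38
import Cfsg.Agent.Lib.Helper28.Fi24x306936.ChkF39
import Cfsg.Agent.Lib.Helper28.Fi24x306936.ChkF40
import Cfsg.Agent.Lib.Helper28.Fi24x306936.ChkF41
import Cfsg.Agent.Lib.Helper28.Fi24x306936.ChkF42
import Cfsg.Agent.Lib.Helper28.Fi24x306936.ChkC0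
import Cfsg.Agent.Lib.Helper28.Fi24x306936.ChkC1
import Cfsg.Agent.Lib.Helper28.Fi24x306936.ChkC2
import Cfsg.Agent.Lib.Helper28.Fi24x306936.ChkC3
import Cfsg.Agent.Lib.Helper28.Fi24x306936.ChkC4
import Cfsg.Agent.Lib.Helper28.Fi24x306936.ChkC5
import Cfsg.Agent.Lib.Helper28.Fi24x306936.ChkC6
import Cfsg.Agent.Lib.Helper28.Fi24x306936.ChkC7
import Cfsg.Agent.Lib.Helper28.Fi24x306936.ChkC8
import Cfsg.Agent.Lib.Helper28.Fi24x306936.ChkC9

set_option autoImplicit false
set_option linter.unusedVariables false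

namespace Cfsg.Agent.Lib.Helper28.Fi24x306936

open Cfsg.Spor.Fi24 (Gen)
open Cfsg.Agent.Lib.Helper28.TC
open Cfsg.Agent.Lib.Helper28.TC2

def NNpad : ℕ := 350208
theorem permP_allk : ∀ k, k < 2398 → allRange (guard nn permP) 7 (k * 2 ^ 7) = true := by
  intro k hk
  by_cases h0 : k < 64
  · exact permP_f0 k (by omega) h0
  by_cases h1 : k < 128
  · exact permP_f1 k (by omega) h1
  by_cases h2 : k < 192
  · exact permP_f2 k (by omega) h2
  by_cases h3 : k < 256
  · exact permP_f3 k (by omega) h3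
  by_cases h4 : k < 320
  · exact permP_f4 k (by omega) h4
  by_cases h5 : k < 384
  · exact permP_f5 k (by omega) h5
  by_cases h6 : k < 448
  · exact permP_f6 k (by omega) h6
  by_cases h7 : k < 512
  · exact permP_f7 k (by omega) h7
  by_cases h8 : k < 576
  · exact permP_f8 k (by omega) h8
  by_cases h9 : k < 640
  · exact permP_f9 k (by omega) h9
  by_cases h10 : k < 704
  · exact permP_f10 k (by omega) h10
  by_cases h11 : k < 768
  · exact permP_f11 k (by omega) h11
  by_cases h12 : k < 832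
  · exact permP_f12 k (by omega) h12
  by_cases h13 : k < 896
  · exact permP_f13 k (by omega) h13
  by_cases h14 : k < 960
  · exact permP_f14 k (by omega) h14
  by_cases h15 : k < 1024
  · exact permP_f15 k (by omega) h15
  by_cases h16 : k < 1088
  · exact permP_f16 k (by omega) h16
  by_cases h17 : k < 1152
  · exact permP_f17 k (by omega) h17
  by_cases h18 : k < 1216
  · exact permP_f18 k (by omega) h18
  by_cases h19 : k < 1280
  · exact permP_f19 k (by omega) h19
  by_cases h20 : k < 1344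
  · exact permP_f20 k (by omega) h20
  by_cases h21 : k < 1408
  · exact permP_f21 k (by omega) h21
  by_cases h22 : k < 1472
  · exact permP_f22 k (by omega) h22
  by_cases h23 : k < 1536
  · exact permP_f23 k (by omega) h23
  by_cases h24 : k < 1600
  · exact permP_f24 k (by omega) h24
  by_cases h25 : k < 1664
  · exact permP_f25 k (by omega) h25
  by_cases h26 : k < 1728
  · exact permP_f26 k (by omega) h26
  by_cases h27 : k < 1792
  · exact permP_f27 k (by omega) h27
  by_cases h28 : k < 1856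
  · exact permP_f28 k (by omega) h28
  by_cases h29 : k < 1920
  · exact permP_f29 k (by omega) h29
  by_cases h30 : k < 1984
  · exact permP_f30 k (by omega) h30
  by_cases h31 : k < 2048
  · exact permP_f31 k (by omega) h31
  by_cases h32 : k < 2112
  · exact permP_f32 k (by omega) h32
  by_cases h33 : k < 2176
  · exact permP_f33 k (by omega) h33
  by_cases h34 : k < 2240
  · exact permP_f34 k (by omega) h34
  by_cases h35 : k < 2304
  · exact permP_f35 k (by omega) h35
  by_cases h36 : k < 2368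
  · exact permP_f36 k (by omega) h36
  by_cases h37 : k < 2398
  · exact permP_f37 k (by omega) h37
  omega
theorem permP_all : ∀ i, i < nn → permP i = true :=
  all_of_blocks nn permP 7 2398 (by decide) permP_allk

theorem factP_allk : ∀ k, k < 2736 → allRange factP 7 (k * 2 ^ 7) = true := by
  intro k hk
  by_cases h0 : k < 64
  · exact factP_f0 k (by omega) h0
  by_cases h1 : k < 128
  · exact factP_f1 k (by omega) h1
  by_cases h2 : k < 192
  · exact factP_f2 k (by omega) h2
  by_cases h3 : k < 256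
  · exact factP_f3 k (by omega) h3
  by_cases h4 : k < 320
  · exact factP_f4 k (by omega) h4
  by_cases h5 : k < 384
  · exact factP_f5 k (by omega) h5
  by_cases h6 : k < 448
  · exact factP_f6 k (by omega) h6
  by_cases h7 : k < 512
  · exact factP_f7 k (by omega) h7
  by_cases h8 : k < 576
  · exact factP_f8 k (by omega) h8
  by_cases h9 : k < 640
  · exact factP_f9 k (by omega) h9
  by_cases h10 : k < 704
  · exact factP_f10 k (by omega) h10
  by_cases h11 : k < 768
  · exact factP_f11 k (by omega) h11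
  by_cases h12 : k < 832
  · exact factP_f12 k (by omega) h12
  by_cases h13 : k < 896
  · exact factP_f13 k (by omega) h13
  by_cases h14 : k < 960
  · exact factP_f14 k (by omega) h14
  by_cases h15 : k < 1024
  · exact factP_f15 k (by omega) h15
  by_cases h16 : k < 1088
  · exact factP_f16 k (by omega) h16
  by_cases h17 : k < 1152
  · exact factP_f17 k (by omega) h17
  by_cases h18 : k < 1216
  · exact factP_f18 k (by omega) h18
  by_cases h19 : k < 1280
  · exact factP_f19 k (by omega) h19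
  by_cases h20 : k < 1344
  · exact factP_f20 k (by omega) h20
  by_cases h21 : k < 1408
  · exact factP_f21 k (by omega) h21
  by_cases h22 : k < 1472
  · exact factP_f22 k (by omega) h22
  by_cases h23 : k < 1536
  · exact factP_f23 k (by omega) h23
  by_cases h24 : k < 1600
  · exact factP_f24 k (by omega) h24
  by_cases h25 : k < 1664
  · exact factP_f25 k (by omega) h25
  by_cases h26 : k < 1728
  · exact factP_f26 k (by omega) h26
  by_cases h27 : k < 1792
  · exact factP_f27 k (by omega) h27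
  by_cases h28 : k < 1856
  · exact factP_f28 k (by omega) h28
  by_cases h29 : k < 1920
  · exact factP_f29 k (by omega) h29
  by_cases h30 : k < 1984
  · exact factP_f30 k (by omega) h30
  by_cases h31 : k < 2048
  · exact factP_f31 k (by omega) h31
  by_cases h32 : k < 2112
  · exact factP_f32 k (by omega) h32
  by_cases h33 : k < 2176
  · exact factP_f33 k (by omega) h33
  by_cases h34 : k < 2240
  · exact factP_f34 k (by omega) h34
  by_cases h35 : k < 2304
  · exact factP_f35 k (by omega) h35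
  by_cases h36 : k < 2368
  · exact factP_f36 k (by omega) h36
  by_cases h37 : k < 2432
  · exact factP_f37 k (by omega) h37
  by_cases h38 : k < 2496
  · exact factP_f38 k (by omega) h38
  by_cases h39 : k < 2560
  · exact factP_f39 k (by omega) h39
  by_cases h40 : k < 2624
  · exact factP_f40 k (by omega) h40
  by_cases h41 : k < 2688
  · exact factP_f41 k (by omega) h41
  by_cases h42 : k < 2736
  · exact factP_f42 k (by omega) h42
  omega
theorem factP_all : ∀ i, i < NNpad → factP i = true :=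
  allBlocks_spec factP 7 2736 factP_allk

theorem closedP_allk : ∀ k, k < 1199 → allRange (guard nn closedP) 8 (k * 2 ^ 8) = true := by
  intro k hk
  by_cases h0 : k < 128
  · exact closedP_f0 k (by omega) h0
  by_cases h1 : k < 256
  · exact closedP_f1 k (by omega) h1
  by_cases h2 : k < 384
  · exact closedP_f2 k (by omega) h2
  by_cases h3 : k < 512
  · exact closedP_f3 k (by omega) h3
  by_cases h4 : k < 640
  · exact closedP_f4 k (by omega) h4
  by_cases h5 : k < 768
  · exact closedP_f5 k (by omega) h5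
  by_cases h6 : k < 896
  · exact closedP_f6 k (by omega) h6
  by_cases h7 : k < 1024
  · exact closedP_f7 k (by omega) h7
  by_cases h8 : k < 1152
  · exact closedP_f8 k (by omega) h8
  by_cases h9 : k < 1199
  · exact closedP_f9 k (by omega) h9
  omega
theorem closedP_all : ∀ i, i < nn → closedP i = true :=
  all_of_blocks nn closedP 8 1199 (by decide) closedP_allk

theorem subFix : ∀ e ∈ subE, act tf (evalW2 emb binv e) 0 = 0 := by decide +kernel

end Cfsg.Agent.Lib.Helper28.Fi24x306936
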