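import Cfsg.Agent.Lib.Helper28.Fi24x306936.Defs

set_option autoImplicit false
set_option linter.unusedVariables false
set_option Elab.async false

namespace Cfsg.Agent.Lib.Helper28.Fi24x306936

open Cfsg.Spor.Fi24 (Gen)
open Cfsg.Agent.Lib.Helper28.TC
open Cfsg.Agent.Lib.Helper28.TC2

theorem factP_blk832 : allRange factP 7 (832 * 2 ^ 7) = true := by decide +kernel
theorem factP_blk833 : allRange factP 7 (833 * 2 ^ 7) = true := by decide +kernel
theorem factP_blk834 : allRange factP 7 (834 * 2 ^ 7) = true := by decide +kernel
theorem factP_blk835 : allRange factP 7 (835 * 2 ^ 7) = true := by decide +kernel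
theorem factP_blk836 : allRange factP 7 (836 * 2 ^ 7) = true := by decide +kernel
theorem factP_blk837 : allRange factP 7 (837 * 2 ^ 7) = true := by decide +kernel
theorem factP_blk838 : allRange factP 7 (838 * 2 ^ 7) = true := by decide +kernel
theorem factP_blk839 : allRange factP 7 (839 * 2 ^ 7) = true := by decide +kernel
theorem factP_blk840 : allRange factP 7 (840 * 2 ^ 7) = true := by decide +kernel
theorem factP_blk841 : allRange factP 7 (841 * 2 ^ 7) = true := by decide +kernel
theorem factP_blk842 : allRange factP 7 (842 * 2 ^ 7) = true := by decide +kernel
theorem factP_blk843 : allRange factP 7 (843 * 2 ^ 7) = true := by decide +kernel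
theorem factP_blk844 : allRange factP 7 (844 * 2 ^ 7) = true := by decide +kernel
theorem factP_blk845 : allRange factP 7 (845 * 2 ^ 7) = true := by decide +kernel
theorem factP_blk846 : allRange factP 7 (846 * 2 ^ 7) = true := by decide +kernel
theorem factP_blk847 : allRange factP 7 (847 * 2 ^ 7) = true := by decide +kernel
theorem factP_blk848 : allRange factP 7 (848 * 2 ^ 7) = true := by decide +kernel
theorem factP_blk849 : allRange factP 7 (849 * 2 ^ 7) = true := by decide +kernel
theorem factP_blk850 : allRange factP 7 (850 * 2 ^ 7) = true := by decide +kernel
theorem factP_blk851 : allRange factP 7 (851 * 2 ^ 7) = true := by decide +kernel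
theorem factP_blk852 : allRange factP 7 (852 * 2 ^ 7) = true := by decide +kernel
theorem factP_blk853 : allRange factP 7 (853 * 2 ^ 7) = true := by decide +kernel
theorem factP_blk854 : allRange factP 7 (854 * 2 ^ 7) = true := by decide +kernel
theorem factP_blk855 : allRange factP 7 (855 * 2 ^ 7) = true := by decide +kernel
theorem factP_blk856 : allRange factP 7 (856 * 2 ^ 7) = true := by decide +kernel
theorem factP_blk857 : allRange factP 7 (857 * 2 ^ 7) = true := by decide +kernel
theorem factP_blk858 : allRange factP 7 (858 * 2 ^ 7) = true := by decide +kernel
theorem factP_blk859 : allRange factP 7 (859 * 2 ^ 7) = true := by decide +kernel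
theorem factP_blk860 : allRange factP 7 (860 * 2 ^ 7) = true := by decide +kernel
theorem factP_blk861 : allRange factP 7 (861 * 2 ^ 7) = true := by decide +kernel
theorem factP_blk862 : allRange factP 7 (862 * 2 ^ 7) = true := by decide +kernel
theorem factP_blk863 : allRange factP 7 (863 * 2 ^ 7) = true := by decide +kernel
theorem factP_blk864 : allRange factP 7 (864 * 2 ^ 7) = true := by decide +kernel
theorem factP_blk865 : allRange factP 7 (865 * 2 ^ 7) = true := by decide +kernel
theorem factP_blk866 : allRange factP 7 (866 * 2 ^ 7) = true := by decide +kernel
theorem factP_blk867 : allRange factP 7 (867 * 2 ^ 7) = true := by decide +kernel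
theorem factP_blk868 : allRange factP 7 (868 * 2 ^ 7) = true := by decide +kernel
theorem factP_blk869 : allRange factP 7 (869 * 2 ^ 7) = true := by decide +kernel
theorem factP_blk870 : allRange factP 7 (870 * 2 ^ 7) = true := by decide +kernel
theorem factP_blk871 : allRange factP 7 (871 * 2 ^ 7) = true := by decide +kernel
theorem factP_blk872 : allRange factP 7 (872 * 2 ^ 7) = true := by decide +kernel
theorem factP_blk873 : allRange factP 7 (873 * 2 ^ 7) = true := by decide +kernel
theorem factP_blk874 : allRange factP 7 (874 * 2 ^ 7) = true := by decide +kernel
theorem factP_blk875 : allRange factP 7 (875 * 2 ^ 7) = true := by decide +kernel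
theorem factP_blk876 : allRange factP 7 (876 * 2 ^ 7) = true := by decide +kernel
theorem factP_blk877 : allRange factP 7 (877 * 2 ^ 7) = true := by decide +kernel
theorem factP_blk878 : allRange factP 7 (878 * 2 ^ 7) = true := by decide +kernel
theorem factP_blk879 : allRange factP 7 (879 * 2 ^ 7) = true := by decide +kernel
theorem factP_blk880 : allRange factP 7 (880 * 2 ^ 7) = true := by decide +kernel
theorem factP_blk881 : allRange factP 7 (881 * 2 ^ 7) = true := by decide +kernel
theorem factP_blk882 : allRange factP 7 (882 * 2 ^ 7) = true := by decide +kernel
theorem factP_blk883 : allRange factP 7 (883 * 2 ^ 7) = true := by decide +kernel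
theorem factP_blk884 : allRange factP 7 (884 * 2 ^ 7) = true := by decide +kernel
theorem factP_blk885 : allRange factP 7 (885 * 2 ^ 7) = true := by decide +kernel
theorem factP_blk886 : allRange factP 7 (886 * 2 ^ 7) = true := by decide +kernel
theorem factP_blk887 : allRange factP 7 (887 * 2 ^ 7) = true := by decide +kernel
theorem factP_blk888 : allRange factP 7 (888 * 2 ^ 7) = true := by decide +kernel
theorem factP_blk889 : allRange factP 7 (889 * 2 ^ 7) = true := by decide +kernel
theorem factP_blk890 : allRange factP 7 (890 * 2 ^ 7) = true := by decide +kernel
theorem factP_blk891 : allRange factP 7 (891 * 2 ^ 7) = true := by decide +kernel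
theorem factP_blk892 : allRange factP 7 (892 * 2 ^ 7) = true := by decide +kernel
theorem factP_blk893 : allRange factP 7 (893 * 2 ^ 7) = true := by decide +kernel
theorem factP_blk894 : allRange factP 7 (894 * 2 ^ 7) = true := by decide +kernel
theorem factP_blk895 : allRange factP 7 (895 * 2 ^ 7) = true := by decide +kernel
theorem factP_f13 : ∀ k, 832 ≤ k → k < 896 → allRange factP 7 (k * 2 ^ 7) = true := by
  intro k h1 h2
  interval_cases k
  · exact factP_blk832
  · exact factP_blk833
  · exact factP_blk834
  · exact factP_blk835
  · exact factP_blk836
  · exact factP_blk837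
  · exact factP_blk838
  · exact factP_blk839
  · exact factP_blk840
  · exact factP_blk841
  · exact factP_blk842
  · exact factP_blk843
  · exact factP_blk844
  · exact factP_blk845
  · exact factP_blk846
  · exact factP_blk847
  · exact factP_blk848
  · exact factP_blk849
  · exact factP_blk850
  · exact factP_blk851
  · exact factP_blk852
  · exact factP_blk853
  · exact factP_blk854
  · exact factP_blk855
  · exact factP_blk856
  · exact factP_blk857
  · exact factP_blk858
  · exact factP_blk859
  · exact factP_blk860
  · exact factP_blk861
  · exact factP_blk862
  · exact factP_blk863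
  · exact factP_blk864
  · exact factP_blk865
  · exact factP_blk866
  · exact factP_blk867
  · exact factP_blk868
  · exact factP_blk869
  · exact factP_blk870
  · exact factP_blk871
  · exact factP_blk872
  · exact factP_blk873
  · exact factP_blk874
  · exact factP_blk875
  · exact factP_blk876
  · exact factP_blk877
  · exact factP_blk878
  · exact factP_blk879
  · exact factP_blk880
  · exact factP_blk881
  · exact factP_blk882
  · exact factP_blk883
  · exact factP_blk884
  · exact factP_blk885
  · exact factP_blk886
  · exact factP_blk887
  · exact factP_blk888
  · exact factP_blk889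
  · exact factP_blk890
  · exact factP_blk891
  · exact factP_blk892
  · exact factP_blk893
  · exact factP_blk894
  · exact factP_blk895

end Cfsg.Agent.Lib.Helper28.Fi24x306936
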