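import Cfsg.Agent.Lib.Helper28.Fi24x306936.Defs

set_option autoImplicit false
set_option linter.unusedVariables false
set_option Elab.async false

namespace Cfsg.Agent.Lib.Helper28.Fi24x306936

open Cfsg.Spor.Fi24 (Gen)
open Cfsg.Agent.Lib.Helper28.TC
open Cfsg.Agent.Lib.Helper28.TC2

theorem factP_blk128 : allRange factP 7 (128 * 2 ^ 7) = true := by decide +kernel
theorem factP_blk129 : allRange factP 7 (129 * 2 ^ 7) = true := by decide +kernel
theorem factP_blk130 : allRange factP 7 (130 * 2 ^ 7) = true := by decide +kernel
theorem factP_blk131 : allRange factP 7 (131 * 2 ^ 7) = true := by decide +kernel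
theorem factP_blk132 : allRange factP 7 (132 * 2 ^ 7) = true := by decide +kernel
theorem factP_blk133 : allRange factP 7 (133 * 2 ^ 7) = true := by decide +kernel
theorem factP_blk134 : allRange factP 7 (134 * 2 ^ 7) = true := by decide +kernel
theorem factP_blk135 : allRange factP 7 (135 * 2 ^ 7) = true := by decide +kernel
theorem factP_blk136 : allRange factP 7 (136 * 2 ^ 7) = true := by decide +kernel
theorem factP_blk137 : allRange factP 7 (137 * 2 ^ 7) = true := by decide +kernel
theorem factP_blk138 : allRange factP 7 (138 * 2 ^ 7) = true := by decide +kernel
theorem factP_blk139 : allRange factP 7 (139 * 2 ^ 7) = true := by decide +kernel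
theorem factP_blk140 : allRange factP 7 (140 * 2 ^ 7) = true := by decide +kernel
theorem factP_blk141 : allRange factP 7 (141 * 2 ^ 7) = true := by decide +kernel
theorem factP_blk142 : allRange factP 7 (142 * 2 ^ 7) = true := by decide +kernel
theorem factP_blk143 : allRange factP 7 (143 * 2 ^ 7) = true := by decide +kernel
theorem factP_blk144 : allRange factP 7 (144 * 2 ^ 7) = true := by decide +kernel
theorem factP_blk145 : allRange factP 7 (145 * 2 ^ 7) = true := by decide +kernel
theorem factP_blk146 : allRange factP 7 (146 * 2 ^ 7) = true := by decide +kernel
theorem factP_blk147 : allRange factP 7 (147 * 2 ^ 7) = true := by decide +kernel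
theorem factP_blk148 : allRange factP 7 (148 * 2 ^ 7) = true := by decide +kernel
theorem factP_blk149 : allRange factP 7 (149 * 2 ^ 7) = true := by decide +kernel
theorem factP_blk150 : allRange factP 7 (150 * 2 ^ 7) = true := by decide +kernel
theorem factP_blk151 : allRange factP 7 (151 * 2 ^ 7) = true := by decide +kernel
theorem factP_blk152 : allRange factP 7 (152 * 2 ^ 7) = true := by decide +kernel
theorem factP_blk153 : allRange factP 7 (153 * 2 ^ 7) = true := by decide +kernel
theorem factP_blk154 : allRange factP 7 (154 * 2 ^ 7) = true := by decide +kernel
theorem factP_blk155 : allRange factP 7 (155 * 2 ^ 7) = true := by decide +kernel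
theorem factP_blk156 : allRange factP 7 (156 * 2 ^ 7) = true := by decide +kernel
theorem factP_blk157 : allRange factP 7 (157 * 2 ^ 7) = true := by decide +kernel
theorem factP_blk158 : allRange factP 7 (158 * 2 ^ 7) = true := by decide +kernel
theorem factP_blk159 : allRange factP 7 (159 * 2 ^ 7) = true := by decide +kernel
theorem factP_blk160 : allRange factP 7 (160 * 2 ^ 7) = true := by decide +kernel
theorem factP_blk161 : allRange factP 7 (161 * 2 ^ 7) = true := by decide +kernel
theorem factP_blk162 : allRange factP 7 (162 * 2 ^ 7) = true := by decide +kernel
theorem factP_blk163 : allRange factP 7 (163 * 2 ^ 7) = true := by decide +kernel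
theorem factP_blk164 : allRange factP 7 (164 * 2 ^ 7) = true := by decide +kernel
theorem factP_blk165 : allRange factP 7 (165 * 2 ^ 7) = true := by decide +kernel
theorem factP_blk166 : allRange factP 7 (166 * 2 ^ 7) = true := by decide +kernel
theorem factP_blk167 : allRange factP 7 (167 * 2 ^ 7) = true := by decide +kernel
theorem factP_blk168 : allRange factP 7 (168 * 2 ^ 7) = true := by decide +kernel
theorem factP_blk169 : allRange factP 7 (169 * 2 ^ 7) = true := by decide +kernel
theorem factP_blk170 : allRange factP 7 (170 * 2 ^ 7) = true := by decide +kernel
theorem factP_blk171 : allRange factP 7 (171 * 2 ^ 7) = true := by decide +kernel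
theorem factP_blk172 : allRange factP 7 (172 * 2 ^ 7) = true := by decide +kernel
theorem factP_blk173 : allRange factP 7 (173 * 2 ^ 7) = true := by decide +kernel
theorem factP_blk174 : allRange factP 7 (174 * 2 ^ 7) = true := by decide +kernel
theorem factP_blk175 : allRange factP 7 (175 * 2 ^ 7) = true := by decide +kernel
theorem factP_blk176 : allRange factP 7 (176 * 2 ^ 7) = true := by decide +kernel
theorem factP_blk177 : allRange factP 7 (177 * 2 ^ 7) = true := by decide +kernel
theorem factP_blk178 : allRange factP 7 (178 * 2 ^ 7) = true := by decide +kernel
theorem factP_blk179 : allRange factP 7 (179 * 2 ^ 7) = true := by decide +kernel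
theorem factP_blk180 : allRange factP 7 (180 * 2 ^ 7) = true := by decide +kernel
theorem factP_blk181 : allRange factP 7 (181 * 2 ^ 7) = true := by decide +kernel
theorem factP_blk182 : allRange factP 7 (182 * 2 ^ 7) = true := by decide +kernel
theorem factP_blk183 : allRange factP 7 (183 * 2 ^ 7) = true := by decide +kernel
theorem factP_blk184 : allRange factP 7 (184 * 2 ^ 7) = true := by decide +kernel
theorem factP_blk185 : allRange factP 7 (185 * 2 ^ 7) = true := by decide +kernel
theorem factP_blk186 : allRange factP 7 (186 * 2 ^ 7) = true := by decide +kernel
theorem factP_blk187 : allRange factP 7 (187 * 2 ^ 7) = true := by decide +kernel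
theorem factP_blk188 : allRange factP 7 (188 * 2 ^ 7) = true := by decide +kernel
theorem factP_blk189 : allRange factP 7 (189 * 2 ^ 7) = true := by decide +kernel
theorem factP_blk190 : allRange factP 7 (190 * 2 ^ 7) = true := by decide +kernel
theorem factP_blk191 : allRange factP 7 (191 * 2 ^ 7) = true := by decide +kernel
theorem factP_f2 : ∀ k, 128 ≤ k → k < 192 → allRange factP 7 (k * 2 ^ 7) = true := by
  intro k h1 h2
  interval_cases k
  · exact factP_blk128
  · exact factP_blk129
  · exact factP_blk130
  · exact factP_blk131
  · exact factP_blk132
  · exact factP_blk133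
  · exact factP_blk134
  · exact factP_blk135
  · exact factP_blk136
  · exact factP_blk137
  · exact factP_blk138
  · exact factP_blk139
  · exact factP_blk140
  · exact factP_blk141
  · exact factP_blk142
  · exact factP_blk143
  · exact factP_blk144
  · exact factP_blk145
  · exact factP_blk146
  · exact factP_blk147
  · exact factP_blk148
  · exact factP_blk149
  · exact factP_blk150
  · exact factP_blk151
  · exact factP_blk152
  · exact factP_blk153
  · exact factP_blk154
  · exact factP_blk155
  · exact factP_blk156
  · exact factP_blk157
  · exact factP_blk158
  · exact factP_blk159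
  · exact factP_blk160
  · exact factP_blk161
  · exact factP_blk162
  · exact factP_blk163
  · exact factP_blk164
  · exact factP_blk165
  · exact factP_blk166
  · exact factP_blk167
  · exact factP_blk168
  · exact factP_blk169
  · exact factP_blk170
  · exact factP_blk171
  · exact factP_blk172
  · exact factP_blk173
  · exact factP_blk174
  · exact factP_blk175
  · exact factP_blk176
  · exact factP_blk177
  · exact factP_blk178
  · exact factP_blk179
  · exact factP_blk180
  · exact factP_blk181
  · exact factP_blk182
  · exact factP_blk183
  · exact factP_blk184
  · exact factP_blk185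
  · exact factP_blk186
  · exact factP_blk187
  · exact factP_blk188
  · exact factP_blk189
  · exact factP_blk190
  · exact factP_blk191

end Cfsg.Agent.Lib.Helper28.Fi24x306936
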