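import Cfsg.Agent.Lib.Helper28.Fi24x306936.Defs

set_option autoImplicit false
set_option linter.unusedVariables false
set_option Elab.async false

namespace Cfsg.Agent.Lib.Helper28.Fi24x306936

open Cfsg.Spor.Fi24 (Gen)
open Cfsg.Agent.Lib.Helper28.TC
open Cfsg.Agent.Lib.Helper28.TC2

theorem permP_blk0 : allRange (guard nn permP) 7 (0 * 2 ^ 7) = true := by decide +kernel
theorem permP_blk1 : allRange (guard nn permP) 7 (1 * 2 ^ 7) = true := by decide +kernel
theorem permP_blk2 : allRange (guard nn permP) 7 (2 * 2 ^ 7) = true := by decide +kernel
theorem permP_blk3 : allRange (guard nn permP) 7 (3 * 2 ^ 7) = true := by decide +kernel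
theorem permP_blk4 : allRange (guard nn permP) 7 (4 * 2 ^ 7) = true := by decide +kernel
theorem permP_blk5 : allRange (guard nn permP) 7 (5 * 2 ^ 7) = true := by decide +kernel
theorem permP_blk6 : allRange (guard nn permP) 7 (6 * 2 ^ 7) = true := by decide +kernel
theorem permP_blk7 : allRange (guard nn permP) 7 (7 * 2 ^ 7) = true := by decide +kernel
theorem permP_blk8 : allRange (guard nn permP) 7 (8 * 2 ^ 7) = true := by decide +kernel
theorem permP_blk9 : allRange (guard nn permP) 7 (9 * 2 ^ 7) = true := by decide +kernel
theorem permP_blk10 : allRange (guard nn permP) 7 (10 * 2 ^ 7) = true := by decide +kernel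
theorem permP_blk11 : allRange (guard nn permP) 7 (11 * 2 ^ 7) = true := by decide +kernel
theorem permP_blk12 : allRange (guard nn permP) 7 (12 * 2 ^ 7) = true := by decide +kernel
theorem permP_blk13 : allRange (guard nn permP) 7 (13 * 2 ^ 7) = true := by decide +kernel
theorem permP_blk14 : allRange (guard nn permP) 7 (14 * 2 ^ 7) = true := by decide +kernel
theorem permP_blk15 : allRange (guard nn permP) 7 (15 * 2 ^ 7) = true := by decide +kernel
theorem permP_blk16 : allRange (guard nn permP) 7 (16 * 2 ^ 7) = true := by decide +kernel
theorem permP_blk17 : allRange (guard nn permP) 7 (17 * 2 ^ 7) = true := by decide +kernel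
theorem permP_blk18 : allRange (guard nn permP) 7 (18 * 2 ^ 7) = true := by decide +kernel
theorem permP_blk19 : allRange (guard nn permP) 7 (19 * 2 ^ 7) = true := by decide +kernel
theorem permP_blk20 : allRange (guard nn permP) 7 (20 * 2 ^ 7) = true := by decide +kernel
theorem permP_blk21 : allRange (guard nn permP) 7 (21 * 2 ^ 7) = true := by decide +kernel
theorem permP_blk22 : allRange (guard nn permP) 7 (22 * 2 ^ 7) = true := by decide +kernel
theorem permP_blk23 : allRange (guard nn permP) 7 (23 * 2 ^ 7) = true := by decide +kernel
theorem permP_blk24 : allRange (guard nn permP) 7 (24 * 2 ^ 7) = true := by decide +kernel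
theorem permP_blk25 : allRange (guard nn permP) 7 (25 * 2 ^ 7) = true := by decide +kernel
theorem permP_blk26 : allRange (guard nn permP) 7 (26 * 2 ^ 7) = true := by decide +kernel
theorem permP_blk27 : allRange (guard nn permP) 7 (27 * 2 ^ 7) = true := by decide +kernel
theorem permP_blk28 : allRange (guard nn permP) 7 (28 * 2 ^ 7) = true := by decide +kernel
theorem permP_blk29 : allRange (guard nn permP) 7 (29 * 2 ^ 7) = true := by decide +kernel
theorem permP_blk30 : allRange (guard nn permP) 7 (30 * 2 ^ 7) = true := by decide +kernel
theorem permP_blk31 : allRange (guard nn permP) 7 (31 * 2 ^ 7) = true := by decide +kernel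
theorem permP_blk32 : allRange (guard nn permP) 7 (32 * 2 ^ 7) = true := by decide +kernel
theorem permP_blk33 : allRange (guard nn permP) 7 (33 * 2 ^ 7) = true := by decide +kernel
theorem permP_blk34 : allRange (guard nn permP) 7 (34 * 2 ^ 7) = true := by decide +kernel
theorem permP_blk35 : allRange (guard nn permP) 7 (35 * 2 ^ 7) = true := by decide +kernel
theorem permP_blk36 : allRange (guard nn permP) 7 (36 * 2 ^ 7) = true := by decide +kernel
theorem permP_blk37 : allRange (guard nn permP) 7 (37 * 2 ^ 7) = true := by decide +kernel
theorem permP_blk38 : allRange (guard nn permP) 7 (38 * 2 ^ 7) = true := by decide +kernel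
theorem permP_blk39 : allRange (guard nn permP) 7 (39 * 2 ^ 7) = true := by decide +kernel
theorem permP_blk40 : allRange (guard nn permP) 7 (40 * 2 ^ 7) = true := by decide +kernel
theorem permP_blk41 : allRange (guard nn permP) 7 (41 * 2 ^ 7) = true := by decide +kernel
theorem permP_blk42 : allRange (guard nn permP) 7 (42 * 2 ^ 7) = true := by decide +kernel
theorem permP_blk43 : allRange (guard nn permP) 7 (43 * 2 ^ 7) = true := by decide +kernel
theorem permP_blk44 : allRange (guard nn permP) 7 (44 * 2 ^ 7) = true := by decide +kernel
theorem permP_blk45 : allRange (guard nn permP) 7 (45 * 2 ^ 7) = true := by decide +kernel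
theorem permP_blk46 : allRange (guard nn permP) 7 (46 * 2 ^ 7) = true := by decide +kernel
theorem permP_blk47 : allRange (guard nn permP) 7 (47 * 2 ^ 7) = true := by decide +kernel
theorem permP_blk48 : allRange (guard nn permP) 7 (48 * 2 ^ 7) = true := by decide +kernel
theorem permP_blk49 : allRange (guard nn permP) 7 (49 * 2 ^ 7) = true := by decide +kernel
theorem permP_blk50 : allRange (guard nn permP) 7 (50 * 2 ^ 7) = true := by decide +kernel
theorem permP_blk51 : allRange (guard nn permP) 7 (51 * 2 ^ 7) = true := by decide +kernel
theorem permP_blk52 : allRange (guard nn permP) 7 (52 * 2 ^ 7) = true := by decide +kernel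
theorem permP_blk53 : allRange (guard nn permP) 7 (53 * 2 ^ 7) = true := by decide +kernel
theorem permP_blk54 : allRange (guard nn permP) 7 (54 * 2 ^ 7) = true := by decide +kernel
theorem permP_blk55 : allRange (guard nn permP) 7 (55 * 2 ^ 7) = true := by decide +kernel
theorem permP_blk56 : allRange (guard nn permP) 7 (56 * 2 ^ 7) = true := by decide +kernel
theorem permP_blk57 : allRange (guard nn permP) 7 (57 * 2 ^ 7) = true := by decide +kernel
theorem permP_blk58 : allRange (guard nn permP) 7 (58 * 2 ^ 7) = true := by decide +kernel
theorem permP_blk59 : allRange (guard nn permP) 7 (59 * 2 ^ 7) = true := by decide +kernel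
theorem permP_blk60 : allRange (guard nn permP) 7 (60 * 2 ^ 7) = true := by decide +kernel
theorem permP_blk61 : allRange (guard nn permP) 7 (61 * 2 ^ 7) = true := by decide +kernel
theorem permP_blk62 : allRange (guard nn permP) 7 (62 * 2 ^ 7) = true := by decide +kernel
theorem permP_blk63 : allRange (guard nn permP) 7 (63 * 2 ^ 7) = true := by decide +kernel
theorem permP_f0 : ∀ k, 0 ≤ k → k < 64 → allRange (guard nn permP) 7 (k * 2 ^ 7) = true := by
  intro k h1 h2
  interval_cases k
  · exact permP_blk0
  · exact permP_blk1
  · exact permP_blk2
  · exact permP_blk3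
  · exact permP_blk4
  · exact permP_blk5
  · exact permP_blk6
  · exact permP_blk7
  · exact permP_blk8
  · exact permP_blk9
  · exact permP_blk10
  · exact permP_blk11
  · exact permP_blk12
  · exact permP_blk13
  · exact permP_blk14
  · exact permP_blk15
  · exact permP_blk16
  · exact permP_blk17
  · exact permP_blk18
  · exact permP_blk19
  · exact permP_blk20
  · exact permP_blk21
  · exact permP_blk22
  · exact permP_blk23
  · exact permP_blk24
  · exact permP_blk25
  · exact permP_blk26
  · exact permP_blk27
  · exact permP_blk28
  · exact permP_blk29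
  · exact permP_blk30
  · exact permP_blk31
  · exact permP_blk32
  · exact permP_blk33
  · exact permP_blk34
  · exact permP_blk35
  · exact permP_blk36
  · exact permP_blk37
  · exact permP_blk38
  · exact permP_blk39
  · exact permP_blk40
  · exact permP_blk41
  · exact permP_blk42
  · exact permP_blk43
  · exact permP_blk44
  · exact permP_blk45
  · exact permP_blk46
  · exact permP_blk47
  · exact permP_blk48
  · exact permP_blk49
  · exact permP_blk50
  · exact permP_blk51
  · exact permP_blk52
  · exact permP_blk53
  · exact permP_blk54
  · exact permP_blk55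
  · exact permP_blk56
  · exact permP_blk57
  · exact permP_blk58
  · exact permP_blk59
  · exact permP_blk60
  · exact permP_blk61
  · exact permP_blk62
  · exact permP_blk63

end Cfsg.Agent.Lib.Helper28.Fi24x306936
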