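import Cfsg.Agent.Lib.Helper28.Fi24x306936.Defs

set_option autoImplicit false
set_option linter.unusedVariables false
set_option Elab.async false

namespace Cfsg.Agent.Lib.Helper28.Fi24x306936

open Cfsg.Spor.Fi24 (Gen)
open Cfsg.Agent.Lib.Helper28.TC
open Cfsg.Agent.Lib.Helper28.TC2

theorem permP_blk640 : allRange (guard nn permP) 7 (640 * 2 ^ 7) = true := by decide +kernel
theorem permP_blk641 : allRange (guard nn permP) 7 (641 * 2 ^ 7) = true := by decide +kernel
theorem permP_blk642 : allRange (guard nn permP) 7 (642 * 2 ^ 7) = true := by decide +kernel
theorem permP_blk643 : allRange (guard nn permP) 7 (643 * 2 ^ 7) = true := by decide +kernel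
theorem permP_blk644 : allRange (guard nn permP) 7 (644 * 2 ^ 7) = true := by decide +kernel
theorem permP_blk645 : allRange (guard nn permP) 7 (645 * 2 ^ 7) = true := by decide +kernel
theorem permP_blk646 : allRange (guard nn permP) 7 (646 * 2 ^ 7) = true := by decide +kernel
theorem permP_blk647 : allRange (guard nn permP) 7 (647 * 2 ^ 7) = true := by decide +kernel
theorem permP_blk648 : allRange (guard nn permP) 7 (648 * 2 ^ 7) = true := by decide +kernel
theorem permP_blk649 : allRange (guard nn permP) 7 (649 * 2 ^ 7) = true := by decide +kernel
theorem permP_blk650 : allRange (guard nn permP) 7 (650 * 2 ^ 7) = true := by decide +kernel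
theorem permP_blk651 : allRange (guard nn permP) 7 (651 * 2 ^ 7) = true := by decide +kernel
theorem permP_blk652 : allRange (guard nn permP) 7 (652 * 2 ^ 7) = true := by decide +kernel
theorem permP_blk653 : allRange (guard nn permP) 7 (653 * 2 ^ 7) = true := by decide +kernel
theorem permP_blk654 : allRange (guard nn permP) 7 (654 * 2 ^ 7) = true := by decide +kernel
theorem permP_blk655 : allRange (guard nn permP) 7 (655 * 2 ^ 7) = true := by decide +kernel
theorem permP_blk656 : allRange (guard nn permP) 7 (656 * 2 ^ 7) = true := by decide +kernel
theorem permP_blk657 : allRange (guard nn permP) 7 (657 * 2 ^ 7) = true := by decide +kernel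
theorem permP_blk658 : allRange (guard nn permP) 7 (658 * 2 ^ 7) = true := by decide +kernel
theorem permP_blk659 : allRange (guard nn permP) 7 (659 * 2 ^ 7) = true := by decide +kernel
theorem permP_blk660 : allRange (guard nn permP) 7 (660 * 2 ^ 7) = true := by decide +kernel
theorem permP_blk661 : allRange (guard nn permP) 7 (661 * 2 ^ 7) = true := by decide +kernel
theorem permP_blk662 : allRange (guard nn permP) 7 (662 * 2 ^ 7) = true := by decide +kernel
theorem permP_blk663 : allRange (guard nn permP) 7 (663 * 2 ^ 7) = true := by decide +kernel
theorem permP_blk664 : allRange (guard nn permP) 7 (664 * 2 ^ 7) = true := by decide +kernel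
theorem permP_blk665 : allRange (guard nn permP) 7 (665 * 2 ^ 7) = true := by decide +kernel
theorem permP_blk666 : allRange (guard nn permP) 7 (666 * 2 ^ 7) = true := by decide +kernel
theorem permP_blk667 : allRange (guard nn permP) 7 (667 * 2 ^ 7) = true := by decide +kernel
theorem permP_blk668 : allRange (guard nn permP) 7 (668 * 2 ^ 7) = true := by decide +kernel
theorem permP_blk669 : allRange (guard nn permP) 7 (669 * 2 ^ 7) = true := by decide +kernel
theorem permP_blk670 : allRange (guard nn permP) 7 (670 * 2 ^ 7) = true := by decide +kernel
theorem permP_blk671 : allRange (guard nn permP) 7 (671 * 2 ^ 7) = true := by decide +kernel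
theorem permP_blk672 : allRange (guard nn permP) 7 (672 * 2 ^ 7) = true := by decide +kernel
theorem permP_blk673 : allRange (guard nn permP) 7 (673 * 2 ^ 7) = true := by decide +kernel
theorem permP_blk674 : allRange (guard nn permP) 7 (674 * 2 ^ 7) = true := by decide +kernel
theorem permP_blk675 : allRange (guard nn permP) 7 (675 * 2 ^ 7) = true := by decide +kernel
theorem permP_blk676 : allRange (guard nn permP) 7 (676 * 2 ^ 7) = true := by decide +kernel
theorem permP_blk677 : allRange (guard nn permP) 7 (677 * 2 ^ 7) = true := by decide +kernel
theorem permP_blk678 : allRange (guard nn permP) 7 (678 * 2 ^ 7) = true := by decide +kernel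
theorem permP_blk679 : allRange (guard nn permP) 7 (679 * 2 ^ 7) = true := by decide +kernel
theorem permP_blk680 : allRange (guard nn permP) 7 (680 * 2 ^ 7) = true := by decide +kernel
theorem permP_blk681 : allRange (guard nn permP) 7 (681 * 2 ^ 7) = true := by decide +kernel
theorem permP_blk682 : allRange (guard nn permP) 7 (682 * 2 ^ 7) = true := by decide +kernel
theorem permP_blk683 : allRange (guard nn permP) 7 (683 * 2 ^ 7) = true := by decide +kernel
theorem permP_blk684 : allRange (guard nn permP) 7 (684 * 2 ^ 7) = true := by decide +kernel
theorem permP_blk685 : allRange (guard nn permP) 7 (685 * 2 ^ 7) = true := by decide +kernel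
theorem permP_blk686 : allRange (guard nn permP) 7 (686 * 2 ^ 7) = true := by decide +kernel
theorem permP_blk687 : allRange (guard nn permP) 7 (687 * 2 ^ 7) = true := by decide +kernel
theorem permP_blk688 : allRange (guard nn permP) 7 (688 * 2 ^ 7) = true := by decide +kernel
theorem permP_blk689 : allRange (guard nn permP) 7 (689 * 2 ^ 7) = true := by decide +kernel
theorem permP_blk690 : allRange (guard nn permP) 7 (690 * 2 ^ 7) = true := by decide +kernel
theorem permP_blk691 : allRange (guard nn permP) 7 (691 * 2 ^ 7) = true := by decide +kernel
theorem permP_blk692 : allRange (guard nn permP) 7 (692 * 2 ^ 7) = true := by decide +kernel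
theorem permP_blk693 : allRange (guard nn permP) 7 (693 * 2 ^ 7) = true := by decide +kernel
theorem permP_blk694 : allRange (guard nn permP) 7 (694 * 2 ^ 7) = true := by decide +kernel
theorem permP_blk695 : allRange (guard nn permP) 7 (695 * 2 ^ 7) = true := by decide +kernel
theorem permP_blk696 : allRange (guard nn permP) 7 (696 * 2 ^ 7) = true := by decide +kernel
theorem permP_blk697 : allRange (guard nn permP) 7 (697 * 2 ^ 7) = true := by decide +kernel
theorem permP_blk698 : allRange (guard nn permP) 7 (698 * 2 ^ 7) = true := by decide +kernel
theorem permP_blk699 : allRange (guard nn permP) 7 (699 * 2 ^ 7) = true := by decide +kernel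
theorem permP_blk700 : allRange (guard nn permP) 7 (700 * 2 ^ 7) = true := by decide +kernel
theorem permP_blk701 : allRange (guard nn permP) 7 (701 * 2 ^ 7) = true := by decide +kernel
theorem permP_blk702 : allRange (guard nn permP) 7 (702 * 2 ^ 7) = true := by decide +kernel
theorem permP_blk703 : allRange (guard nn permP) 7 (703 * 2 ^ 7) = true := by decide +kernel
theorem permP_f10 : ∀ k, 640 ≤ k → k < 704 → allRange (guard nn permP) 7 (k * 2 ^ 7) = true := by
  intro k h1 h2
  interval_cases k
  · exact permP_blk640
  · exact permP_blk641
  · exact permP_blk642
  · exact permP_blk643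
  · exact permP_blk644
  · exact permP_blk645
  · exact permP_blk646
  · exact permP_blk647
  · exact permP_blk648
  · exact permP_blk649
  · exact permP_blk650
  · exact permP_blk651
  · exact permP_blk652
  · exact permP_blk653
  · exact permP_blk654
  · exact permP_blk655
  · exact permP_blk656
  · exact permP_blk657
  · exact permP_blk658
  · exact permP_blk659
  · exact permP_blk660
  · exact permP_blk661
  · exact permP_blk662
  · exact permP_blk663
  · exact permP_blk664
  · exact permP_blk665
  · exact permP_blk666
  · exact permP_blk667
  · exact permP_blk668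
  · exact permP_blk669
  · exact permP_blk670
  · exact permP_blk671
  · exact permP_blk672
  · exact permP_blk673
  · exact permP_blk674
  · exact permP_blk675
  · exact permP_blk676
  · exact permP_blk677
  · exact permP_blk678
  · exact permP_blk679
  · exact permP_blk680
  · exact permP_blk681
  · exact permP_blk682
  · exact permP_blk683
  · exact permP_blk684
  · exact permP_blk685
  · exact permP_blk686
  · exact permP_blk687
  · exact permP_blk688
  · exact permP_blk689
  · exact permP_blk690
  · exact permP_blk691
  · exact permP_blk692
  · exact permP_blk693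
  · exact permP_blk694
  · exact permP_blk695
  · exact permP_blk696
  · exact permP_blk697
  · exact permP_blk698
  · exact permP_blk699
  · exact permP_blk700
  · exact permP_blk701
  · exact permP_blk702
  · exact permP_blk703

end Cfsg.Agent.Lib.Helper28.Fi24x306936
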