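import Cfsg.Agent.Lib.Helper28.Fi24x306936.DataE0
import Cfsg.Agent.Lib.Helper28.Fi24x306936.DataE1
import Cfsg.Agent.Lib.Helper28.Fi24x306936.DataE2
import Cfsg.Agent.Lib.Helper28.Fi24x306936.DataE3
import Cfsg.Agent.Lib.Helper28.Fi24x306936.DataE4
import Cfsg.Agent.Lib.Helper28.Fi24x306936.DataE5
import Cfsg.Agent.Lib.Helper28.Fi24x306936.DataE6
import Cfsg.Agent.Lib.Helper28.Fi24x306936.DataE7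
import Cfsg.Agent.Lib.Helper28.Fi24x306936.DataE8
import Cfsg.Agent.Lib.Helper28.Fi24x306936.DataE9
import Cfsg.Agent.Lib.Helper28.Fi24x306936.DataE10
import Cfsg.Agent.Lib.Helper28.Fi24x306936.DataE11
import Cfsg.Agent.Lib.Helper28.Fi24x306936.DataA

set_option autoImplicit false
set_option linter.unusedVariables false

namespace Cfsg.Agent.Lib.Helper28.Fi24x306936

open Cfsg.Spor.Fi24 (Gen)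
open Cfsg.Agent.Lib.Helper28.TC
open Cfsg.Agent.Lib.Helper28.TC2

/-- the letters are the generators -/
abbrev Ltr : Type := Gen

/-- a generator as a letter -/
def emb (x : Gen) : Ltr := x

/-- formal inversion of letters: every generator is an involution -/
def binv (y : Ltr) : Ltr := y

/-- all letters -/
def letters : List Ltr := [Gen.l, Gen.k, Gen.a, Gen.b, Gen.c, Gen.d, Gen.e, Gen.f, Gen.g, Gen.j, Gen.h, Gen.i]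

/-- decode a letter -/
noncomputable def ltrOf (c : ℕ) : Ltr := Nat.rec (motive := fun _ => Ltr) Gen.l (fun c _ => Nat.rec (motive := fun _ => Ltr) Gen.k (fun c _ => Nat.rec (motive := fun _ => Ltr) Gen.a (fun c _ => Nat.rec (motive := fun _ => Ltr) Gen.b (fun c _ => Nat.rec (motive := fun _ => Ltr) Gen.c (fun c _ => Nat.rec (motive := fun _ => Ltr) Gen.d (fun c _ => Nat.rec (motive := fun _ => Ltr) Gen.e (fun c _ => Nat.rec (motive := fun _ => Ltr) Gen.f (fun c _ => Nat.rec (motive := fun _ => Ltr) Gen.g (fun c _ => Nat.rec (motive := fun _ => Ltr) Gen.j (fun c _ => Nat.rec (motive := fun _ => Ltr) Gen.h (fun c _ => Gen.i) c) c) c) c) c) c) c) c) c) c) c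

noncomputable def entH (y : Ltr) (u : ℕ) : ℕ := Gen.rec (motive := fun _ => ℕ) (hotE0 u) (hotE1 u) (hotE2 u) (hotE3 u) (hotE4 u) (hotE5 u) (hotE6 u) (hotE7 u) (hotE8 u) (hotE9 u) (hotE10 u) (hotE11 u) y
noncomputable def jEc (y : Ltr) (u : ℕ) : ℕ := Gen.rec (motive := fun _ => ℕ) (coldE0 u) (coldE1 u) (coldE2 u) (coldE3 u) (coldE4 u) (coldE5 u) (coldE6 u) (coldE7 u) (coldE8 u) (coldE9 u) (coldE10 u) (coldE11 u) y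
noncomputable def alH (k : ℕ) : ℕ := hotA k
noncomputable def jAc (k : ℕ) : ℕ := coldA k
noncomputable def treeE (k : ℕ) : ℕ := treeT k
/-- the final coset table -/
noncomputable def tf (y : Ltr) (i : ℕ) : ℕ := Gen.rec (motive := fun _ => ℕ) (tfT0 i) (tfT1 i) (tfT2 i) (tfT3 i) (tfT4 i) (tfT5 i) (tfT6 i) (tfT7 i) (tfT8 i) (tfT9 i) (tfT10 i) (tfT11 i) y
/-- the final coset number of a row -/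
noncomputable def fin (k : ℕ) : ℕ := Nat.shiftRight (treeE k) 23
/-- the designated row of a final coset -/
noncomputable def rowOf (i : ℕ) : ℕ := rowT i

/-- tables of the words that occur with a high power in a relator -/
noncomputable def tau (k i : ℕ) : ℕ := Nat.rec (motive := fun _ => ℕ) (tauT0 i) (fun k _ => tauT1 i) k

/-- a cycle: word, reversed word, letterwise inverted word, length -/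
abbrev CycT : Type := List Ltr × List Ltr × List Ltr × ℕ

/-- trees of cycles -/
inductive CT : Type
  | leaf (v : CycT)
  | node (s : ℕ) (l r : CT)

noncomputable def CT.get (t : CT) (i : ℕ) : CycT :=
  CT.rec (motive := fun _ => ℕ → CycT) (fun v _ => v)
    (fun s _ _ ihl ihr i => Nat.rec (motive := fun _ => CycT) (ihl i) (fun d _ => ihr d) (Nat.sub i s)) t i

/-- the cycles: relators first, then subgroup generators -/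
noncomputable def cycTree : CT := (CT.node 39
  (CT.node 19
  (CT.node 9
  (CT.node 4
  (CT.node 2
  (CT.node 1
  (CT.node 0
  (CT.leaf ([Gen.l, Gen.k, Gen.l, Gen.k, Gen.l, Gen.k], [Gen.k, Gen.l, Gen.k, Gen.l, Gen.k, Gen.l], [Gen.l, Gen.k, Gen.l, Gen.k, Gen.l, Gen.k], 6))
  (CT.leaf ([Gen.l, Gen.a, Gen.l, Gen.a], [Gen.a, Gen.l, Gen.a, Gen.l], [Gen.l, Gen.a, Gen.l, Gen.a], 4)))
  (CT.leaf ([Gen.l, Gen.b, Gen.l, Gen.b], [Gen.b, Gen.l, Gen.b, Gen.l], [Gen.l, Gen.b, Gen.l, Gen.b], 4)))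
  (CT.node 0
  (CT.leaf ([Gen.l, Gen.c, Gen.l, Gen.c], [Gen.c, Gen.l, Gen.c, Gen.l], [Gen.l, Gen.c, Gen.l, Gen.c], 4))
  (CT.leaf ([Gen.l, Gen.d, Gen.l, Gen.d], [Gen.d, Gen.l, Gen.d, Gen.l], [Gen.l, Gen.d, Gen.l, Gen.d], 4))))
  (CT.node 2
  (CT.node 1
  (CT.node 0
  (CT.leaf ([Gen.l, Gen.e, Gen.l, Gen.e], [Gen.e, Gen.l, Gen.e, Gen.l], [Gen.l, Gen.e, Gen.l, Gen.e], 4))
  (CT.leaf ([Gen.l, Gen.f, Gen.l, Gen.f], [Gen.f, Gen.l, Gen.f, Gen.l], [Gen.l, Gen.f, Gen.l, Gen.f], 4)))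
  (CT.leaf ([Gen.l, Gen.g, Gen.l, Gen.g], [Gen.g, Gen.l, Gen.g, Gen.l], [Gen.l, Gen.g, Gen.l, Gen.g], 4)))
  (CT.node 0
  (CT.leaf ([Gen.l, Gen.h, Gen.l, Gen.h], [Gen.h, Gen.l, Gen.h, Gen.l], [Gen.l, Gen.h, Gen.l, Gen.h], 4))
  (CT.leaf ([Gen.l, Gen.j, Gen.l, Gen.j], [Gen.j, Gen.l, Gen.j, Gen.l], [Gen.l, Gen.j, Gen.l, Gen.j], 4)))))
  (CT.node 4
  (CT.node 2
  (CT.node 1
  (CT.node 0
  (CT.leaf ([Gen.l, Gen.i, Gen.l, Gen.i], [Gen.i, Gen.l, Gen.i, Gen.l], [Gen.l, Gen.i, Gen.l, Gen.i], 4))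
  (CT.leaf ([Gen.k, Gen.a, Gen.k, Gen.a, Gen.k, Gen.a], [Gen.a, Gen.k, Gen.a, Gen.k, Gen.a, Gen.k], [Gen.k, Gen.a, Gen.k, Gen.a, Gen.k, Gen.a], 6)))
  (CT.leaf ([Gen.k, Gen.b, Gen.k, Gen.b], [Gen.b, Gen.k, Gen.b, Gen.k], [Gen.k, Gen.b, Gen.k, Gen.b], 4)))
  (CT.node 0
  (CT.leaf ([Gen.k, Gen.c, Gen.k, Gen.c], [Gen.c, Gen.k, Gen.c, Gen.k], [Gen.k, Gen.c, Gen.k, Gen.c], 4))
  (CT.leaf ([Gen.k, Gen.d, Gen.k, Gen.d], [Gen.d, Gen.k, Gen.d, Gen.k], [Gen.k, Gen.d, Gen.k, Gen.d], 4))))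
  (CT.node 2
  (CT.node 1
  (CT.node 0
  (CT.leaf ([Gen.k, Gen.e, Gen.k, Gen.e], [Gen.e, Gen.k, Gen.e, Gen.k], [Gen.k, Gen.e, Gen.k, Gen.e], 4))
  (CT.leaf ([Gen.k, Gen.f, Gen.k, Gen.f], [Gen.f, Gen.k, Gen.f, Gen.k], [Gen.k, Gen.f, Gen.k, Gen.f], 4)))
  (CT.leaf ([Gen.k, Gen.g, Gen.k, Gen.g], [Gen.g, Gen.k, Gen.g, Gen.k], [Gen.k, Gen.g, Gen.k, Gen.g], 4)))
  (CT.node 0
  (CT.leaf ([Gen.k, Gen.h, Gen.k, Gen.h], [Gen.h, Gen.k, Gen.h, Gen.k], [Gen.k, Gen.h, Gen.k, Gen.h], 4))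
  (CT.leaf ([Gen.k, Gen.j, Gen.k, Gen.j], [Gen.j, Gen.k, Gen.j, Gen.k], [Gen.k, Gen.j, Gen.k, Gen.j], 4))))))
  (CT.node 9
  (CT.node 4
  (CT.node 2
  (CT.node 1
  (CT.node 0
  (CT.leaf ([Gen.k, Gen.i, Gen.k, Gen.i], [Gen.i, Gen.k, Gen.i, Gen.k], [Gen.k, Gen.i, Gen.k, Gen.i], 4))
  (CT.leaf ([Gen.a, Gen.b, Gen.a, Gen.b, Gen.a, Gen.b], [Gen.b, Gen.a, Gen.b, Gen.a, Gen.b, Gen.a], [Gen.a, Gen.b, Gen.a, Gen.b, Gen.a, Gen.b], 6)))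
  (CT.leaf ([Gen.a, Gen.c, Gen.a, Gen.c], [Gen.c, Gen.a, Gen.c, Gen.a], [Gen.a, Gen.c, Gen.a, Gen.c], 4)))
  (CT.node 0
  (CT.leaf ([Gen.a, Gen.d, Gen.a, Gen.d], [Gen.d, Gen.a, Gen.d, Gen.a], [Gen.a, Gen.d, Gen.a, Gen.d], 4))
  (CT.leaf ([Gen.a, Gen.e, Gen.a, Gen.e], [Gen.e, Gen.a, Gen.e, Gen.a], [Gen.a, Gen.e, Gen.a, Gen.e], 4))))
  (CT.node 2
  (CT.node 1
  (CT.node 0
  (CT.leaf ([Gen.a, Gen.f, Gen.a, Gen.f], [Gen.f, Gen.a, Gen.f, Gen.a], [Gen.a, Gen.f, Gen.a, Gen.f], 4))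
  (CT.leaf ([Gen.a, Gen.g, Gen.a, Gen.g], [Gen.g, Gen.a, Gen.g, Gen.a], [Gen.a, Gen.g, Gen.a, Gen.g], 4)))
  (CT.leaf ([Gen.a, Gen.h, Gen.a, Gen.h], [Gen.h, Gen.a, Gen.h, Gen.a], [Gen.a, Gen.h, Gen.a, Gen.h], 4)))
  (CT.node 0
  (CT.leaf ([Gen.a, Gen.j, Gen.a, Gen.j], [Gen.j, Gen.a, Gen.j, Gen.a], [Gen.a, Gen.j, Gen.a, Gen.j], 4))
  (CT.leaf ([Gen.a, Gen.i, Gen.a, Gen.i], [Gen.i, Gen.a, Gen.i, Gen.a], [Gen.a, Gen.i, Gen.a, Gen.i], 4)))))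
  (CT.node 4
  (CT.node 2
  (CT.node 1
  (CT.node 0
  (CT.leaf ([Gen.b, Gen.c, Gen.b, Gen.c, Gen.b, Gen.c], [Gen.c, Gen.b, Gen.c, Gen.b, Gen.c, Gen.b], [Gen.b, Gen.c, Gen.b, Gen.c, Gen.b, Gen.c], 6))
  (CT.leaf ([Gen.b, Gen.d, Gen.b, Gen.d], [Gen.d, Gen.b, Gen.d, Gen.b], [Gen.b, Gen.d, Gen.b, Gen.d], 4)))
  (CT.leaf ([Gen.b, Gen.e, Gen.b, Gen.e], [Gen.e, Gen.b, Gen.e, Gen.b], [Gen.b, Gen.e, Gen.b, Gen.e], 4)))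
  (CT.node 0
  (CT.leaf ([Gen.b, Gen.f, Gen.b, Gen.f], [Gen.f, Gen.b, Gen.f, Gen.b], [Gen.b, Gen.f, Gen.b, Gen.f], 4))
  (CT.leaf ([Gen.b, Gen.g, Gen.b, Gen.g], [Gen.g, Gen.b, Gen.g, Gen.b], [Gen.b, Gen.g, Gen.b, Gen.g], 4))))
  (CT.node 2
  (CT.node 1
  (CT.node 0
  (CT.leaf ([Gen.b, Gen.h, Gen.b, Gen.h], [Gen.h, Gen.b, Gen.h, Gen.b], [Gen.b, Gen.h, Gen.b, Gen.h], 4))
  (CT.leaf ([Gen.b, Gen.j, Gen.b, Gen.j], [Gen.j, Gen.b, Gen.j, Gen.b], [Gen.b, Gen.j, Gen.b, Gen.j], 4)))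
  (CT.leaf ([Gen.b, Gen.i, Gen.b, Gen.i], [Gen.i, Gen.b, Gen.i, Gen.b], [Gen.b, Gen.i, Gen.b, Gen.i], 4)))
  (CT.node 0
  (CT.leaf ([Gen.c, Gen.d, Gen.c, Gen.d, Gen.c, Gen.d], [Gen.d, Gen.c, Gen.d, Gen.c, Gen.d, Gen.c], [Gen.c, Gen.d, Gen.c, Gen.d, Gen.c, Gen.d], 6))
  (CT.leaf ([Gen.c, Gen.e, Gen.c, Gen.e], [Gen.e, Gen.c, Gen.e, Gen.c], [Gen.c, Gen.e, Gen.c, Gen.e], 4)))))))
  (CT.node 19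
  (CT.node 9
  (CT.node 4
  (CT.node 2
  (CT.node 1
  (CT.node 0
  (CT.leaf ([Gen.c, Gen.f, Gen.c, Gen.f], [Gen.f, Gen.c, Gen.f, Gen.c], [Gen.c, Gen.f, Gen.c, Gen.f], 4))
  (CT.leaf ([Gen.c, Gen.g, Gen.c, Gen.g], [Gen.g, Gen.c, Gen.g, Gen.c], [Gen.c, Gen.g, Gen.c, Gen.g], 4)))
  (CT.leaf ([Gen.c, Gen.h, Gen.c, Gen.h], [Gen.h, Gen.c, Gen.h, Gen.c], [Gen.c, Gen.h, Gen.c, Gen.h], 4)))
  (CT.node 0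
  (CT.leaf ([Gen.c, Gen.j, Gen.c, Gen.j], [Gen.j, Gen.c, Gen.j, Gen.c], [Gen.c, Gen.j, Gen.c, Gen.j], 4))
  (CT.leaf ([Gen.c, Gen.i, Gen.c, Gen.i], [Gen.i, Gen.c, Gen.i, Gen.c], [Gen.c, Gen.i, Gen.c, Gen.i], 4))))
  (CT.node 2
  (CT.node 1
  (CT.node 0
  (CT.leaf ([Gen.d, Gen.e, Gen.d, Gen.e, Gen.d, Gen.e], [Gen.e, Gen.d, Gen.e, Gen.d, Gen.e, Gen.d], [Gen.d, Gen.e, Gen.d, Gen.e, Gen.d, Gen.e], 6))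
  (CT.leaf ([Gen.d, Gen.f, Gen.d, Gen.f], [Gen.f, Gen.d, Gen.f, Gen.d], [Gen.d, Gen.f, Gen.d, Gen.f], 4)))
  (CT.leaf ([Gen.d, Gen.g, Gen.d, Gen.g], [Gen.g, Gen.d, Gen.g, Gen.d], [Gen.d, Gen.g, Gen.d, Gen.g], 4)))
  (CT.node 0
  (CT.leaf ([Gen.d, Gen.h, Gen.d, Gen.h, Gen.d, Gen.h], [Gen.h, Gen.d, Gen.h, Gen.d, Gen.h, Gen.d], [Gen.d, Gen.h, Gen.d, Gen.h, Gen.d, Gen.h], 6))
  (CT.leaf ([Gen.d, Gen.j, Gen.d, Gen.j], [Gen.j, Gen.d, Gen.j, Gen.d], [Gen.d, Gen.j, Gen.d, Gen.j], 4)))))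
  (CT.node 4
  (CT.node 2
  (CT.node 1
  (CT.node 0
  (CT.leaf ([Gen.d, Gen.i, Gen.d, Gen.i], [Gen.i, Gen.d, Gen.i, Gen.d], [Gen.d, Gen.i, Gen.d, Gen.i], 4))
  (CT.leaf ([Gen.e, Gen.f, Gen.e, Gen.f, Gen.e, Gen.f], [Gen.f, Gen.e, Gen.f, Gen.e, Gen.f, Gen.e], [Gen.e, Gen.f, Gen.e, Gen.f, Gen.e, Gen.f], 6)))
  (CT.leaf ([Gen.e, Gen.g, Gen.e, Gen.g], [Gen.g, Gen.e, Gen.g, Gen.e], [Gen.e, Gen.g, Gen.e, Gen.g], 4)))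
  (CT.node 0
  (CT.leaf ([Gen.e, Gen.h, Gen.e, Gen.h], [Gen.h, Gen.e, Gen.h, Gen.e], [Gen.e, Gen.h, Gen.e, Gen.h], 4))
  (CT.leaf ([Gen.e, Gen.j, Gen.e, Gen.j], [Gen.j, Gen.e, Gen.j, Gen.e], [Gen.e, Gen.j, Gen.e, Gen.j], 4))))
  (CT.node 2
  (CT.node 1
  (CT.node 0
  (CT.leaf ([Gen.e, Gen.i, Gen.e, Gen.i], [Gen.i, Gen.e, Gen.i, Gen.e], [Gen.e, Gen.i, Gen.e, Gen.i], 4))
  (CT.leaf ([Gen.f, Gen.g, Gen.f, Gen.g, Gen.f, Gen.g], [Gen.g, Gen.f, Gen.g, Gen.f, Gen.g, Gen.f], [Gen.f, Gen.g, Gen.f, Gen.g, Gen.f, Gen.g], 6)))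
  (CT.leaf ([Gen.f, Gen.h, Gen.f, Gen.h], [Gen.h, Gen.f, Gen.h, Gen.f], [Gen.f, Gen.h, Gen.f, Gen.h], 4)))
  (CT.node 0
  (CT.leaf ([Gen.f, Gen.j, Gen.f, Gen.j], [Gen.j, Gen.f, Gen.j, Gen.f], [Gen.f, Gen.j, Gen.f, Gen.j], 4))
  (CT.leaf ([Gen.f, Gen.i, Gen.f, Gen.i], [Gen.i, Gen.f, Gen.i, Gen.f], [Gen.f, Gen.i, Gen.f, Gen.i], 4))))))
  (CT.node 9
  (CT.node 4
  (CT.node 2
  (CT.node 1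
  (CT.node 0
  (CT.leaf ([Gen.g, Gen.h, Gen.g, Gen.h], [Gen.h, Gen.g, Gen.h, Gen.g], [Gen.g, Gen.h, Gen.g, Gen.h], 4))
  (CT.leaf ([Gen.g, Gen.j, Gen.g, Gen.j, Gen.g, Gen.j], [Gen.j, Gen.g, Gen.j, Gen.g, Gen.j, Gen.g], [Gen.g, Gen.j, Gen.g, Gen.j, Gen.g, Gen.j], 6)))
  (CT.leaf ([Gen.g, Gen.i, Gen.g, Gen.i], [Gen.i, Gen.g, Gen.i, Gen.g], [Gen.g, Gen.i, Gen.g, Gen.i], 4)))
  (CT.node 0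
  (CT.leaf ([Gen.h, Gen.j, Gen.h, Gen.j], [Gen.j, Gen.h, Gen.j, Gen.h], [Gen.h, Gen.j, Gen.h, Gen.j], 4))
  (CT.leaf ([Gen.h, Gen.i, Gen.h, Gen.i, Gen.h, Gen.i], [Gen.i, Gen.h, Gen.i, Gen.h, Gen.i, Gen.h], [Gen.h, Gen.i, Gen.h, Gen.i, Gen.h, Gen.i], 6))))
  (CT.node 2
  (CT.node 1
  (CT.node 0
  (CT.leaf ([Gen.j, Gen.i, Gen.j, Gen.i], [Gen.i, Gen.j, Gen.i, Gen.j], [Gen.j, Gen.i, Gen.j, Gen.i], 4))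
  (CT.leaf ([Gen.l, Gen.h, Gen.f, Gen.e, Gen.d, Gen.c, Gen.b, Gen.a, Gen.h, Gen.f, Gen.e, Gen.d, Gen.c, Gen.b, Gen.a, Gen.h, Gen.f, Gen.e, Gen.d, Gen.c, Gen.b, Gen.a, Gen.h, Gen.f, Gen.e, Gen.d, Gen.c, Gen.b, Gen.a, Gen.h, Gen.f, Gen.e, Gen.d, Gen.c, Gen.b, Gen.a, Gen.h, Gen.f, Gen.e, Gen.d, Gen.c, Gen.b, Gen.a, Gen.h, Gen.f, Gen.e, Gen.d, Gen.c, Gen.b, Gen.a, Gen.h, Gen.f, Gen.e, Gen.d, Gen.c, Gen.b, Gen.a, Gen.h, Gen.f, Gen.e, Gen.d, Gen.c, Gen.b, Gen.a], [Gen.a, Gen.b, Gen.c, Gen.d, Gen.e, Gen.f, Gen.h, Gen.a, Gen.b, Gen.c, Gen.d, Gen.e, Gen.f, Gen.h, Gen.a, Gen.b, Gen.c, Gen.d, Gen.e, Gen.f, Gen.h, Gen.a, Gen.b, Gen.c, Gen.d, Gen.e, Gen.f, Gen.h, Gen.a, Gen.b, Gen.c, Gen.d, Gen.e, Gen.f, Gen.h, Gen.a, Gen.b, Gen.c, Gen.d, Gen.e, Gen.f, Gen.h, Gen.a, Gen.b, Gen.c,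 Gen.d, Gen.e, Gen.f, Gen.h, Gen.a, Gen.b, Gen.c, Gen.d, Gen.e, Gen.f, Gen.h, Gen.a, Gen.b, Gen.c, Gen.d, Gen.e, Gen.f, Gen.h, Gen.l], [Gen.l, Gen.h, Gen.f, Gen.e, Gen.d, Gen.c, Gen.b, Gen.a, Gen.h, Gen.f, Gen.e, Gen.d, Gen.c, Gen.b, Gen.a, Gen.h, Gen.f, Gen.e, Gen.d, Gen.c, Gen.b, Gen.a, Gen.h, Gen.f, Gen.e, Gen.d, Gen.c, Gen.b, Gen.a, Gen.h, Gen.f, Gen.e, Gen.d, Gen.c, Gen.b, Gen.a, Gen.h, Gen.f, Gen.e, Gen.d, Gen.c, Gen.b, Gen.a, Gen.h, Gen.f, Gen.e, Gen.d, Gen.c, Gen.b, Gen.a, Gen.h, Gen.f, Gen.e, Gen.d, Gen.c, Gen.b, Gen.a, Gen.h, Gen.f, Gen.e, Gen.d, Gen.c, Gen.b, Gen.a], 64)))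
  (CT.leaf ([Gen.d, Gen.c, Gen.b, Gen.a, Gen.k, Gen.l, Gen.d, Gen.e, Gen.f, Gen.g, Gen.j, Gen.d, Gen.h, Gen.i, Gen.d, Gen.c, Gen.b, Gen.a, Gen.k, Gen.l, Gen.d, Gen.e, Gen.f, Gen.g, Gen.j, Gen.d, Gen.h, Gen.i, Gen.d, Gen.c, Gen.b, Gen.a, Gen.k, Gen.l, Gen.d, Gen.e, Gen.f, Gen.g, Gen.j, Gen.d, Gen.h, Gen.i, Gen.d, Gen.c, Gen.b, Gen.a, Gen.k, Gen.l, Gen.d, Gen.e, Gen.f, Gen.g, Gen.j, Gen.d, Gen.h, Gen.i, Gen.d, Gen.c, Gen.b, Gen.a, Gen.k, Gen.l, Gen.d, Gen.e, Gen.f, Gen.g, Gen.j, Gen.d, Gen.h, Gen.i, Gen.d, Gen.c, Gen.b, Gen.a, Gen.k, Gen.l, Gen.d, Gen.e, Gen.f, Gen.g, Gen.j, Gen.d, Gen.h, Gen.i, Gen.d, Gen.c, Gen.b, Gen.a, Gen.k, Gen.l, Gen.d, Gen.e, Gen.f, Gen.g, Gen.j, Gen.d, Gen.h, Gen.i, Gen.d, Gen.c, Gen.b, Gen.a, Gen.k, Gen.l, Gen.d, Gen.e, Gen.f, Gen.g, Gen.j,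 Gen.d, Gen.h, Gen.i, Gen.d, Gen.c, Gen.b, Gen.a, Gen.k, Gen.l, Gen.d, Gen.e, Gen.f, Gen.g, Gen.j, Gen.d, Gen.h, Gen.i, Gen.d, Gen.c, Gen.b, Gen.a, Gen.k, Gen.l, Gen.d, Gen.e, Gen.f, Gen.g, Gen.j, Gen.d, Gen.h, Gen.i, Gen.d, Gen.c, Gen.b, Gen.a, Gen.k, Gen.l, Gen.d, Gen.e, Gen.f, Gen.g, Gen.j, Gen.d, Gen.h, Gen.i, Gen.d, Gen.c, Gen.b, Gen.a, Gen.k, Gen.l, Gen.d, Gen.e, Gen.f, Gen.g, Gen.j, Gen.d, Gen.h, Gen.i, Gen.d, Gen.c, Gen.b, Gen.a, Gen.k, Gen.l, Gen.d, Gen.e, Gen.f, Gen.g, Gen.j, Gen.d, Gen.h, Gen.i, Gen.d, Gen.c, Gen.b, Gen.a, Gen.k, Gen.l, Gen.d, Gen.e, Gen.f, Gen.g, Gen.j, Gen.d, Gen.h, Gen.i, Gen.d, Gen.c, Gen.b, Gen.a, Gen.k, Gen.l, Gen.d, Gen.e, Gen.f, Gen.g, Gen.j, Gen.d, Gen.h, Gen.i, Gen.d, Gen.c, Gen.b, Gen.a, Gen.k, Gen.l, Gen.d, Gen.e, Gen.f, Gen.g,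 Gen.j, Gen.d, Gen.h, Gen.i, Gen.d, Gen.c, Gen.b, Gen.a, Gen.k, Gen.l, Gen.d, Gen.e, Gen.f, Gen.g, Gen.j, Gen.d, Gen.h, Gen.i], [Gen.i, Gen.h, Gen.d, Gen.j, Gen.g, Gen.f, Gen.e, Gen.d, Gen.l, Gen.k, Gen.a, Gen.b, Gen.c, Gen.d, Gen.i, Gen.h, Gen.d, Gen.j, Gen.g, Gen.f, Gen.e, Gen.d, Gen.l, Gen.k, Gen.a, Gen.b, Gen.c, Gen.d, Gen.i, Gen.h, Gen.d, Gen.j, Gen.g, Gen.f, Gen.e, Gen.d, Gen.l, Gen.k, Gen.a, Gen.b, Gen.c, Gen.d, Gen.i, Gen.h, Gen.d, Gen.j, Gen.g, Gen.f, Gen.e, Gen.d, Gen.l, Gen.k, Gen.a, Gen.b, Gen.c, Gen.d, Gen.i, Gen.h, Gen.d, Gen.j, Gen.g, Gen.f, Gen.e, Gen.d, Gen.l, Gen.k, Gen.a, Gen.b, Gen.c, Gen.d, Gen.i, Gen.h, Gen.d, Gen.j, Gen.g, Gen.f, Gen.e, Gen.d, Gen.l, Gen.k, Gen.a, Gen.b, Gen.c, Gen.d, Gen.i, Gen.h, Gen.d, Gen.j, Gen.g, Gen.f, Gen.e, Gen.d, Gen.l,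 Gen.k, Gen.a, Gen.b, Gen.c, Gen.d, Gen.i, Gen.h, Gen.d, Gen.j, Gen.g, Gen.f, Gen.e, Gen.d, Gen.l, Gen.k, Gen.a, Gen.b, Gen.c, Gen.d, Gen.i, Gen.h, Gen.d, Gen.j, Gen.g, Gen.f, Gen.e, Gen.d, Gen.l, Gen.k, Gen.a, Gen.b, Gen.c, Gen.d, Gen.i, Gen.h, Gen.d, Gen.j, Gen.g, Gen.f, Gen.e, Gen.d, Gen.l, Gen.k, Gen.a, Gen.b, Gen.c, Gen.d, Gen.i, Gen.h, Gen.d, Gen.j, Gen.g, Gen.f, Gen.e, Gen.d, Gen.l, Gen.k, Gen.a, Gen.b, Gen.c, Gen.d, Gen.i, Gen.h, Gen.d, Gen.j, Gen.g, Gen.f, Gen.e, Gen.d, Gen.l, Gen.k, Gen.a, Gen.b, Gen.c, Gen.d, Gen.i, Gen.h, Gen.d, Gen.j, Gen.g, Gen.f, Gen.e, Gen.d, Gen.l, Gen.k, Gen.a, Gen.b, Gen.c, Gen.d, Gen.i, Gen.h, Gen.d, Gen.j, Gen.g, Gen.f, Gen.e, Gen.d, Gen.l, Gen.k, Gen.a, Gen.b, Gen.c, Gen.d, Gen.i, Gen.h, Gen.d, Gen.j, Gen.g, Gen.f, Gen.e, Gen.d,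 Gen.l, Gen.k, Gen.a, Gen.b, Gen.c, Gen.d, Gen.i, Gen.h, Gen.d, Gen.j, Gen.g, Gen.f, Gen.e, Gen.d, Gen.l, Gen.k, Gen.a, Gen.b, Gen.c, Gen.d, Gen.i, Gen.h, Gen.d, Gen.j, Gen.g, Gen.f, Gen.e, Gen.d, Gen.l, Gen.k, Gen.a, Gen.b, Gen.c, Gen.d], [Gen.d, Gen.c, Gen.b, Gen.a, Gen.k, Gen.l, Gen.d, Gen.e, Gen.f, Gen.g, Gen.j, Gen.d, Gen.h, Gen.i, Gen.d, Gen.c, Gen.b, Gen.a, Gen.k, Gen.l, Gen.d, Gen.e, Gen.f, Gen.g, Gen.j, Gen.d, Gen.h, Gen.i, Gen.d, Gen.c, Gen.b, Gen.a, Gen.k, Gen.l, Gen.d, Gen.e, Gen.f, Gen.g, Gen.j, Gen.d, Gen.h, Gen.i, Gen.d, Gen.c, Gen.b, Gen.a, Gen.k, Gen.l, Gen.d, Gen.e, Gen.f, Gen.g, Gen.j, Gen.d, Gen.h, Gen.i, Gen.d, Gen.c, Gen.b, Gen.a, Gen.k, Gen.l, Gen.d, Gen.e, Gen.f, Gen.g, Gen.j, Gen.d, Gen.h, Gen.i, Gen.d, Gen.c, Gen.b, Gen.a, Gen.k, Gen.l, Gen.d,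 Gen.e, Gen.f, Gen.g, Gen.j, Gen.d, Gen.h, Gen.i, Gen.d, Gen.c, Gen.b, Gen.a, Gen.k, Gen.l, Gen.d, Gen.e, Gen.f, Gen.g, Gen.j, Gen.d, Gen.h, Gen.i, Gen.d, Gen.c, Gen.b, Gen.a, Gen.k, Gen.l, Gen.d, Gen.e, Gen.f, Gen.g, Gen.j, Gen.d, Gen.h, Gen.i, Gen.d, Gen.c, Gen.b, Gen.a, Gen.k, Gen.l, Gen.d, Gen.e, Gen.f, Gen.g, Gen.j, Gen.d, Gen.h, Gen.i, Gen.d, Gen.c, Gen.b, Gen.a, Gen.k, Gen.l, Gen.d, Gen.e, Gen.f, Gen.g, Gen.j, Gen.d, Gen.h, Gen.i, Gen.d, Gen.c, Gen.b, Gen.a, Gen.k, Gen.l, Gen.d, Gen.e, Gen.f, Gen.g, Gen.j, Gen.d, Gen.h, Gen.i, Gen.d, Gen.c, Gen.b, Gen.a, Gen.k, Gen.l, Gen.d, Gen.e, Gen.f, Gen.g, Gen.j, Gen.d, Gen.h, Gen.i, Gen.d, Gen.c, Gen.b, Gen.a, Gen.k, Gen.l, Gen.d, Gen.e, Gen.f, Gen.g, Gen.j, Gen.d, Gen.h, Gen.i, Gen.d, Gen.c, Gen.b, Gen.a, Gen.k, Gen.l,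 Gen.d, Gen.e, Gen.f, Gen.g, Gen.j, Gen.d, Gen.h, Gen.i, Gen.d, Gen.c, Gen.b, Gen.a, Gen.k, Gen.l, Gen.d, Gen.e, Gen.f, Gen.g, Gen.j, Gen.d, Gen.h, Gen.i, Gen.d, Gen.c, Gen.b, Gen.a, Gen.k, Gen.l, Gen.d, Gen.e, Gen.f, Gen.g, Gen.j, Gen.d, Gen.h, Gen.i, Gen.d, Gen.c, Gen.b, Gen.a, Gen.k, Gen.l, Gen.d, Gen.e, Gen.f, Gen.g, Gen.j, Gen.d, Gen.h, Gen.i], 238)))
  (CT.node 0
  (CT.leaf ([Gen.a], [Gen.a], [Gen.a], 1))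
  (CT.leaf ([Gen.b], [Gen.b], [Gen.b], 1)))))
  (CT.node 4
  (CT.node 2
  (CT.node 1
  (CT.node 0
  (CT.leaf ([Gen.c], [Gen.c], [Gen.c], 1))
  (CT.leaf ([Gen.d], [Gen.d], [Gen.d], 1)))
  (CT.leaf ([Gen.e], [Gen.e], [Gen.e], 1)))
  (CT.node 0
  (CT.leaf ([Gen.f], [Gen.f], [Gen.f], 1))
  (CT.leaf ([Gen.g], [Gen.g], [Gen.g], 1))))
  (CT.node 1
  (CT.node 0
  (CT.leaf ([Gen.h], [Gen.h], [Gen.h], 1))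
  (CT.leaf ([Gen.i], [Gen.i], [Gen.i], 1)))
  (CT.node 0
  (CT.leaf ([Gen.j], [Gen.j], [Gen.j], 1))
  (CT.leaf ([Gen.l], [Gen.l], [Gen.l], 1))))))))

def ncyc : ℕ := 79
def nRel : ℕ := 68

/-- cycle number `ci` (empty beyond the last) -/
noncomputable def cycAt (ci : ℕ) : CycT := Bool.rec (motive := fun _ => CycT) ([], [], [], 0) (cycTree.get ci) (nlt ci ncyc)

/-- letterwise inverted cycle words -/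
noncomputable def cycI (ci : ℕ) : List Ltr := (cycAt ci).2.2.1

/-- the Coxeter pairs, one order each, with their labels -/
def coxItems : List (Gen × Gen × ℕ) := [
  (Gen.l, Gen.k, 3),
  (Gen.l, Gen.a, 2),
  (Gen.l, Gen.b, 2),
  (Gen.l, Gen.c, 2),
  (Gen.l, Gen.d, 2),
  (Gen.l, Gen.e, 2),
  (Gen.l, Gen.f, 2),
  (Gen.l, Gen.g, 2),
  (Gen.l, Gen.h, 2),
  (Gen.l, Gen.j, 2),
  (Gen.l, Gen.i, 2),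
  (Gen.k, Gen.a, 3),
  (Gen.k, Gen.b, 2),
  (Gen.k, Gen.c, 2),
  (Gen.k, Gen.d, 2),
  (Gen.k, Gen.e, 2),
  (Gen.k, Gen.f, 2),
  (Gen.k, Gen.g, 2),
  (Gen.k, Gen.h, 2),
  (Gen.k, Gen.j, 2),
  (Gen.k, Gen.i, 2),
  (Gen.a, Gen.b, 3),
  (Gen.a, Gen.c, 2),
  (Gen.a, Gen.d, 2),
  (Gen.a, Gen.e, 2),
  (Gen.a, Gen.f, 2),
  (Gen.a, Gen.g, 2),
  (Gen.a, Gen.h, 2),
  (Gen.a, Gen.j, 2),
  (Gen.a, Gen.i, 2),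
  (Gen.b, Gen.c, 3),
  (Gen.b, Gen.d, 2),
  (Gen.b, Gen.e, 2),
  (Gen.b, Gen.f, 2),
  (Gen.b, Gen.g, 2),
  (Gen.b, Gen.h, 2),
  (Gen.b, Gen.j, 2),
  (Gen.b, Gen.i, 2),
  (Gen.c, Gen.d, 3),
  (Gen.c, Gen.e, 2),
  (Gen.c, Gen.f, 2),
  (Gen.c, Gen.g, 2),
  (Gen.c, Gen.h, 2),
  (Gen.c, Gen.j, 2),
  (Gen.c, Gen.i, 2),
  (Gen.d, Gen.e, 3),
  (Gen.d, Gen.f, 2),
  (Gen.d, Gen.g, 2),
  (Gen.d, Gen.h, 3),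
  (Gen.d, Gen.j, 2),
  (Gen.d, Gen.i, 2),
  (Gen.e, Gen.f, 3),
  (Gen.e, Gen.g, 2),
  (Gen.e, Gen.h, 2),
  (Gen.e, Gen.j, 2),
  (Gen.e, Gen.i, 2),
  (Gen.f, Gen.g, 3),
  (Gen.f, Gen.h, 2),
  (Gen.f, Gen.j, 2),
  (Gen.f, Gen.i, 2),
  (Gen.g, Gen.h, 2),
  (Gen.g, Gen.j, 3),
  (Gen.g, Gen.i, 2),
  (Gen.h, Gen.j, 2),
  (Gen.h, Gen.i, 3),
  (Gen.j, Gen.i, 2)]

/-- the Coxeter pairs as letters with the relator words -/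
def coxPairs : List (Ltr × Ltr × List Ltr) := [
  (Gen.l, Gen.k, [Gen.l, Gen.k, Gen.l, Gen.k, Gen.l, Gen.k]),
  (Gen.l, Gen.a, [Gen.l, Gen.a, Gen.l, Gen.a]),
  (Gen.l, Gen.b, [Gen.l, Gen.b, Gen.l, Gen.b]),
  (Gen.l, Gen.c, [Gen.l, Gen.c, Gen.l, Gen.c]),
  (Gen.l, Gen.d, [Gen.l, Gen.d, Gen.l, Gen.d]),
  (Gen.l, Gen.e, [Gen.l, Gen.e, Gen.l, Gen.e]),
  (Gen.l, Gen.f, [Gen.l, Gen.f, Gen.l, Gen.f]),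
  (Gen.l, Gen.g, [Gen.l, Gen.g, Gen.l, Gen.g]),
  (Gen.l, Gen.h, [Gen.l, Gen.h, Gen.l, Gen.h]),
  (Gen.l, Gen.j, [Gen.l, Gen.j, Gen.l, Gen.j]),
  (Gen.l, Gen.i, [Gen.l, Gen.i, Gen.l, Gen.i]),
  (Gen.k, Gen.a, [Gen.k, Gen.a, Gen.k, Gen.a, Gen.k, Gen.a]),
  (Gen.k, Gen.b, [Gen.k, Gen.b, Gen.k, Gen.b]),
  (Gen.k, Gen.c, [Gen.k, Gen.c, Gen.k, Gen.c]),
  (Gen.k, Gen.d, [Gen.k, Gen.d, Gen.k, Gen.d]),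
  (Gen.k, Gen.e, [Gen.k, Gen.e, Gen.k, Gen.e]),
  (Gen.k, Gen.f, [Gen.k, Gen.f, Gen.k, Gen.f]),
  (Gen.k, Gen.g, [Gen.k, Gen.g, Gen.k, Gen.g]),
  (Gen.k, Gen.h, [Gen.k, Gen.h, Gen.k, Gen.h]),
  (Gen.k, Gen.j, [Gen.k, Gen.j, Gen.k, Gen.j]),
  (Gen.k, Gen.i, [Gen.k, Gen.i, Gen.k, Gen.i]),
  (Gen.a, Gen.b, [Gen.a, Gen.b, Gen.a, Gen.b, Gen.a, Gen.b]),
  (Gen.a, Gen.c, [Gen.a, Gen.c, Gen.a, Gen.c]),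
  (Gen.a, Gen.d, [Gen.a, Gen.d, Gen.a, Gen.d]),
  (Gen.a, Gen.e, [Gen.a, Gen.e, Gen.a, Gen.e]),
  (Gen.a, Gen.f, [Gen.a, Gen.f, Gen.a, Gen.f]),
  (Gen.a, Gen.g, [Gen.a, Gen.g, Gen.a, Gen.g]),
  (Gen.a, Gen.h, [Gen.a, Gen.h, Gen.a, Gen.h]),
  (Gen.a, Gen.j, [Gen.a, Gen.j, Gen.a, Gen.j]),
  (Gen.a, Gen.i, [Gen.a, Gen.i, Gen.a, Gen.i]),
  (Gen.b, Gen.c, [Gen.b, Gen.c, Gen.b, Gen.c, Gen.b, Gen.c]),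
  (Gen.b, Gen.d, [Gen.b, Gen.d, Gen.b, Gen.d]),
  (Gen.b, Gen.e, [Gen.b, Gen.e, Gen.b, Gen.e]),
  (Gen.b, Gen.f, [Gen.b, Gen.f, Gen.b, Gen.f]),
  (Gen.b, Gen.g, [Gen.b, Gen.g, Gen.b, Gen.g]),
  (Gen.b, Gen.h, [Gen.b, Gen.h, Gen.b, Gen.h]),
  (Gen.b, Gen.j, [Gen.b, Gen.j, Gen.b, Gen.j]),
  (Gen.b, Gen.i, [Gen.b, Gen.i, Gen.b, Gen.i]),
  (Gen.c, Gen.d, [Gen.c, Gen.d, Gen.c, Gen.d, Gen.c, Gen.d]),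
  (Gen.c, Gen.e, [Gen.c, Gen.e, Gen.c, Gen.e]),
  (Gen.c, Gen.f, [Gen.c, Gen.f, Gen.c, Gen.f]),
  (Gen.c, Gen.g, [Gen.c, Gen.g, Gen.c, Gen.g]),
  (Gen.c, Gen.h, [Gen.c, Gen.h, Gen.c, Gen.h]),
  (Gen.c, Gen.j, [Gen.c, Gen.j, Gen.c, Gen.j]),
  (Gen.c, Gen.i, [Gen.c, Gen.i, Gen.c, Gen.i]),
  (Gen.d, Gen.e, [Gen.d, Gen.e, Gen.d, Gen.e, Gen.d, Gen.e]),
  (Gen.d, Gen.f, [Gen.d, Gen.f, Gen.d, Gen.f]),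
  (Gen.d, Gen.g, [Gen.d, Gen.g, Gen.d, Gen.g]),
  (Gen.d, Gen.h, [Gen.d, Gen.h, Gen.d, Gen.h, Gen.d, Gen.h]),
  (Gen.d, Gen.j, [Gen.d, Gen.j, Gen.d, Gen.j]),
  (Gen.d, Gen.i, [Gen.d, Gen.i, Gen.d, Gen.i]),
  (Gen.e, Gen.f, [Gen.e, Gen.f, Gen.e, Gen.f, Gen.e, Gen.f]),
  (Gen.e, Gen.g, [Gen.e, Gen.g, Gen.e, Gen.g]),
  (Gen.e, Gen.h, [Gen.e, Gen.h, Gen.e, Gen.h]),
  (Gen.e, Gen.j, [Gen.e, Gen.j, Gen.e, Gen.j]),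
  (Gen.e, Gen.i, [Gen.e, Gen.i, Gen.e, Gen.i]),
  (Gen.f, Gen.g, [Gen.f, Gen.g, Gen.f, Gen.g, Gen.f, Gen.g]),
  (Gen.f, Gen.h, [Gen.f, Gen.h, Gen.f, Gen.h]),
  (Gen.f, Gen.j, [Gen.f, Gen.j, Gen.f, Gen.j]),
  (Gen.f, Gen.i, [Gen.f, Gen.i, Gen.f, Gen.i]),
  (Gen.g, Gen.h, [Gen.g, Gen.h, Gen.g, Gen.h]),
  (Gen.g, Gen.j, [Gen.g, Gen.j, Gen.g, Gen.j, Gen.g, Gen.j]),
  (Gen.g, Gen.i, [Gen.g, Gen.i, Gen.g, Gen.i]),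
  (Gen.h, Gen.j, [Gen.h, Gen.j, Gen.h, Gen.j]),
  (Gen.h, Gen.i, [Gen.h, Gen.i, Gen.h, Gen.i, Gen.h, Gen.i]),
  (Gen.j, Gen.i, [Gen.j, Gen.i, Gen.j, Gen.i])]

/-- relators checked by the power method: (table, prefix, base word, suffix, exponent) -/
def powItems : List (ℕ × List Ltr × List Ltr × List Ltr × ℕ) := [
  (0, [Gen.l], [Gen.h, Gen.f, Gen.e, Gen.d, Gen.c, Gen.b, Gen.a], [], 9),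
  (1, [], [Gen.d, Gen.c, Gen.b, Gen.a, Gen.k, Gen.l, Gen.d, Gen.e, Gen.f, Gen.g, Gen.j, Gen.d, Gen.h, Gen.i], [], 17)]

/-- relators checked letter by letter -/
def plainWords : List (List Ltr) := [
  ]

/-- expressions of the further relators -/
def extraE : List (WE Gen) := [
  (WE.mul (WE.of Gen.l) (WE.inv (WE.pow (WE.mul (WE.mul (WE.mul (WE.mul (WE.mul (WE.mul (WE.of Gen.a) (WE.of Gen.b)) (WE.of Gen.c)) (WE.of Gen.d)) (WE.of Gen.e)) (WE.of Gen.f)) (WE.of Gen.h)) 9))),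
  (WE.pow (WE.mul (WE.mul (WE.mul (WE.mul (WE.mul (WE.mul (WE.mul (WE.mul (WE.mul (WE.mul (WE.mul (WE.mul (WE.mul (WE.of Gen.d) (WE.of Gen.c)) (WE.of Gen.b)) (WE.of Gen.a)) (WE.of Gen.k)) (WE.of Gen.l)) (WE.of Gen.d)) (WE.of Gen.e)) (WE.of Gen.f)) (WE.of Gen.g)) (WE.of Gen.j)) (WE.of Gen.d)) (WE.of Gen.h)) (WE.of Gen.i)) 17)]

/-- expressions of the relators used as cycles -/
def relE : List (WE Gen) :=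
  coxItems.map (fun it => WE.pow (WE.mul (WE.of it.1) (WE.of it.2.1)) it.2.2) ++ extraE

/-- expressions of the subgroup generators -/
def subE : List (WE Gen) := [
  (WE.of Gen.a),
  (WE.of Gen.b),
  (WE.of Gen.c),
  (WE.of Gen.d),
  (WE.of Gen.e),
  (WE.of Gen.f),
  (WE.of Gen.g),
  (WE.of Gen.h),
  (WE.of Gen.i),
  (WE.of Gen.j),
  (WE.of Gen.l)]

def NN : ℕ := 350176
def nn : ℕ := 306936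
def RR : ℕ := 3835148

/-- the certificate -/
noncomputable def C : Cert Ltr where
  par := fun k => Nat.land (treeE k) 524287
  gn := fun k => ltrOf (Nat.land (Nat.shiftRight (treeE k) 19) 15)
  ent := fun x u => below NN u (Nat.land (entH x u) 524287)
  rkE := fun x u => Nat.shiftRight (entH x u) 19
  jEk := fun x u => Nat.land (jEc x u) 3
  jEa := fun x u => Nat.land (Nat.shiftRight (jEc x u) 2) 524287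
  jEp := fun x u => Nat.land (Nat.shiftRight (jEc x u) 21) 255
  jEz := fun x u => Nat.shiftRight (jEc x u) 29
  al := fun k => below NN k (Nat.land (alH k) 524287)
  rkA := fun k => Nat.shiftRight (alH k) 19
  jAx := fun k => ltrOf (Nat.land (jAc k) 15)
  jA1k := fun k => Nat.land (Nat.shiftRight (jAc k) 4) 3
  jA1a := fun k => Nat.land (Nat.shiftRight (jAc k) 6) 524287
  jA1p := fun k => Nat.land (Nat.shiftRight (jAc k) 25) 255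
  jA1z := fun k => Nat.land (Nat.shiftRight (jAc k) 33) 524287
  jA2k := fun k => Nat.land (Nat.shiftRight (jAc k) 52) 3
  jA2a := fun k => Nat.land (Nat.shiftRight (jAc k) 54) 524287
  jA2p := fun k => Nat.land (Nat.shiftRight (jAc k) 73) 255
  jA2z := fun k => Nat.land (Nat.shiftRight (jAc k) 81) 524287
  cycW := fun ci => (cycAt ci).1
  cycR := fun ci => (cycAt ci).2.1
  cycL := fun ci => (cycAt ci).2.2.2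
  cycA := fun ci => Nat.ble nRel ci
  fuel := 5

/-- row check of the permutation representation -/
noncomputable def permP (i : ℕ) : Bool :=
  band (permRowOK2 tf binv nn letters i) (band (coxRowOK tf coxPairs i)
    (band (powRowsOK tf tau powItems i) (relRowOK tf plainWords i)))
/-- row check of the facts -/
noncomputable def factP (u : ℕ) : Bool :=
  band (allList (fun x => checkE2 C binv cycI x u) letters)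
    (band (checkA' C binv cycI u) (guard NN (treeRowOK C tf fin) u))
/-- row check of the closure -/
noncomputable def closedP (i : ℕ) : Bool := closedRowOK C tf fin rowOf NN RR letters i

end Cfsg.Agent.Lib.Helper28.Fi24x306936
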